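import Cfsg.Agent.H24.CharBasic
import Cfsg.Agent.H13.AbelianDegree
import Cfsg.Agent.H20.LocalRing

/-!
A character of defect zero vanishes at non-trivial `p`-elements.
-/

set_option autoImplicit false
set_option linter.unusedSectionVars false
set_option linter.style.haveILetI false

open Cfsg Module
open scoped ComplexConjugate

namespace H24

universe u

/-- Idempotent matrices congruent modulo a proper ideal of a local ring have equal traces. -/
theorem trace_eq_of_congr {R : Type*} [CommRing R] {κ : Type*} [CommRing κ] (φ : R →+* κ)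
    (hunit : ∀ r : R, φ r = 1 → IsUnit r) {ι : Type*} [Fintype ι] [DecidableEq ι]
    (A B : Matrix ι ι R) (hA : A * A = A) (hB : B * B = B) (h : A.map φ = B.map φ) :
    A.trace = B.trace := by
  let U := A * B + (1 - A) * (1 - B)
  have hU : U.map φ = 1 := by
    have hB' : B.map φ * B.map φ = B.map φ := by rw [← Matrix.map_mul, hB]
    have e : φ.mapMatrix U = φ.mapMatrix A * φ.mapMatrix B +
        (1 - φ.mapMatrix A) * (1 - φ.mapMatrix B) := by
      simp [U, map_add, map_mul, map_sub]
    simp only [RingHom.mapMatrix_apply, h] at e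
    rw [e]
    simp only [mul_sub, sub_mul, mul_one, one_mul, hB', sub_self, sub_zero]
    abel
  have hdet : IsUnit U.det := hunit _ (by rw [RingHom.map_det, RingHom.mapMatrix_apply, hU, Matrix.det_one])
  have hAU : A * U = U * B := by
    have h1 : A * (1 - A) = 0 := by rw [mul_sub, mul_one, hA, sub_self]
    have h2 : (1 - B) * B = 0 := by rw [sub_mul, one_mul, hB, sub_self]
    simp only [U, mul_add, add_mul]
    rw [← mul_assoc, ← mul_assoc A (1 - A), h1, hA, zero_mul, add_zero, mul_assoc A B B, hB,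
      mul_assoc (1 - A) (1 - B) B, h2, mul_zero, add_zero]
  calc A.trace = (U⁻¹ * (A * U)).trace := by
        rw [Matrix.trace_mul_comm, mul_assoc, Matrix.mul_nonsing_inv U hdet, mul_one]
    _ = B.trace := by rw [hAU, ← mul_assoc, Matrix.nonsing_inv_mul U hdet, one_mul]

variable {G : Type u} [Group G] [Fintype G]

theorem sum_irr_mul_inv (χ : IrrCharacter G) (c : G) :
    ∑ g : G, (χ : G → ℂ) g * (χ : G → ℂ) (g⁻¹ * c) =
      (Nat.card G : ℂ) / (χ : G → ℂ) 1 * (χ : G → ℂ) c := by
  obtain ⟨n, ρ, hρ, h⟩ := χ.2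
  haveI := hρ
  have hinn := H12.sum_mul_conj_eq_card_mul (χ : G → ℂ) χ
  rw [H12.classInner_irr_self, mul_one, ← h] at hinn
  rw [← h]
  let f : G → ℂ := fun g => ρ.character g⁻¹
  have hf : IsClassFunction G f := fun g x => by
    show ρ.character (x * g * x⁻¹)⁻¹ = ρ.character g⁻¹
    rw [show (x * g * x⁻¹)⁻¹ = x * g⁻¹ * x⁻¹ by group, Representation.char_conj]
  have h1 : ∑ g : G, ρ.character g * ρ.character (g⁻¹ * c) =
      LinearMap.trace ℂ _ (H12.avgOp ρ f * ρ c) := by
    rw [← Equiv.sum_comp (Equiv.inv G)]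
    have : H12.avgOp ρ f * ρ c = ∑ g : G, f g • ρ (g * c) := by
      apply LinearMap.ext
      intro v
      simp [Module.End.mul_apply, H12.avgOp_apply, map_mul]
    rw [this, map_sum]
    refine Finset.sum_congr rfl fun g _ => ?_
    simp [f, Representation.character]
  have h2 : ∑ g : G, f g * ρ.character g = (Nat.card G : ℂ) := by
    rw [← hinn]
    refine Finset.sum_congr rfl fun g _ => ?_
    rw [mul_comm, ← H12.character_inv ρ g]
  rw [h1, H12.avgOp_eq_smul ρ hf, h2, smul_mul_assoc, one_mul, map_smul, smul_eq_mul,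
    Representation.char_one]
  rfl

/-- Hypothesis `hdz` says that `χ(1) / |G|` is a local integer, i.e. `χ` has defect zero. -/
theorem vanish_of_defect_zero {p : ℕ} {M : Ideal AlgInt} (hM : IsPModular p M) (χ : IrrCharacter G)
    (hdz : (charDegree (χ : G → ℂ)).factorization p = (Nat.card G).factorization p)
    (x : G) (hx1 : x ≠ 1) (hx : ∃ j : ℕ, x ^ p ^ j = 1) : (χ : G → ℂ) x = 0 := by
  classical
  haveI := H20.isPrime_of_modular hM
  obtain ⟨j, hj⟩ := hx
  have hp := hM.1
  set d := charDegree (χ : G → ℂ) with hd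
  obtain ⟨m, hm⟩ := charDegree_dvd_card χ
  have hd0 : d ≠ 0 := (irr_pos χ).ne'
  have hm0 : m ≠ 0 := fun h => Nat.card_pos.ne' (by rw [hm, h, mul_zero])
  have hmp : ¬ p ∣ m := by
    intro h
    have h1 : (Nat.card G).factorization p = d.factorization p + m.factorization p := by
      rw [hm, ← hd, Nat.factorization_mul hd0 hm0]; rfl
    have h2 : 0 < m.factorization p := hp.factorization_pos_of_dvd hm0 h
    rw [← hdz] at h1
    omega
  let c : ℂ := (χ : G → ℂ) 1 / (Nat.card G : ℂ)
  have hd0' : (d : ℂ) ≠ 0 := Nat.cast_ne_zero.2 hd0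
  have hc : c = (m : ℂ)⁻¹ := by
    simp only [c, irr_one, hm, ← hd, Nat.cast_mul]
    field_simp
  have hcO : MemLocalRing M c := by rw [hc]; exact H20.inv_natCast_memRing hM hmp
  have hc0 : c ≠ 0 := by rw [hc]; exact inv_ne_zero (Nat.cast_ne_zero.2 hm0)
  let C : Subgroup G := Subgroup.zpowers x
  haveI : Fintype C := Fintype.ofFinite C
  haveI : Fintype (G ⧸ C) := Fintype.ofFinite _
  have hCc : ∀ a b : C, a * b = b * a := fun a b => mul_comm' a b
  have hpow : ∀ u : C, u ^ p ^ j = 1 := by
    rintro ⟨u, hu⟩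
    obtain ⟨k, rfl⟩ := Subgroup.mem_zpowers_iff.1 hu
    apply Subtype.ext
    push_cast
    rw [← zpow_natCast, ← zpow_mul, mul_comm, zpow_mul, zpow_natCast, hj, one_zpow]
  let Mat : (C →* ℂ) → Matrix (G ⧸ C) (G ⧸ C) ℂ := fun lam => Matrix.of fun q q' =>
    ∑ u : C, lam u * (c * (χ : G → ℂ) (q.out⁻¹ * q'.out * u))
  have hidem : ∀ lam, Mat lam * Mat lam = Mat lam := by
    intro lam
    ext r s
    simp only [Matrix.mul_apply, Mat, Matrix.of_apply, Finset.sum_mul, Finset.mul_sum]
    have hT : ∀ (t : G ⧸ C) (u w : C), lam u * (c * (χ : G → ℂ) (r.out⁻¹ * t.out * u)) *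
        (lam w * (c * (χ : G → ℂ) (t.out⁻¹ * s.out * w))) = lam (w * u) * (c * c) *
        ((χ : G → ℂ) (r.out⁻¹ * (t.out * u)) * (χ : G → ℂ) ((t.out * u)⁻¹ * (s.out * (w * u : C)))) := by
      intro t u w
      have e1 : (χ : G → ℂ) (t.out⁻¹ * s.out * w) =
          (χ : G → ℂ) ((t.out * u)⁻¹ * (s.out * (w * u : C))) := by
        rw [← H12.irr_isClassFunction χ (t.out⁻¹ * s.out * w) ((u : G)⁻¹)]
        congr 1
        push_cast
        group
      rw [e1, map_mul, mul_assoc r.out⁻¹]
      ring
    simp only [hT]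
    conv_lhs => enter [2, t]; rw [Finset.sum_comm]
    have hz : ∀ (t : G ⧸ C) (u : C), ∑ w : C, lam (w * u) * (c * c) *
        ((χ : G → ℂ) (r.out⁻¹ * (t.out * u)) * (χ : G → ℂ) ((t.out * u)⁻¹ * (s.out * (w * u : C)))) =
        ∑ z : C, lam z * (c * c) * ((χ : G → ℂ) (r.out⁻¹ * (t.out * u)) *
          (χ : G → ℂ) ((t.out * u)⁻¹ * (s.out * (z : C)))) :=
      fun t u => Fintype.sum_equiv (Equiv.mulRight u) _ _ fun w => rfl
    rw [show (∑ t : G ⧸ C, ∑ u : C, ∑ w : C, lam (w * u) * (c * c) *
        ((χ : G → ℂ) (r.out⁻¹ * (t.out * u)) * (χ : G → ℂ) ((t.out * u)⁻¹ * (s.out * (w * u : C))))) =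
      ∑ g : G, ∑ z : C, lam z * (c * c) * ((χ : G → ℂ) (r.out⁻¹ * g) * (χ : G → ℂ) (g⁻¹ * (s.out * (z : C))))
      from ?_]
    swap
    · simp only [hz]
      rw [← Fintype.sum_prod_type']
      let e : (G ⧸ C) × C ≃ G :=
        { toFun := fun tu => tu.1.out * tu.2
          invFun := fun g => (QuotientGroup.mk g, ⟨(QuotientGroup.mk g : G ⧸ C).out⁻¹ * g,
            QuotientGroup.eq.1 (QuotientGroup.out_eq' _)⟩)
          left_inv := fun tu => by
            have h1 : (QuotientGroup.mk (tu.1.out * (tu.2 : G)) : G ⧸ C) = tu.1 := by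
              rw [QuotientGroup.mk_mul_of_mem _ tu.2.2, QuotientGroup.out_eq']
            apply Prod.ext h1
            apply Subtype.ext
            show (QuotientGroup.mk (tu.1.out * (tu.2 : G)) : G ⧸ C).out⁻¹ * (tu.1.out * tu.2) = tu.2
            rw [h1, inv_mul_cancel_left]
          right_inv := fun g => by simp }
      exact Fintype.sum_equiv e _ _ fun tu => rfl
    rw [Finset.sum_comm]
    refine Finset.sum_congr rfl fun z _ => ?_
    rw [← Finset.mul_sum]
    have e2 : ∑ g : G, (χ : G → ℂ) (r.out⁻¹ * g) * (χ : G → ℂ) (g⁻¹ * (s.out * (z : C))) =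
        c⁻¹ * (χ : G → ℂ) (r.out⁻¹ * s.out * z) := by
      rw [show c⁻¹ = (Nat.card G : ℂ) / (χ : G → ℂ) 1 by simp [c], ← sum_irr_mul_inv]
      refine Fintype.sum_equiv (Equiv.mulLeft r.out⁻¹) _ _ fun g => ?_
      simp [mul_assoc]
    rw [e2]
    field_simp
  have hlamO : ∀ (lam : C →* ℂ) (u : C), lam u ^ p ^ j = 1 := fun lam u => by
    rw [← map_pow, hpow, map_one]
  have hMatO : ∀ lam q q', MemLocalRing M (Mat lam q q') := by
    intro lam q q'
    simp only [Mat, Matrix.of_apply]
    refine H20.mem_O.1 (Subring.sum_mem _ fun u _ => ?_)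
    refine mul_mem (H20.memRing_of_pow_eq_one (pow_pos hp.pos j) (hlamO lam u)) ?_
    exact mul_mem hcO (H20.memRing_of_isIntegral (H12.IsCharacter.isIntegral (H12.isCharacter_irr χ) _))
  let MatO : (C →* ℂ) → Matrix (G ⧸ C) (G ⧸ C) (H20.O M) := fun lam => Matrix.of fun q q' => ⟨_, hMatO lam q q'⟩
  have hmap : ∀ lam, (MatO lam).map (H20.O M).subtype = Mat lam := fun lam => rfl
  have hidemO : ∀ lam, MatO lam * MatO lam = MatO lam := by
    intro lam
    apply Matrix.map_injective (Subring.subtype_injective _)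
    dsimp only
    rw [Matrix.map_mul, hmap, hidem]
  have htr : ∀ lam, (Mat lam).trace =
      (Fintype.card (G ⧸ C) : ℂ) * c * ∑ u : C, lam u * (χ : G → ℂ) u := by
    intro lam
    simp only [Matrix.trace, Matrix.diag, Mat, Matrix.of_apply, inv_mul_cancel, one_mul, Finset.sum_const,
      Finset.card_univ, nsmul_eq_mul, Finset.mul_sum]
    refine Finset.sum_congr rfl fun u _ => by ring
  have hall : ∀ lam : C →* ℂ, ∑ u : C, lam u * (χ : G → ℂ) u = ∑ u : C, (χ : G → ℂ) u := by
    intro lam
    have hcongr : (MatO lam).map (H20.red M) = (MatO 1).map (H20.red M) := by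
      ext q q'
      simp only [Matrix.map_apply]
      rw [H20.red_eq_red_iff]
      show MemLocalIdeal M (Mat lam q q' - Mat 1 q q')
      have hlam : ∀ u : C, MemLocalIdeal M (lam u - 1) := by
        intro u
        let w : H20.O M := ⟨lam u, H20.memRing_of_pow_eq_one (pow_pos hp.pos j) (hlamO lam u)⟩
        have hw : H20.red M w = H20.red M 1 := by
          rw [map_one]
          exact H20.red_eq_one_of_pow_p_pow hM (j := j) (Subtype.ext (hlamO lam u))
        exact H20.red_eq_red_iff.1 hw
      simp only [Mat, Matrix.of_apply, MonoidHom.one_apply, ← Finset.sum_sub_distrib, ← sub_mul]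
      refine Finset.sum_induction _ (MemLocalIdeal M) (fun _ _ => H20.memIdeal_add) H20.memIdeal_zero
        fun u _ => ?_
      rw [mul_comm]
      exact H20.memIdeal_mul (H20.memRing_mul hcO (H20.memRing_of_isIntegral
        (H12.IsCharacter.isIntegral (H12.isCharacter_irr χ) _))) (hlam u)
    have h1 := trace_eq_of_congr (H20.red M) (fun r hr => H20.isUnit_of_notMem_mI fun h => by
      have h' : H20.red M r = 0 := Ideal.Quotient.eq_zero_iff_mem.2 h
      rw [hr] at h'
      exact one_ne_zero h') _ _ (hidemO lam) (hidemO 1) hcongr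
    have h2 := congrArg (H20.O M).subtype h1
    have hmt : ∀ mu, (H20.O M).subtype (MatO mu).trace = (Mat mu).trace := by
      intro mu
      rw [← hmap mu]
      simp [Matrix.trace, Matrix.diag, Matrix.map_apply]
    rw [hmt, hmt, htr, htr] at h2
    simp only [MonoidHom.one_apply, one_mul] at h2
    exact mul_left_cancel₀ (mul_ne_zero (Nat.cast_ne_zero.2 Fintype.card_ne_zero) hc0) h2
  -- all linear characters of `C` have equal multiplicity, so the restriction is a multiple of the regular character
  let f : C → ℂ := fun u => (χ : G → ℂ) u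
  have hf : IsClassFunction C f :=
    H12.IsCharacter.isClassFunction (H12.IsCharacter.res (H12.isCharacter_irr χ) C)
  have hmult : ∀ μ : IrrCharacter C, classInner f μ = classInner f (fun _ : C => (1 : ℂ)) := by
    intro μ
    obtain ⟨n, ρ, hρ, hμ⟩ := (H12.conjIrr μ).2
    haveI := hρ
    have hn : Module.finrank ℂ (Fin n → ℂ) = 1 := by
      refine le_antisymm ?_ (H12.finrank_pos_of_isIrreducible ρ)
      simpa using H13.finrank_le_index_of_abelian ρ ⊤ fun a _ b _ => hCc a b
    let lam : C →* ℂ :=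
      { toFun := ρ.character
        map_one' := by rw [Representation.char_one, hn, Nat.cast_one]
        map_mul' := fun a b => by
          have hsc : ∀ T : Module.End ℂ (Fin n → ℂ), T = LinearMap.trace ℂ _ T • 1 := by
            intro T
            obtain ⟨v, hv, hspan⟩ := finrank_eq_one_iff'.1 hn
            obtain ⟨t, ht⟩ := hspan (T v)
            have hT : T = t • (1 : Module.End ℂ (Fin n → ℂ)) := by
              apply LinearMap.ext
              intro w
              obtain ⟨s, rfl⟩ := hspan w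
              simp only [map_smul, LinearMap.smul_apply, Module.End.one_apply, ← ht, smul_comm s t]
            rw [hT, map_smul, LinearMap.trace_one, hn, Nat.cast_one, smul_eq_mul, mul_one]
          have e : LinearMap.trace ℂ _ (ρ a * ρ b) = LinearMap.trace ℂ _ (ρ a) * LinearMap.trace ℂ _ (ρ b) := by
            conv_lhs => rw [hsc (ρ a)]
            rw [smul_mul_assoc, one_mul, map_smul, smul_eq_mul]
          simpa [Representation.character, map_mul] using e }
    have h1 := hall lam
    rw [H12.classInner_def, H12.classInner_def]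
    congr 1
    simp only [map_one, mul_one, f]
    refine Eq.trans ?_ h1
    refine Finset.sum_congr rfl fun u _ => ?_
    rw [mul_comm]
    congr 1
    exact (congrFun hμ u).symm
  have hval := H12.classFunction_apply_eq_sum hf ⟨x, Subgroup.mem_zpowers x⟩
  simp only [hmult, ← Finset.mul_sum] at hval
  have hone : ∀ μ : IrrCharacter C, (μ : C → ℂ) 1 = 1 := by
    intro μ
    obtain ⟨n, ρ, hρ, hμ⟩ := μ.2
    haveI := hρ
    have h1 := H13.finrank_le_index_of_abelian ρ ⊤ fun a _ b _ => hCc a b
    rw [Subgroup.index_top] at h1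
    rw [← hμ, Representation.char_one, le_antisymm h1 (H12.finrank_pos_of_isIrreducible ρ),
      Nat.cast_one]
  have hreg := H12.regular_eq_sum (G := C) ⟨x, Subgroup.mem_zpowers x⟩
  simp only [hone, one_mul] at hreg
  rw [hreg, if_neg (fun h => hx1 (congrArg Subtype.val h)), mul_zero] at hval
  exact hval

end H24
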