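import Cfsg.Agent.H24.Constituent
import Cfsg.Agent.H19.ItoSylow

/-!
The derived length of a Sylow subgroup of a `p`-solvable group is bounded by the number of
irreducible characters of degree divisible by `p`.
-/

set_option autoImplicit false
set_option linter.unusedSectionVars false
set_option linter.style.haveILetI false

open Cfsg Module

namespace H24

universe u

/-- A constituent takes its degree wherever the character does. -/
theorem constituent_apply_eq {H : Type u} [Group H] [Fintype H] {φ : H → ℂ} (hφ : IsCharacter H φ)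
    (θ : IrrCharacter H) (hθ : classInner φ (θ : H → ℂ) ≠ 0) {c : H} (hc : φ c = φ 1) :
    (θ : H → ℂ) c = (θ : H → ℂ) 1 := by
  classical
  obtain ⟨m, hm, hmi, -⟩ := exists_mult_classInner hφ
  have hval : ∀ x : H, φ x = ∑ ψ, (m ψ : ℂ) * (ψ : H → ℂ) x := fun x => by
    have := congrFun hm x
    simpa [Finset.sum_apply] using this
  rw [hval, hval] at hc
  have h2 := congrArg Complex.re hc
  rw [Complex.re_sum, Complex.re_sum] at h2
  have hle : ∀ ψ ∈ (Finset.univ : Finset (IrrCharacter H)),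
      ((m ψ : ℂ) * (ψ : H → ℂ) c).re ≤ ((m ψ : ℂ) * (ψ : H → ℂ) 1).re := by
    intro ψ _
    rw [← Complex.ofReal_natCast, Complex.re_ofReal_mul, Complex.re_ofReal_mul, irr_one,
      Complex.natCast_re]
    exact mul_le_mul_of_nonneg_left ((Complex.re_le_norm _).trans
      (H12.IsCharacter.norm_le (H12.isCharacter_irr ψ) c)) (Nat.cast_nonneg _)
  have h3 := (Finset.sum_eq_sum_iff_of_le hle).1 h2 θ (Finset.mem_univ _)
  have hm0 : (m θ : ℝ) ≠ 0 := by
    rw [hmi] at hθ
    simpa using hθ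
  rw [← Complex.ofReal_natCast, Complex.re_ofReal_mul, Complex.re_ofReal_mul, irr_one,
    Complex.natCast_re] at h3
  have h4 := mul_left_cancel₀ hm0 h3
  have h5 := H12.IsCharacter.norm_le (H12.isCharacter_irr θ) c
  have h6 := Complex.sq_norm ((θ : H → ℂ) c)
  rw [Complex.normSq_apply, h4] at h6
  have h7 : ‖(θ : H → ℂ) c‖ ^ 2 ≤ (charDegree (θ : H → ℂ) : ℝ) ^ 2 :=
    pow_le_pow_left₀ (norm_nonneg _) h5 2
  rw [irr_one]
  apply Complex.ext
  · simpa using h4
  · simp only [Complex.natCast_im]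
    nlinarith

/-- A character of a normal subgroup lies below a character of the group whose degree it divides. -/
theorem exists_over {G : Type u} [Group G] [Fintype G] (D : Subgroup G) [D.Normal] [Fintype D]
    (θ : IrrCharacter D) :
    ∃ χ : IrrCharacter G, classInner (fun d : D => (χ : G → ℂ) d) (θ : D → ℂ) ≠ 0 ∧
      charDegree (θ : D → ℂ) ∣ charDegree (χ : G → ℂ) := by
  classical
  obtain ⟨χ, hχ⟩ : ∃ χ : IrrCharacter G, classInner (indFun D (θ : D → ℂ)) χ ≠ 0 := by
    by_contra h0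
    simp only [not_exists, not_not] at h0
    have h := congrFun (H12.eq_zero_of_classInner_irr_eq_zero (H13.indFun_isClassFunction D _) h0) 1
    rw [H13.indFun_apply_one, Pi.zero_apply, mul_eq_zero] at h
    rcases h with h | h
    · exact Nat.cast_ne_zero.mpr Subgroup.index_ne_zero_of_finite h
    · exact H12.irr_apply_one_ne_zero θ h
  have hne : classInner (fun d : D => (χ : G → ℂ) d) (θ : D → ℂ) ≠ 0 := by
    rw [H13.classInner_indFun_left D _ (H12.irr_isClassFunction χ)] at hχ
    rw [← H12.conj_classInner]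
    simpa using hχ
  refine ⟨χ, hne, ?_⟩
  obtain ⟨e, he⟩ := H12.IsCharacter.classInner_nat
    (H12.IsCharacter.res (H12.isCharacter_irr χ) D) (H12.isCharacter_irr θ)
  have hcl := H13.clifford_degree D χ.2 θ.2 hne
  rw [he, irr_one θ, irr_one χ] at hcl
  exact ⟨e * (H13.inertia D (θ : D → ℂ)).index, by rw [mul_comm]; exact_mod_cast hcl⟩

/-- There is a nontrivial normal subgroup which is either abelian or of order prime to `p`. -/
theorem exists_small_normal {p : ℕ} [Fact p.Prime] {K : Type u} [Group K] [Finite K] [Nontrivial K]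
    (hK : IsPSolvable p K) : ∃ R : Subgroup K, R.Normal ∧ R ≠ ⊥ ∧
      ((∀ a ∈ R, ∀ b ∈ R, a * b = b * a) ∨ ¬ p ∣ Nat.card R) := by
  rcases H10.pCore_or_pPrimeCore_ne_bot hK with h | h
  · haveI := H10.pCore_normal (p := p) (G := K)
    haveI : Nontrivial (pCore p K) := (Subgroup.nontrivial_iff_ne_bot _).2 h
    haveI := (H10.pCore_isPGroup (p := p) (G := K)).center_nontrivial
    refine ⟨(Subgroup.center (pCore p K)).map (pCore p K).subtype, inferInstance, fun e => ?_, Or.inl ?_⟩
    · rw [Subgroup.map_eq_bot_iff_of_injective _ (Subgroup.subtype_injective _)] at e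
      exact (Subgroup.nontrivial_iff_ne_bot _).1 ‹_› e
    · rintro _ ⟨a, ha, rfl⟩ _ ⟨b, hb, rfl⟩
      exact congrArg Subtype.val (Subgroup.mem_center_iff.1 hb a)
  · exact ⟨_, H10.pPrimeCore_normal, h, Or.inr ((Nat.Prime.coprime_iff_not_dvd Fact.out).1
      (H10.pPrimeCore_coprime (p := p) (G := K)).symm)⟩

theorem derivedSeries_sylow_bound {p : ℕ} [Fact p.Prime] :
    ∀ (n : ℕ) (G : Type u) [Group G] [Finite G], IsPSolvable p G →
      Nat.card {χ : IrrCharacter G // p ∣ charDegree (χ : G → ℂ)} ≤ n →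
      ∀ P : Sylow p G, derivedSeries ↥(P : Subgroup G) (n + 1) = ⊥ := by
  intro n
  induction n using Nat.strong_induction_on with
  | _ n ih =>
  intro G _ _ hG hn P
  classical
  haveI := Fintype.ofFinite G
  by_cases h0 : ∀ χ : IrrCharacter G, ¬ p ∣ charDegree (χ : G → ℂ)
  · obtain ⟨-, hab⟩ := H19.ItoSylow.normal_and_abelian hG h0 P
    refine eq_bot_iff.2 (le_trans (derivedSeries_antitone (G := ↥(P : Subgroup G)) (Nat.succ_le_succ (Nat.zero_le n))) ?_)
    rw [derivedSeries_succ, derivedSeries_zero, Subgroup.commutator_le]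
    intro a _ b _
    rw [Subgroup.mem_bot, commutatorElement_eq_one_iff_mul_comm]
    exact Subtype.ext (hab a a.2 b b.2)
  simp only [not_forall, not_not] at h0
  let C : Subgroup G := ⨅ χ : {χ : IrrCharacter G // p ∣ charDegree (χ : G → ℂ)}, kerChar χ.1
  haveI hCn : C.Normal := Subgroup.normal_iInf_normal fun _ => kerChar_normal _
  obtain ⟨χ₀, hχ₀⟩ := h0
  have hCtop : C ≠ ⊤ := by
    intro h
    have h1 : χ₀ = H12.oneIrr G := eq_oneIrr_of_ker_top χ₀
      (eq_top_iff.2 (h ▸ iInf_le (fun χ : {χ : IrrCharacter G // p ∣ charDegree (χ : G → ℂ)} => kerChar χ.1) ⟨χ₀, hχ₀⟩))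
    rw [h1, charDegree_oneIrr] at hχ₀
    exact (Fact.out : p.Prime).not_dvd_one hχ₀
  haveI : Nontrivial (G ⧸ C) := by
    by_contra hnt
    rw [not_nontrivial_iff_subsingleton] at hnt
    exact hCtop (eq_top_iff.2 fun g _ => (QuotientGroup.eq_one_iff g).1 (Subsingleton.elim _ _))
  obtain ⟨R, hRn, hR0, hR⟩ := exists_small_normal (H10.isPSolvable_quotient hG C)
  obtain ⟨D, hD⟩ : ∃ D, D = R.comap (QuotientGroup.mk' C) := ⟨_, rfl⟩
  haveI hDn : D.Normal := hD ▸ hRn.comap _
  haveI := Fintype.ofFinite D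
  have hCD : C ≤ D := by
    intro c hc
    rw [hD, Subgroup.mem_comap, QuotientGroup.mk'_apply, (QuotientGroup.eq_one_iff c).2 hc]
    exact one_mem R
  have hdeg : ∀ θ : IrrCharacter D, ¬ p ∣ charDegree (θ : D → ℂ) := by
    intro θ hθ
    obtain ⟨χ, hχ, hdvd⟩ := exists_over D θ
    have hker : C ≤ kerChar χ :=
      iInf_le (fun χ : {χ : IrrCharacter G // p ∣ charDegree (χ : G → ℂ)} => kerChar χ.1)
        ⟨χ, hθ.trans hdvd⟩
    have hθC : C.subgroupOf D ≤ kerChar θ := by
      intro c hc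
      rw [mem_kerChar]
      exact constituent_apply_eq (H12.IsCharacter.res (H12.isCharacter_irr χ) D) θ hχ
        (mem_kerChar.1 (hker (Subgroup.mem_subgroupOf.1 hc)))
    let f : D →* R := ((QuotientGroup.mk' C).comp D.subtype).codRestrict R fun d => by
      have := d.2
      simp only [hD, Subgroup.mem_comap] at this
      exact this
    have hfs : Function.Surjective f := by
      rintro ⟨r, hr⟩
      obtain ⟨g, rfl⟩ := QuotientGroup.mk'_surjective C r
      exact ⟨⟨g, hD ▸ hr⟩, Subtype.ext rfl⟩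
    have hfk : f.ker = C.subgroupOf D := by
      ext d
      rw [MonoidHom.mem_ker, Subgroup.mem_subgroupOf, ← QuotientGroup.eq_one_iff, Subtype.ext_iff]
      rfl
    let e : (D ⧸ C.subgroupOf D) ≃* R :=
      (QuotientGroup.quotientMulEquivOfEq hfk.symm).trans
        (QuotientGroup.quotientKerEquivOfSurjective f hfs)
    obtain ⟨ψ, hψ⟩ := exists_deflate (C.subgroupOf D) θ hθC
    rw [← hψ, charDegree_inflate] at hθ
    rcases hR with hab | hcard
    · rw [charDegree_eq_one_of_comm (fun a b => e.injective (Subtype.ext (by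
        rw [map_mul, map_mul]
        exact hab _ (e a).2 _ (e b).2))) ψ] at hθ
      exact (Fact.out : p.Prime).not_dvd_one hθ
    · haveI := Fintype.ofFinite (D ⧸ C.subgroupOf D)
      have h1 := hθ.trans (charDegree_dvd_card ψ)
      rw [Nat.card_congr e.toEquiv] at h1
      exact hcard h1
  -- the quotient has fewer characters of degree divisible by `p`
  have hlt : Nat.card {ψ : IrrCharacter (G ⧸ D) // p ∣ charDegree (ψ : G ⧸ D → ℂ)} < n := by
    refine lt_of_lt_of_le ?_ hn
    have hDC : ¬ D ≤ C := by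
      intro h
      apply hR0
      rw [eq_bot_iff]
      intro r hr
      obtain ⟨g, rfl⟩ := QuotientGroup.mk'_surjective C r
      exact Subgroup.mem_bot.2 ((QuotientGroup.eq_one_iff g).2 (h (hD ▸ hr)))
    obtain ⟨⟨χ, hχ⟩, hχD⟩ : ∃ χ : {χ : IrrCharacter G // p ∣ charDegree (χ : G → ℂ)}, ¬ D ≤ kerChar χ.1 := by
      by_contra! hall
      exact hDC (le_iInf hall)
    haveI := Fintype.ofFinite {ψ : IrrCharacter (G ⧸ D) // p ∣ charDegree (ψ : G ⧸ D → ℂ)}
    haveI := Fintype.ofFinite {χ : IrrCharacter G // p ∣ charDegree (χ : G → ℂ)}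
    rw [Nat.card_eq_fintype_card, Nat.card_eq_fintype_card]
    refine Fintype.card_lt_of_injective_of_notMem
      (fun ψ => (⟨inflate D ψ.1, by rw [charDegree_inflate]; exact ψ.2⟩ :
        {χ : IrrCharacter G // p ∣ charDegree (χ : G → ℂ)}))
      (fun a b h => Subtype.ext (inflate_injective D (congrArg Subtype.val h)))
      (b := ⟨χ, hχ⟩) ?_
    rintro ⟨ψ, hψ⟩
    exact hχD ((congrArg Subtype.val hψ : inflate D ψ.1 = χ) ▸ le_kerChar_inflate D ψ.1)
  obtain ⟨k, rfl⟩ : ∃ k, n = k + 1 := ⟨n - 1, by omega⟩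
  let Q : Sylow p (G ⧸ D) := P.mapSurjective (QuotientGroup.mk'_surjective D)
  have hQ := ih k (Nat.lt_succ_self k) (G ⧸ D) (H10.isPSolvable_quotient hG D) (by omega) Q
  let g : ↥(P : Subgroup G) →* ↥(Q : Subgroup (G ⧸ D)) :=
    ((QuotientGroup.mk' D).comp (P : Subgroup G).subtype).codRestrict _ fun a => ⟨a, a.2, rfl⟩
  have hle : derivedSeries ↥(P : Subgroup G) (k + 1) ≤ D.subgroupOf (P : Subgroup G) := by
    intro a ha
    have h1 : g a ∈ derivedSeries ↥(Q : Subgroup (G ⧸ D)) (k + 1) :=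
      map_derivedSeries_le_derivedSeries g (k + 1) ⟨a, ha, rfl⟩
    rw [hQ, Subgroup.mem_bot] at h1
    exact Subgroup.mem_subgroupOf.2 ((QuotientGroup.eq_one_iff _).1 (congrArg Subtype.val h1))
  obtain ⟨S, hS⟩ := (((P.isPGroup'.to_subgroup (D.subgroupOf (P : Subgroup G))).of_injective
    (({ toFun := fun x => ⟨⟨(x.1 : G), Subgroup.mem_subgroupOf.1 x.2⟩, x.1.2⟩
        map_one' := rfl
        map_mul' := fun _ _ => rfl } :
      ((P : Subgroup G).subgroupOf D) →* (D.subgroupOf (P : Subgroup G))))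
    (fun a b h => Subtype.ext (Subtype.ext
      (congrArg (fun z : (D.subgroupOf (P : Subgroup G)) => ((z.1 : (P : Subgroup G)) : G)) h))))).exists_le_sylow
  obtain ⟨-, hab⟩ := H19.ItoSylow.normal_and_abelian (H10.isPSolvable_subgroup hG D) hdeg S
  rw [derivedSeries_succ, eq_bot_iff, Subgroup.commutator_le]
  intro a ha b hb
  rw [Subgroup.mem_bot, commutatorElement_eq_one_iff_mul_comm]
  refine Subtype.ext ?_
  exact congrArg (fun z : D => (z : G)) (hab ⟨(a : G), Subgroup.mem_subgroupOf.1 (hle ha)⟩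
    (hS (Subgroup.mem_subgroupOf.2 a.2)) ⟨(b : G), Subgroup.mem_subgroupOf.1 (hle hb)⟩
    (hS (Subgroup.mem_subgroupOf.2 b.2)))

end H24
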