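import Cfsg.Agent.H24.AltStar

/-! Extending a homomorphism along consecutive 3-cycles. -/

set_option autoImplicit false
set_option linter.unusedSectionVars false

namespace H24.AltPres

open Equiv

variable {Ω : Type*} [DecidableEq Ω] [Fintype Ω]

theorem cyc_rotate {a b s : Ω} (hab : a ≠ b) (has : a ≠ s) (hbs : b ≠ s) :
    cyc b s a = cyc a b s := by
  refine Equiv.ext fun x => ?_
  by_cases ha : x = a
  · subst ha; rw [cyc_apply_trd, cyc_apply_fst hab has]
  by_cases hb : x = b
  · subst hb; rw [cyc_apply_fst hbs hab.symm, cyc_apply_snd has hbs]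
  by_cases hs : x = s
  · subst hs; rw [cyc_apply_snd hab.symm has.symm, cyc_apply_trd]
  rw [cyc_apply_other ha hb hs, cyc_apply_other hb hs ha]

theorem cyc_conj (g : Perm Ω) (a b s : Ω) : g * cyc a b s * g⁻¹ = cyc (g a) (g b) (g s) := by
  simp only [cyc]
  rw [swap_apply_apply g a b, swap_apply_apply g b s]
  simp [mul_assoc]

/-- The consecutive 3-cycle. -/
def tri (e : ℕ → Ω) (i : ℕ) : Perm Ω := cyc (e i) (e (i + 1)) (e (i + 2))

theorem linear_extend {P : Type*} [Group P] (n : ℕ) (e : ℕ → Ω)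
    (he : Set.InjOn e (Set.Iio n)) (l : ℕ) (hl5 : 5 ≤ l) (hln : l < n) (u : ℕ → P)
    (Φ : Perm Ω → P) (hΦ : HomOn (evenIn ((Finset.range l).image e)) Φ)
    (hu : ∀ i, i + 3 ≤ l → Φ (tri e i) = u i)
    (hcube : ∀ i, i + 3 ≤ n → u i ^ 3 = 1)
    (hsq : ∀ i, i + 3 < n → (u i * u (i + 1)) ^ 2 = 1)
    (hfar : ∀ i j, i + 3 ≤ j → j + 3 ≤ n → Commute (u i) (u j)) :
    ∃ Ψ : Perm Ω → P, HomOn (evenIn ((Finset.range (l + 1)).image e)) Ψ ∧
      (∀ i, i + 3 ≤ l + 1 → Ψ (tri e i) = u i) ∧
      ∀ g ∈ evenIn ((Finset.range l).image e), Ψ g = Φ g := by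
  classical
  have hne : ∀ i j, i < n → j < n → i ≠ j → e i ≠ e j := fun i j hi hj h hc => h (he hi hj hc)
  obtain ⟨L, rfl⟩ : ∃ L, l = L + 5 := ⟨l - 5, by omega⟩
  set a := e (L + 3) with haDef
  set b := e (L + 4) with hbDef
  set w := e (L + 5) with hwDef
  set S0 := (Finset.range (L + 3)).image e with hS0
  have hab : a ≠ b := hne _ _ (by omega) (by omega) (by omega)
  have hnot : ∀ k, L + 3 ≤ k → k < n → e k ∉ S0 := by
    intro k hk hkn h
    obtain ⟨i, hi, hik⟩ := Finset.mem_image.1 h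
    rw [Finset.mem_range] at hi
    exact hne i k (by omega) hkn (by omega) hik
  have ha0 : a ∉ S0 := hnot _ (by omega) (by omega)
  have hb0 : b ∉ S0 := hnot _ (by omega) (by omega)
  have hw0 : w ∉ S0 := hnot _ (by omega) (by omega)
  have hDl : insert a (insert b S0) = (Finset.range (L + 5)).image e := by
    rw [Finset.range_add_one, Finset.range_add_one, Finset.image_insert, Finset.image_insert]
    exact Finset.insert_comm a b S0
  have haw : a ≠ w := hne _ _ (by omega) (by omega) (by omega)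
  have hbw : b ≠ w := hne _ _ (by omega) (by omega) (by omega)
  have hmem : ∀ x ∈ S0, cyc a b x ∈ evenIn ((Finset.range (L + 5)).image e) := by
    intro x hx
    rw [← hDl]
    exact cyc_mem_evenIn hab (ne_of_mem_of_not_mem hx hb0).symm (by simp) (by simp) (by simp [hx])
  have hwtri : cyc a b w = tri e (L + 3) := rfl
  let ξ : Ω → P := fun x => if x = w then u (L + 3) else Φ (cyc a b x)
  have hξw : ξ w = u (L + 3) := if_pos rfl
  have hξ0 : ∀ x ∈ S0, ξ x = Φ (cyc a b x) := fun x hx => if_neg (ne_of_mem_of_not_mem hx hw0)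
  have hcubew : u (L + 3) ^ 3 = 1 := hcube _ (by omega)
  -- the key relation
  have hkey : ∀ t i, i + t = L + 2 → (Φ (cyc a b (e i)) * u (L + 3)) ^ 2 = 1 := by
    intro t
    induction t with
    | zero =>
      intro i hi
      obtain rfl : i = L + 2 := by omega
      rw [cyc_rotate (hne _ _ (by omega) (by omega) (by omega))
        (hne _ _ (by omega) (by omega) (by omega)) hab]
      rw [show cyc (e (L + 2)) a b = tri e (L + 2) from rfl, hu (L + 2) (by omega)]
      exact hsq (L + 2) (by omega)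
    | succ t ih =>
      intro i hi
      -- a generator moving `i + 1` to `i`
      obtain ⟨j, hj, hji⟩ : ∃ j, j + 3 ≤ L + 3 ∧ (tri e j * tri e j) (e (i + 1)) = e i := by
        rcases Nat.lt_or_ge i (L + 1) with h | h
        · refine ⟨i, by omega, ?_⟩
          rw [Perm.mul_apply, tri, cyc_apply_snd (hne _ _ (by omega) (by omega) (by omega))
            (hne _ _ (by omega) (by omega) (by omega)), cyc_apply_trd]
        · refine ⟨L, by omega, ?_⟩
          obtain rfl : i = L + 1 := by omega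
          rw [Perm.mul_apply, tri, cyc_apply_trd,
            cyc_apply_fst (hne _ _ (by omega) (by omega) (by omega))
              (hne _ _ (by omega) (by omega) (by omega))]
      have hjD : tri e j ∈ evenIn ((Finset.range (L + 5)).image e) := by
        refine cyc_mem_evenIn (hne _ _ (by omega) (by omega) (by omega))
          (hne _ _ (by omega) (by omega) (by omega)) ?_ ?_ ?_ <;>
          exact Finset.mem_image_of_mem e (Finset.mem_range.2 (by omega))
      set g := tri e j * tri e j with hg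
      have hgD : g ∈ evenIn ((Finset.range (L + 5)).image e) := mul_mem hjD hjD
      have hga : ∀ k, L + 3 ≤ k → k < n → g (e k) = e k := by
        intro k hk hkn
        have h1 : tri e j (e k) = e k := cyc_apply_other
          (hne _ _ hkn (by omega) (by omega)) (hne _ _ hkn (by omega) (by omega))
          (hne _ _ hkn (by omega) (by omega))
        rw [hg, Perm.mul_apply, h1, h1]
      have hconj : g * cyc a b (e (i + 1)) * g⁻¹ = cyc a b (e i) := by
        rw [cyc_conj, hga _ (by omega) (by omega), hga _ (by omega) (by omega), hji]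
      have hin : e (i + 1) ∈ S0 := Finset.mem_image_of_mem e (Finset.mem_range.2 (by omega))
      rw [← hconj, hΦ _ (mul_mem hgD (hmem _ hin)) _ (inv_mem hgD), hΦ _ hgD _ (hmem _ hin),
        hΦ.map_inv hgD]
      have hc : Commute (Φ g) (u (L + 3)) := by
        rw [hg, hΦ _ hjD _ hjD, hu j (by omega)]
        exact (hfar j (L + 3) (by omega) (by omega)).mul_left (hfar j (L + 3) (by omega) (by omega))
      have h2 := ih (i + 1) (by omega)
      set y := Φ (cyc a b (e (i + 1)))
      have h3 : Φ g * y * (Φ g)⁻¹ * u (L + 3) = Φ g * (y * u (L + 3)) * (Φ g)⁻¹ := by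
        rw [mul_assoc (Φ g * y), hc.inv_left.eq]; simp only [mul_assoc]
      rw [h3, conj_pow, h2, mul_one, mul_inv_cancel]
  have hrel : ∀ x ∈ S0, (ξ x * ξ w) ^ 2 = 1 := by
    intro x hx
    obtain ⟨i, hi, rfl⟩ := Finset.mem_image.1 hx
    rw [Finset.mem_range] at hi
    rw [hξ0 _ hx, hξw]
    exact hkey (L + 2 - i) i (by omega)
  have hS : insert a (insert b (insert w S0)) = (Finset.range (L + 5 + 1)).image e := by
    rw [Finset.range_add_one (n := L + 5), Finset.image_insert, ← hDl]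
    ext x; simp; tauto
  obtain ⟨Ψ, hΨ, hΨξ⟩ := star_hom a b hab (insert w S0)
    (by simp [haw, ha0]) (by simp [hbw, hb0]) ξ
    (by
      intro s hs
      rcases Finset.mem_insert.1 hs with rfl | hs
      · rw [hξw]; exact hcubew
      · rw [hξ0 s hs, ← hΦ.map_pow (hmem s hs), cyc_pow_three hab (fun h => ha0 (h ▸ hs))
          (fun h => hb0 (h ▸ hs)), hΦ.map_one])
    (by
      intro s hs t ht hst
      rcases Finset.mem_insert.1 hs with rfl | hs <;> rcases Finset.mem_insert.1 ht with rfl | ht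
      · exact absurd rfl hst
      · have h := hrel t ht
        have h2 : ξ w * ξ t = (ξ t)⁻¹ * (ξ t * ξ w) * ξ t := by group
        rw [h2]
        calc ((ξ t)⁻¹ * (ξ t * ξ w) * ξ t) ^ 2
            = (ξ t)⁻¹ * (ξ t * ξ w) ^ 2 * ξ t := by simp only [pow_two]; group
          _ = 1 := by rw [h]; group
      · exact hrel s hs
      · rw [hξ0 s hs, hξ0 t ht, ← hΦ _ (hmem s hs) _ (hmem t ht),
          ← hΦ.map_pow (mul_mem (hmem s hs) (hmem t ht)),
          cyc_mul_cyc_sq hab (fun h => ha0 (h ▸ hs)) (fun h => hb0 (h ▸ hs))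
            (fun h => ha0 (h ▸ ht)) (fun h => hb0 (h ▸ ht)) hst, hΦ.map_one])
  rw [hS] at hΨ
  have hagree : ∀ g ∈ evenIn ((Finset.range (L + 5)).image e), Ψ g = Φ g := by
    intro g hg
    have hg' := evenIn_le_closure a b hab S0 ha0 hb0 (hDl.symm ▸ hg)
    have hle : Subgroup.closure (cyc a b '' (S0 : Set Ω)) ≤
        evenIn ((Finset.range (L + 5)).image e) := by
      refine (Subgroup.closure_le _).2 ?_
      rintro _ ⟨x, hx, rfl⟩
      exact hmem x hx
    refine HomOn.eq_of_closure _ ((hΨ.mono ?_).mono hle) (hΦ.mono hle) ?_ g hg'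
    · exact evenIn_mono (Finset.image_subset_image (by simp))
    · rintro _ ⟨x, hx, rfl⟩
      rw [hΨξ x (Finset.mem_insert_of_mem hx), hξ0 x hx]
  refine ⟨Ψ, hΨ, fun i hi => ?_, hagree⟩
  rcases Nat.lt_or_ge i (L + 3) with h | h
  · rw [hagree, hu i (by omega)]
    refine cyc_mem_evenIn (hne _ _ (by omega) (by omega) (by omega))
      (hne _ _ (by omega) (by omega) (by omega)) ?_ ?_ ?_ <;>
      exact Finset.mem_image_of_mem e (Finset.mem_range.2 (by omega))
  · obtain rfl : i = L + 3 := by omega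
    rw [← hwtri, hΨξ w (Finset.mem_insert_self _ _), hξw]

theorem linear_hom {P : Type*} [Group P] (n : ℕ) (e : ℕ → Ω)
    (he : Set.InjOn e (Set.Iio n)) (N : ℕ) (hN5 : 5 ≤ N) (hNn : N ≤ n) (u : ℕ → P)
    (Φ : Perm Ω → P) (hΦ : HomOn (evenIn ((Finset.range N).image e)) Φ)
    (hu : ∀ i, i + 3 ≤ N → Φ (tri e i) = u i)
    (hcube : ∀ i, i + 3 ≤ n → u i ^ 3 = 1)
    (hsq : ∀ i, i + 3 < n → (u i * u (i + 1)) ^ 2 = 1)
    (hfar : ∀ i j, i + 3 ≤ j → j + 3 ≤ n → Commute (u i) (u j)) :
    ∃ Ψ : Perm Ω → P, HomOn (evenIn ((Finset.range n).image e)) Ψ ∧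
      (∀ i, i + 3 ≤ n → Ψ (tri e i) = u i) ∧
      ∀ g ∈ evenIn ((Finset.range N).image e), Ψ g = Φ g := by
  classical
  suffices h : ∀ d, N + d ≤ n → ∃ Ψ : Perm Ω → P,
      HomOn (evenIn ((Finset.range (N + d)).image e)) Ψ ∧
      (∀ i, i + 3 ≤ N + d → Ψ (tri e i) = u i) ∧
      ∀ g ∈ evenIn ((Finset.range N).image e), Ψ g = Φ g by
    obtain ⟨Ψ, h1, h2, h3⟩ := h (n - N) (by omega)
    rw [show N + (n - N) = n by omega] at h1 h2
    exact ⟨Ψ, h1, h2, h3⟩
  intro d
  induction d with
  | zero => intro _; exact ⟨Φ, hΦ, hu, fun _ _ => rfl⟩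
  | succ d ih =>
    intro hd
    obtain ⟨Ψ, h1, h2, h3⟩ := ih (by omega)
    obtain ⟨Ψ', g1, g2, g3⟩ :=
      linear_extend n e he (N + d) (by omega) (by omega) u Ψ h1 h2 hcube hsq hfar
    refine ⟨Ψ', g1, g2, fun g hg => ?_⟩
    rw [g3 g (evenIn_mono (Finset.image_subset_image (Finset.range_subset_range.2 (by omega))) hg),
      h3 g hg]

end H24.AltPres
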