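import Cfsg.Agent.H24.AltCore

/-! The seven relations are complete. -/

set_option autoImplicit false
set_option linter.unusedSectionVars false

namespace H24.AltPres

open Equiv

theorem eq_one_of_pow_fix {P : Type*} [Group P] {p u : ℕ} (hp : p.Prime) {k : P}
    (hk : k ^ p = 1) (hu : k ^ u = k) (hne : (u : ZMod p) ≠ 1) : k = 1 := by
  by_contra h
  have := Fact.mk hp
  have ho : orderOf k = p := orderOf_eq_prime hk h
  have h1 : k ^ u = k ^ 1 := by rw [pow_one]; exact hu
  rw [pow_inj_mod, ho] at h1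
  exact hne (by
    rw [← Nat.cast_one]
    exact (ZMod.natCast_eq_natCast_iff' _ _ _).2 h1)

namespace Setup

variable (U : Setup)

theorem windows {P : Type*} [Group P] (ψ : F3 →* P) (hψ : ∀ r ∈ U.rels, ψ r = 1) :
    ∃ W : WinSys (Fin U.n) P, W.n = U.n ∧ W.N = U.p + 2 ∧ W.f = U.f ∧ W.e = U.pos ∧ W.c0 = U.c0 ∧
      W.c = ψ wc ∧ W.L = U.target ∧ W.Φ (tri U.pos 0) = ψ wz ∧ W.Φ U.frame.aa = ψ U.wa ∧
      W.Φ (U.frame.bb U.alt) = ψ wb := by
  classical
  have hp5 := U.hp5
  have hpn := U.hpn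
  have hprime : U.p.Prime := Fact.out
  have hodd := hprime.odd_of_ne_two (by omega)
  set a := ψ U.wa with ha'
  set b := ψ wb with hb'
  set z := ψ wz with hz'
  set c := ψ wc with hc'
  simp only [rels, List.forall_mem_cons, List.not_mem_nil, IsEmpty.forall_iff, implies_true,
    and_true] at hψ
  obtain ⟨r1, r2, r3, r4, r5, r6, r7⟩ := hψ
  simp only [map_mul, map_inv, map_pow, mul_inv_eq_one] at r1 r2 r4
  have r3' : b * z * b⁻¹ = if U.alt then z⁻¹ else z := by
    rw [map_mul, map_mul, map_mul, map_inv, map_inv, mul_inv_eq_one] at r3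
    rw [r3]
    cases U.alt <;> simp [hz']
  obtain ⟨Φ, hΦ, hΦz, hΦa, hΦb, hΦx, hap, hba⟩ :=
    U.frame.window_hom U.alt U.sExp U.sExp_pos U.sExp_eq a b z r1 r2 r3' r4
  -- evaluation of window words
  have hwords : ∀ w ∈ U.winWords, U.ev w ∈ evenIn U.frame.X ∧ ψ w = Φ (U.ev w) := by
    intro w hw
    induction hw using Subgroup.closure_induction with
    | mem y hy =>
      obtain ⟨i, hi, rfl⟩ := hy
      have he : U.ev (U.wa ^ i * wz * (U.wa ^ i)⁻¹) = cyc (U.frame.e 0) (U.frame.e 1)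
          (fpt U.p U.n U.frame.e U.frame.hpn U.frame.he (i : ZMod U.p)) := by
        rw [map_mul, map_mul, map_inv, map_pow, ev_wa, ev_z, U.aa_pow_tri hi]
      rw [he]
      refine ⟨cyc_mem_evenIn U.frame.e_ne (U.frame.pt_ne _ 1 (by omega))
        ((U.frame.mem_X _).2 (Or.inl rfl)) ((U.frame.mem_X _).2 (Or.inr (Or.inl rfl)))
        ((U.frame.mem_X _).2 (Or.inr (Or.inr ⟨_, rfl⟩))), ?_⟩
      rw [hΦx, ZMod.val_natCast, Nat.mod_eq_of_lt hi]
      simp [ha', hz']
    | one => exact ⟨by rw [map_one]; exact one_mem _, by rw [map_one, map_one, hΦ.map_one]⟩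
    | mul u v _ _ hu hv =>
      exact ⟨by rw [map_mul]; exact mul_mem hu.1 hv.1,
        by rw [map_mul, map_mul, hΦ _ hu.1 _ hv.1, hu.2, hv.2]⟩
    | inv u _ hu =>
      exact ⟨by rw [map_inv]; exact inv_mem hu.1, by rw [map_inv, map_inv, hΦ.map_inv hu.1, hu.2]⟩
  have hwd : ∀ g ∈ evenIn U.frame.X, ψ (U.wd g) = Φ g := fun g hg => by
    have h := hwords _ (U.wd_spec hg).1
    rw [(U.wd_spec hg).2] at h
    exact h.2
  simp only [map_mul, map_inv, mul_inv_eq_one] at r5
  rw [hwd _ U.pc_X, hwd _ U.aa_X] at r5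
  have hkA_c : ∀ g ∈ evenIn U.frame.X, Commute ((Φ U.frame.aa)⁻¹ * a) (Φ g) := by
    intro g hg
    have h1 := hΦa g hg
    have h2 : U.frame.aa * g * U.frame.aa⁻¹ ∈ evenIn U.frame.X :=
      mul_mem (mul_mem U.aa_X hg) (inv_mem U.aa_X)
    rw [hΦ _ (mul_mem U.aa_X hg) _ (inv_mem U.aa_X), hΦ _ U.aa_X _ hg, hΦ.map_inv U.aa_X] at h1
    show (Φ U.frame.aa)⁻¹ * a * Φ g = Φ g * ((Φ U.frame.aa)⁻¹ * a)
    have h3 : a * Φ g = Φ U.frame.aa * Φ g * (Φ U.frame.aa)⁻¹ * a := by
      rw [← h1]; group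
    rw [mul_assoc, h3]; group
  have hkA_p : ((Φ U.frame.aa)⁻¹ * a) ^ U.p = 1 := by
    have hc1 : Commute (Φ U.frame.aa)⁻¹ a := by
      have h := (hkA_c _ U.aa_X).eq
      refine (Commute.inv_left ?_)
      rw [commute_iff_eq]
      calc Φ U.frame.aa * a
          = Φ U.frame.aa * (Φ U.frame.aa * ((Φ U.frame.aa)⁻¹ * a)) := by group
        _ = Φ U.frame.aa * ((Φ U.frame.aa)⁻¹ * a * Φ U.frame.aa) := by rw [h]
        _ = a * Φ U.frame.aa := by group
    rw [hc1.mul_pow, inv_pow, ← hΦ.map_pow U.aa_X, U.frame.aa_pow, hΦ.map_one, hap]; simp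
  have hΦaa : Φ U.frame.aa ^ U.p = 1 := by
    rw [← hΦ.map_pow U.aa_X, U.frame.aa_pow, hΦ.map_one]
  cases halt : U.alt
  · -- symmetric case
    simp only [halt, Bool.false_eq_true, if_false] at r6
    rw [halt] at hΦb
    have hK : ψ U.wK = (Φ (U.frame.b0 * U.frame.b0))⁻¹ * (b * b) := by
      rw [wK, halt]
      simp only [Bool.false_eq_true, if_false, map_mul, map_inv, hwd _ U.b0_sq_X, hb']
    set k2 := (Φ (U.frame.b0 * U.frame.b0))⁻¹ * (b * b) with hk2
    rw [hK] at r5
    have hbb : U.frame.bb false = U.frame.b0 := rfl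
    rw [hbb] at hΦb
    have hb0m : ∀ g ∈ evenIn U.frame.X, U.frame.b0 * g * U.frame.b0⁻¹ ∈ evenIn U.frame.X :=
      fun g hg => conj_mem_evenIn hg fun y hy => by
        by_contra h
        exact h (by rw [U.frame.b0.injective (U.frame.b0_supp (U.frame.b0 y) h)]; exact hy)
    have hb2 : ∀ g ∈ evenIn U.frame.X, b * b * Φ g * (b * b)⁻¹ =
        Φ (U.frame.b0 * U.frame.b0 * g * (U.frame.b0 * U.frame.b0)⁻¹) := by
      intro g hg
      calc b * b * Φ g * (b * b)⁻¹ = b * (b * Φ g * b⁻¹) * b⁻¹ := by group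
        _ = _ := by rw [hΦb g hg, hΦb _ (hb0m g hg)]; simp only [mul_inv_rev, mul_assoc]
    have hk2c : ∀ g ∈ evenIn U.frame.X, Commute k2 (Φ g) := by
      intro g hg
      have h1 := hb2 g hg
      rw [hΦ _ (mul_mem U.b0_sq_X hg) _ (inv_mem U.b0_sq_X), hΦ _ U.b0_sq_X _ hg,
        hΦ.map_inv U.b0_sq_X] at h1
      show (Φ (U.frame.b0 * U.frame.b0))⁻¹ * (b * b) * Φ g = Φ g * _
      have h3 : b * b * Φ g = Φ (U.frame.b0 * U.frame.b0) * Φ g *
          (Φ (U.frame.b0 * U.frame.b0))⁻¹ * (b * b) := by rw [← h1]; group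
      rw [hk2, mul_assoc, h3]; group
    have hbk2 : Commute b k2 := by
      have h1 : b * Φ (U.frame.b0 * U.frame.b0) * b⁻¹ = Φ (U.frame.b0 * U.frame.b0) := by
        rw [hΦb _ U.b0_sq_X]; congr 1; group
      have h2 : Commute b (Φ (U.frame.b0 * U.frame.b0)) := mul_inv_eq_iff_eq_mul.1 h1
      exact h2.inv_right.mul_right ((Commute.refl b).mul_right (Commute.refl b))
    -- first relation
    have hk2p : k2 ^ U.p = 1 := by
      have h1 : (c * Φ U.pc * c⁻¹) ^ U.p = 1 := by
        rw [conj_pow, ← hΦ.map_pow U.pc_X, U.pc_pow, hΦ.map_one]; simp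
      rw [r5, ((hk2c _ U.aa_X).symm).mul_pow, hΦaa, one_mul] at h1
      exact h1
    simp only [map_mul, map_inv, map_pow, mul_inv_eq_one] at r6
    rw [hwd _ U.tau_fix_X, hwd _ U.tau_conj_fix_X] at r6
    have hsq : ∀ g ∈ evenIn U.frame.X, (Φ g * b) * (Φ g * b) =
        Φ ((g * U.frame.b0) * (g * U.frame.b0)) * k2 := by
      intro g hg
      have e1 : g * U.frame.b0 * (g * U.frame.b0) =
          g * (U.frame.b0 * g * U.frame.b0⁻¹) * (U.frame.b0 * U.frame.b0) := by group
      rw [e1, hΦ _ (mul_mem hg (hb0m g hg)) _ U.b0_sq_X, hΦ _ hg _ (hb0m g hg), ← hΦb g hg, hk2]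
      group
    obtain ⟨t, ht⟩ := hodd
    have hbp : b ^ U.p = Φ ((U.frame.b0 * U.frame.b0) ^ t) * b * k2 ^ t := by
      rw [show b ^ U.p = b ^ (2 * t + 1) from congrArg (b ^ ·) ht, pow_succ, two_mul, pow_add,
        ← (Commute.refl b).mul_pow t,
        show b * b = Φ (U.frame.b0 * U.frame.b0) * k2 by rw [hk2, mul_inv_cancel_left],
        (hk2c _ U.b0_sq_X).symm.mul_pow, hΦ.map_pow U.b0_sq_X, mul_assoc, mul_assoc,
        ((hbk2.pow_right t).symm).eq]
    have hg' : U.c0 * U.tau * U.c0⁻¹ * (U.frame.b0 ^ U.p)⁻¹ * (U.frame.b0 * U.frame.b0) ^ t ∈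
        evenIn U.frame.X := mul_mem U.tau_conj_fix_X (pow_mem U.b0_sq_X t)
    have hk2one : k2 = 1 := by
      have h1 : (c * (Φ (U.tau * U.frame.b0⁻¹) * b) * c⁻¹) * (c * (Φ (U.tau * U.frame.b0⁻¹) * b) * c⁻¹)
          = c * k2 * c⁻¹ := by
        rw [conj_mul, hsq _ U.tau_fix_X, inv_mul_cancel_right, U.tau_sq, hΦ.map_one, one_mul]
      rw [r6, hbp] at h1
      have e2 : Φ (U.c0 * U.tau * U.c0⁻¹ * (U.frame.b0 ^ U.p)⁻¹) *
          (Φ ((U.frame.b0 * U.frame.b0) ^ t) * b * k2 ^ t) =
          Φ (U.c0 * U.tau * U.c0⁻¹ * (U.frame.b0 ^ U.p)⁻¹ * (U.frame.b0 * U.frame.b0) ^ t) * b *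
            k2 ^ t := by
        rw [hΦ _ U.tau_conj_fix_X _ (pow_mem U.b0_sq_X t)]; simp only [mul_assoc]
      rw [e2] at h1
      set g' := U.c0 * U.tau * U.c0⁻¹ * (U.frame.b0 ^ U.p)⁻¹ * (U.frame.b0 * U.frame.b0) ^ t with hg'd
      have hcg : Commute (k2 ^ t) (Φ g' * b) := ((hk2c _ hg').mul_right hbk2.symm).pow_left t
      rw [hcg.mul_mul_mul_comm, hsq _ hg'] at h1
      have e3 : g' * U.frame.b0 = U.c0 * U.tau * U.c0⁻¹ := by
        rw [hg'd, mul_assoc _ ((U.frame.b0 * U.frame.b0) ^ t),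
          show (U.frame.b0 * U.frame.b0) ^ t * U.frame.b0 = U.frame.b0 ^ U.p by
            rw [show U.frame.b0 ^ U.p = U.frame.b0 ^ (2 * t + 1) from congrArg (U.frame.b0 ^ ·) ht,
              pow_succ, two_mul, pow_add, ← (Commute.refl U.frame.b0).mul_pow t],
          inv_mul_cancel_right]
      rw [e3, conj_mul, U.tau_sq, mul_one, mul_inv_cancel, hΦ.map_one, one_mul, ← pow_add,
        ← pow_succ', show t + t + 1 = U.p by omega, hk2p] at h1
      rw [eq_comm, conj_eq_one_iff] at h1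
      exact h1
    rw [hk2one, mul_one] at r5
    have hbsq : b * b = Φ (U.frame.b0 * U.frame.b0) := by
      rw [hk2, inv_mul_eq_one] at hk2one; exact hk2one.symm
    -- the translation
    have hkA1 : (Φ U.frame.aa)⁻¹ * a = 1 := by
      set kA := (Φ U.frame.aa)⁻¹ * a with hkA
      have hkb : Commute (b * b) kA := by rw [hbsq]; exact (hkA_c _ U.b0_sq_X).symm
      set r := (U.frame.gen : ZMod U.p) with hr
      have h1 : b * b * a * (b * b)⁻¹ = a ^ (r * r).val := by
        calc b * b * a * (b * b)⁻¹ = b * (b * a * b⁻¹) * b⁻¹ := by group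
          _ = a ^ (r * r).val := by
            rw [hba, ← conj_pow, hba, ← pow_mul]
            exact pow_eq_of_cast hap (by simp [hr])
      have haa : b * b * Φ U.frame.aa * (b * b)⁻¹ = Φ U.frame.aa ^ (r * r).val := by
        rw [hb2 _ U.aa_X, ← hΦ.map_pow U.aa_X]
        congr 1
        have hm : U.frame.b0 * U.frame.aa * U.frame.b0⁻¹ = U.frame.aa ^ r.val := by
          have := U.model_hba
          rw [halt] at this
          exact this
        calc U.frame.b0 * U.frame.b0 * U.frame.aa * (U.frame.b0 * U.frame.b0)⁻¹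
            = U.frame.b0 * (U.frame.b0 * U.frame.aa * U.frame.b0⁻¹) * U.frame.b0⁻¹ := by group
          _ = U.frame.aa ^ (r * r).val := by
            rw [hm, ← conj_pow, hm, ← pow_mul]
            exact U.aa_pow_cast (by simp)
      have ha1 : a = Φ U.frame.aa * kA := by rw [hkA, mul_inv_cancel_left]
      rw [ha1, ← conj_mul, haa, (hkA_c _ U.aa_X).symm.mul_pow, mul_right_inj, hkb.eq,
        mul_inv_cancel_right] at h1
      exact eq_one_of_pow_fix hprime hkA_p h1.symm
        (by rw [ZMod.natCast_zmod_val]; exact U.gen_sq_ne_one)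
    have ha1 : Φ U.frame.aa = a := inv_mul_eq_one.1 hkA1
    -- the extension to odd permutations
    let Φ' : Perm (Fin U.n) → P := fun g =>
      if Perm.sign g = 1 then Φ g else Φ (g * U.frame.b0⁻¹) * b
    have hev : ∀ g ∈ suppIn U.frame.X, Perm.sign g = 1 → Φ' g = Φ g := fun g _ h => if_pos h
    have hod : ∀ g ∈ suppIn U.frame.X, Perm.sign g = -1 → Φ' g = Φ (g * U.frame.b0⁻¹) * b :=
      fun g _ h => if_neg (by rw [h]; decide)
    have hcomb : ∀ h ∈ evenIn U.frame.X, b * Φ h = Φ (U.frame.b0 * h * U.frame.b0⁻¹) * b :=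
      fun h hh => by rw [← hΦb h hh]; group
    have hHom : HomOn (suppIn U.frame.X) Φ' := by
      intro g hg h hh
      rcases Int.units_eq_one_or (Perm.sign g) with sg | sg <;>
        rcases Int.units_eq_one_or (Perm.sign h) with sh | sh
      · rw [hev _ (mul_mem hg hh) (by simp [sg, sh]), hev g hg sg, hev h hh sh,
          hΦ g (mem_evenIn.2 ⟨hg, sg⟩) h (mem_evenIn.2 ⟨hh, sh⟩)]
      · rw [hod _ (mul_mem hg hh) (by simp [sg, sh]), hev g hg sg, hod h hh sh, ← mul_assoc,
          ← hΦ g (mem_evenIn.2 ⟨hg, sg⟩) _ (U.odd_fix_X hh sh), mul_assoc g]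
      · have hh' : h ∈ evenIn U.frame.X := mem_evenIn.2 ⟨hh, sh⟩
        rw [hod _ (mul_mem hg hh) (by simp [sg, sh]), hod g hg sg, hev h hh sh,
          mul_assoc (Φ (g * U.frame.b0⁻¹)), hcomb h hh', ← mul_assoc, ← hΦ _ (U.odd_fix_X hg sg) _ (hb0m h hh')]
        congr 2; group
      · have h2 := U.odd_fix_X hh sh
        rw [hev _ (mul_mem hg hh) (by simp [sg, sh]), hod g hg sg, hod h hh sh,
          mul_assoc, ← mul_assoc b, hcomb _ h2, mul_assoc (Φ (U.frame.b0 * _ * _)), hbsq,
          ← hΦ _ (hb0m _ h2) _ U.b0_sq_X,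
          ← hΦ _ (U.odd_fix_X hg sg) _ (mul_mem (hb0m _ h2) U.b0_sq_X)]
        congr 1; group
    have hΦ'tau : Φ' U.tau = Φ (U.tau * U.frame.b0⁻¹) * b := hod _ U.tau_X U.sign_tau
    refine ⟨
      { n := U.n, N := U.p + 2, f := U.f, e := U.pos, c0 := U.c0, c := c, L := U.target, Φ := Φ'
        hN5 := by omega, hNn := hpn, hf := U.hf, hrange := by have := U.hrange; omega
        he := U.pos_injOn, hfix := U.c0_fix, hstep := U.c0_step, hc0 := U.c0_pow
        hc := by rw [hc', ← map_pow]; exact r7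
        halt := U.alt_le_target
        hnorm := fun g hg => mul_mem (mul_mem U.c0_target hg) (inv_mem U.c0_target)
        hΦ := hHom.mono inf_le_left
        hshift := ?_ }, rfl, rfl, rfl, rfl, rfl, rfl, rfl, ?_, ?_, ?_⟩
    · intro g hg
      have hgen := U.gen_low_sym (Subgroup.closure {U.pc, U.tau})
        (Subgroup.subset_closure (Or.inl rfl)) (Subgroup.subset_closure (Or.inr rfl))
        (show g ∈ suppIn ((Finset.range (U.p + 1)).image U.pos) from hg.1)
      have hY : Subgroup.closure {U.pc, U.tau} ≤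
          suppIn ((Finset.range (U.p + 1)).image U.pos) := by
        rw [Subgroup.closure_le]
        rintro y (rfl | rfl)
        · exact U.pc_supp
        · exact suppIn_mono (Finset.image_subset_image (Finset.range_subset_range.2 (by omega)))
            U.tau_supp
      have hcm : ∀ y ∈ suppIn ((Finset.range (U.p + 1)).image U.pos),
          U.c0 * y * U.c0⁻¹ ∈ suppIn U.frame.X := fun y hy =>
        suppIn_mono (U.range_le_X (r := U.p + 2) le_rfl) (conj_mem_suppIn hy (U.c0_maps (by omega)))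
      have hXm : suppIn ((Finset.range (U.p + 1)).image U.pos) ≤ suppIn U.frame.X :=
        suppIn_mono (U.range_le_X (by omega))
      refine HomOn.eq_of_closure (Φ := fun g => Φ' (U.c0 * g * U.c0⁻¹))
        (Ψ := fun g => c * Φ' g * c⁻¹) _ ?_ ?_ ?_ g hgen
      · intro u hu v hv
        simp only
        rw [← hHom _ (hcm u (hY hu)) _ (hcm v (hY hv)), conj_mul]
      · intro u hu v hv
        simp only
        rw [hHom _ (hXm (hY hu)) _ (hXm (hY hv)), conj_mul]
      · rintro y (rfl | rfl)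
        · rw [show U.c0 * U.pc * U.c0⁻¹ = U.frame.aa by rw [pc]; group,
            hev _ U.frame.aa_supp U.frame.sign_aa, hev _ (hXm U.pc_supp) U.sign_pc, r5]
        · rw [hΦ'tau, r6, hod _ U.tau_conj_X (by simp [U.sign_tau]), hbp, hk2one, one_pow,
            mul_one, ← mul_assoc, ← hΦ _ U.tau_conj_fix_X _ (pow_mem U.b0_sq_X t)]
          congr 2
          rw [show U.frame.b0 ^ U.p = U.frame.b0 ^ (2 * t + 1) from congrArg (U.frame.b0 ^ ·) ht,
            pow_succ, two_mul, pow_add, ← (Commute.refl U.frame.b0).mul_pow t]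
          group
    · show Φ' (tri U.pos 0) = z
      rw [hev _ U.tri_zero_X.1 (U.tri_even (by omega)), ← hΦz]; rfl
    · show Φ' U.frame.aa = a
      rw [hev _ U.frame.aa_supp U.frame.sign_aa, ha1]
    · show Φ' (U.frame.bb false) = b
      rw [hbb, hod _ U.frame.b0_supp U.frame.sign_b0, mul_inv_cancel, hΦ.map_one, one_mul]
  · -- alternating case
    simp only [halt, if_true] at r6
    rw [halt] at hΦb
    have hK : ψ U.wK = (Φ (U.frame.bb true))⁻¹ * b := by
      rw [wK, halt]
      simp only [if_true, map_mul, map_inv, hwd _ U.bbT_X, hb']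
    set k1 := (Φ (U.frame.bb true))⁻¹ * b with hk1
    rw [hK] at r5
    simp only [map_mul, map_inv, mul_inv_eq_one, hwd _ U.tri_one_X, hK] at r6
    have hk1c : ∀ g ∈ evenIn U.frame.X, Commute k1 (Φ g) := by
      intro g hg
      have h1 := hΦb g hg
      rw [hΦ _ (mul_mem U.bbT_X hg) _ (inv_mem U.bbT_X), hΦ _ U.bbT_X _ hg,
        hΦ.map_inv U.bbT_X] at h1
      show (Φ (U.frame.bb true))⁻¹ * b * Φ g = Φ g * _
      have h3 : b * Φ g = Φ (U.frame.bb true) * Φ g * (Φ (U.frame.bb true))⁻¹ * b := by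
        rw [← h1]; group
      rw [hk1, mul_assoc, h3]; group
    have hk1p : k1 ^ U.p = 1 := by
      have h1 : (c * Φ U.pc * c⁻¹) ^ U.p = 1 := by
        rw [conj_pow, ← hΦ.map_pow U.pc_X, U.pc_pow, hΦ.map_one]; simp
      rw [r5, ((hk1c _ U.aa_X).symm).mul_pow, hΦaa, one_mul] at h1
      exact h1
    have hk13 : k1 ^ 3 = 1 := by
      have hzc : z ^ 3 = 1 := by
        rw [← hΦz, show tri U.frame.e 0 = tri U.pos 0 from rfl, ← hΦ.map_pow U.tri_zero_X,
          tri_cube U.pos_injOn (i := 0) (by omega), hΦ.map_one]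
      have h1 : (c * z * c⁻¹) ^ 3 = 1 := by rw [conj_pow, hzc]; simp
      rw [r6, ((hk1c _ U.tri_one_X).symm).mul_pow, ← hΦ.map_pow U.tri_one_X, conj_pow,
        tri_cube U.pos_injOn (by omega), mul_one, mul_inv_cancel, hΦ.map_one, one_mul] at h1
      exact h1
    have hk1one : k1 = 1 := by
      have hco : Nat.Coprime U.p 3 :=
        (Nat.coprime_primes hprime Nat.prime_three).2 (by omega)
      have := pow_gcd_eq_one.2 ⟨hk1p, hk13⟩
      rwa [hco, pow_one] at this
    rw [hk1one, mul_one] at r5 r6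
    have hb1 : Φ (U.frame.bb true) = b := by
      rw [hk1, inv_mul_eq_one] at hk1one; exact hk1one
    have hkA1 : (Φ U.frame.aa)⁻¹ * a = 1 := by
      set kA := (Φ U.frame.aa)⁻¹ * a with hkA
      have hkb : Commute b kA := by rw [← hb1]; exact (hkA_c _ U.bbT_X).symm
      have ha1 : a = Φ U.frame.aa * kA := by rw [hkA, mul_inv_cancel_left]
      have h1 := hba
      have haa : b * Φ U.frame.aa * b⁻¹ = Φ U.frame.aa ^ (U.frame.gen : ZMod U.p).val := by
        rw [hΦb _ U.aa_X, ← hΦ.map_pow U.aa_X]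
        congr 1
        have := U.model_hba
        rw [halt] at this
        exact this
      rw [ha1, ← conj_mul, haa, (hkA_c _ U.aa_X).symm.mul_pow, mul_right_inj, hkb.eq,
        mul_inv_cancel_right] at h1
      exact eq_one_of_pow_fix hprime hkA_p h1.symm
        (by rw [ZMod.natCast_zmod_val]; exact U.gen_ne_one)
    have ha1 : Φ U.frame.aa = a := inv_mul_eq_one.1 hkA1
    have htarget : U.target = alternatingGroup (Fin U.n) := by rw [target, halt]; rfl
    have hle : suppIn U.frame.X ⊓ U.target = evenIn U.frame.X := by rw [htarget]; rfl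
    refine ⟨
      { n := U.n, N := U.p + 2, f := U.f, e := U.pos, c0 := U.c0, c := c, L := U.target, Φ := Φ
        hN5 := by omega, hNn := hpn, hf := U.hf, hrange := by have := U.hrange; omega
        he := U.pos_injOn, hfix := U.c0_fix, hstep := U.c0_step, hc0 := U.c0_pow
        hc := by rw [hc', ← map_pow]; exact r7
        halt := U.alt_le_target
        hnorm := fun g hg => mul_mem (mul_mem U.c0_target hg) (inv_mem U.c0_target)
        hΦ := hΦ.mono hle.le
        hshift := ?_ }, rfl, rfl, rfl, rfl, rfl, rfl, rfl, ?_, ?_, ?_⟩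
    · intro g hg
      have hg' : g ∈ evenIn ((Finset.range (U.p + 1)).image U.pos) := by
        rw [htarget] at hg; exact hg
      have hgen := U.gen_low_alt (Subgroup.closure {U.pc, tri U.pos 0})
        (Subgroup.subset_closure (Or.inl rfl)) (Subgroup.subset_closure (Or.inr rfl)) hg'
      have hY : Subgroup.closure {U.pc, tri U.pos 0} ≤
          evenIn ((Finset.range (U.p + 1)).image U.pos) := by
        rw [Subgroup.closure_le]
        rintro y (rfl | rfl)
        · exact U.pc_evenIn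
        · exact tri_mem_evenIn U.pos_injOn (by omega) (by omega)
      have hcm : ∀ y ∈ evenIn ((Finset.range (U.p + 1)).image U.pos),
          U.c0 * y * U.c0⁻¹ ∈ evenIn U.frame.X := fun y hy =>
        evenIn_mono (U.range_le_X (r := U.p + 2) le_rfl) (conj_mem_evenIn hy (U.c0_maps (by omega)))
      have hXm : evenIn ((Finset.range (U.p + 1)).image U.pos) ≤ evenIn U.frame.X :=
        evenIn_mono (U.range_le_X (by omega))
      refine HomOn.eq_of_closure (Φ := fun g => Φ (U.c0 * g * U.c0⁻¹))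
        (Ψ := fun g => c * Φ g * c⁻¹) _ ?_ ?_ ?_ g hgen
      · intro u hu v hv
        simp only
        rw [← hΦ _ (hcm u (hY hu)) _ (hcm v (hY hv)), conj_mul]
      · intro u hu v hv
        simp only
        rw [hΦ _ (hXm (hY hu)) _ (hXm (hY hv)), conj_mul]
      · rintro y (rfl | rfl)
        · rw [show U.c0 * U.pc * U.c0⁻¹ = U.frame.aa by rw [pc]; group, r5]
        · rw [show Φ (tri U.pos 0) = z from hΦz, r6]
    · exact hΦz
    · exact ha1
    · exact hb1

/-- **Completeness of the seven relations.** -/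
theorem complete {P : Type*} [Group P] (ψ : F3 →* P) (hψ : ∀ r ∈ U.rels, ψ r = 1)
    (w : F3) (hw : U.ev w = 1) : ψ w = 1 := by
  classical
  have hp5 := U.hp5
  have hpn := U.hpn
  obtain ⟨W, hn, hN, hf, he, hc0, hc, hL, hz, ha, hb⟩ := U.windows ψ hψ
  obtain ⟨Ψ, hΨ, hu, h0⟩ := W.exists_hom
  have hA : HomOn (alternatingGroup (Fin U.n)) Ψ := by
    have key : (Finset.range W.n).image W.e = Finset.univ := by rw [hn, he, U.pos_univ]
    rw [← U.evenIn_univ, U.pos_univ, ← key]; exact hΨ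
  have hX : (Finset.range W.N).image W.e = U.frame.X := by rw [hN, he]; rfl
  rw [hX] at h0
  -- an extension to the whole target
  obtain ⟨Θ, hΘ, hΘA, hΘb⟩ : ∃ Θ : Perm (Fin U.n) → P, HomOn U.target Θ ∧
      (∀ g ∈ alternatingGroup (Fin U.n), Θ g = Ψ g) ∧ Θ (U.frame.bb U.alt) = ψ wb := by
    cases halt : U.alt
    · set τ := W.Φ U.tau with hτ
      have hsym : U.target = ⊤ := by rw [target, halt]; rfl
      have hseg : ∀ g ∈ suppIn U.frame.X, g ∈ suppIn ((Finset.range W.N).image W.e) ⊓ W.L := by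
        intro g hg
        rw [hX, hL, hsym]; exact ⟨hg, Subgroup.mem_top g⟩
      have hΦX : HomOn (suppIn U.frame.X) W.Φ := W.hΦ.mono (fun g hg => hseg g hg)
      have hτ2 : τ * τ = 1 := by
        rw [hτ, ← hΦX _ U.tau_X _ U.tau_X, U.tau_sq, hΦX.map_one]
      have hτinv : τ⁻¹ = τ := inv_eq_of_mul_eq_one_right hτ2
      have hconj : ∀ g ∈ alternatingGroup (Fin U.n), τ * Ψ g * τ⁻¹ = Ψ (U.tau * g * U.tau⁻¹) := by
        intro g hg
        rw [← U.evenIn_univ] at hg
        have hgen := evenIn_le_tri U.n U.pos U.pos_injOn U.n (by omega) le_rfl hg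
        have hle : Subgroup.closure (tri U.pos '' {i | i + 3 ≤ U.n}) ≤
            alternatingGroup (Fin U.n) := by
          rw [Subgroup.closure_le]
          rintro _ ⟨i, hi, rfl⟩
          exact Perm.mem_alternatingGroup.2 (U.tri_even hi)
        refine HomOn.eq_of_closure (Φ := fun g => τ * Ψ g * τ⁻¹)
          (Ψ := fun g => Ψ (U.tau * g * U.tau⁻¹)) _ ?_ ?_ ?_ g hgen
        · intro u hu v hv
          simp only
          rw [hA u (hle hu) v (hle hv), conj_mul]
        · intro u hu v hv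
          simp only
          have hm : ∀ x ∈ alternatingGroup (Fin U.n),
              U.tau * x * U.tau⁻¹ ∈ alternatingGroup (Fin U.n) :=
            fun x hx => by
              rw [Perm.mem_alternatingGroup] at hx ⊢
              simp [hx, U.sign_tau]
          rw [← hA _ (hm u (hle hu)) _ (hm v (hle hv)), conj_mul]
        · rintro _ ⟨i, hi, rfl⟩
          simp only [Set.mem_ofPred_eq] at hi
          have h := W.swap_conj Ψ hΨ hu (by rw [hX]; exact h0) (by rw [hf]; exact U.hf0 halt)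
            (by rw [hL, hsym]; exact Subgroup.mem_top _) (i := i) (by omega)
          rw [← hu i (by omega), he] at h
          exact h
      let Θ : Perm (Fin U.n) → P := fun g =>
        if Perm.sign g = 1 then Ψ g else Ψ (g * U.tau) * τ
      have hev : ∀ g, Perm.sign g = 1 → Θ g = Ψ g := fun g h => if_pos h
      have hod : ∀ g, Perm.sign g = -1 → Θ g = Ψ (g * U.tau) * τ :=
        fun g h => if_neg (by rw [h]; decide)
      have mev : ∀ g, Perm.sign g = 1 → g ∈ alternatingGroup (Fin U.n) :=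
        fun g h => Perm.mem_alternatingGroup.2 h
      have hcomb : ∀ g ∈ alternatingGroup (Fin U.n), τ * Ψ g = Ψ (U.tau * g * U.tau⁻¹) * τ :=
        fun g hg => by rw [← hconj g hg]; group
      have htinv : U.tau⁻¹ = U.tau := inv_eq_of_mul_eq_one_right U.tau_sq
      refine ⟨Θ, fun g _ h _ => ?_, fun g hg => hev g (Perm.mem_alternatingGroup.1 hg), ?_⟩
      · rcases Int.units_eq_one_or (Perm.sign g) with sg | sg <;>
          rcases Int.units_eq_one_or (Perm.sign h) with sh | sh
        · rw [hev _ (by simp [sg, sh]), hev g sg, hev h sh, hA g (mev g sg) h (mev h sh)]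
        · rw [hod _ (by simp [sg, sh]), hev g sg, hod h sh, ← mul_assoc,
            ← hA g (mev g sg) _ (mev _ (by simp [sh, U.sign_tau])), mul_assoc g]
        · rw [hod _ (by simp [sg, sh]), hod g sg, hev h sh, mul_assoc (Ψ (g * U.tau)), hcomb h (mev h sh),
            ← mul_assoc, ← hA _ (mev _ (by simp [sg, U.sign_tau])) _ (mev _ (by simp [sh]))]
          congr 2
          rw [htinv]
          simp only [mul_assoc]
          rw [← mul_assoc U.tau U.tau, U.tau_sq, one_mul]
        · rw [hev _ (by simp [sg, sh]), hod g sg, hod h sh, mul_assoc, ← mul_assoc τ,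
            hcomb _ (mev _ (by simp [sh, U.sign_tau])), mul_assoc _ τ, hτ2, mul_one,
            ← hA _ (mev _ (by simp [sg, U.sign_tau])) _ (mev _ (by simp [sh, U.sign_tau]))]
          congr 1
          rw [htinv]
          simp only [mul_assoc, U.tau_sq, mul_one]
          rw [← mul_assoc U.tau U.tau, U.tau_sq, one_mul]
      · have hbs : Perm.sign (U.frame.bb false) = -1 := by rw [U.frame.sign_bb]; rfl
        rw [hod _ hbs]
        have hm : U.frame.bb false * U.tau ∈ evenIn U.frame.X :=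
          mem_evenIn.2 ⟨mul_mem (U.frame.bb_supp _) U.tau_X, by simp [hbs, U.sign_tau]⟩
        rw [h0 _ hm, hΦX _ (U.frame.bb_supp _) _ U.tau_X, mul_assoc, hτ2, mul_one, ← halt, hb]
    · have htarget : U.target = alternatingGroup (Fin U.n) := by rw [target, halt]; rfl
      refine ⟨Ψ, by rw [htarget]; exact hA, fun g _ => rfl, ?_⟩
      rw [h0 _ U.bbT_X, ← halt, hb]
  -- all generators
  have hgood : ∀ v ∈ U.good, ψ v = Θ (U.ev v) := by
    intro v hv
    induction hv using Subgroup.closure_induction with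
    | mem y hy =>
      rcases hy with rfl | ⟨i, hi, rfl⟩
      · rw [U.ev_b, hΘb]
      · simp only [map_mul, map_inv, map_pow, ev_c, ev_z]
        have hmem : U.c0 ^ i * tri U.pos 0 * (U.c0 ^ i)⁻¹ ∈ alternatingGroup (Fin U.n) :=
          Perm.mem_alternatingGroup.2 (by simp [U.tri_even (show 0 + 3 ≤ U.n by omega)])
        rw [hΘA _ hmem]
        have h := W.conj_tri_zero Ψ hΨ hu (by rw [hX]; exact h0) (i := i) (by omega)
        rw [hc, hc0, he, hz] at h
        exact h
    | one => rw [map_one, map_one, hΘ.map_one]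
    | mul u v _ _ hu' hv' => rw [map_mul, map_mul, hΘ _ (U.ev_target u) _ (U.ev_target v), hu', hv']
    | inv u _ hu' => rw [map_inv, map_inv, hΘ.map_inv (U.ev_target u), hu']
  have hΘa : Θ U.frame.aa = ψ U.wa := by
    rw [hΘA _ (Perm.mem_alternatingGroup.2 U.frame.sign_aa), h0 _ U.aa_X, ha]
  have hΘc : Θ U.c0 = ψ wc := by
    have h1 : ψ U.wa = ψ wc * ψ U.wk := by rw [wa, map_mul]
    have h2 : Θ U.frame.aa = Θ U.c0 * Θ (U.c0⁻¹ * U.frame.aa) := by
      rw [← hΘ _ U.c0_target _ (mul_mem (inv_mem U.c0_target) U.aa_target), mul_inv_cancel_left]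
    rw [hΘa, h1, hgood _ U.wk_mem, U.ev_wk] at h2
    exact (mul_right_cancel h2).symm
  have hΘz : Θ (tri U.pos 0) = ψ wz := by
    rw [hΘA _ (Perm.mem_alternatingGroup.2 (U.tri_even (by omega))), h0 _ U.tri_zero_X, hz]
  have hall : ∀ v, ψ v = Θ (U.ev v) := by
    intro v
    induction v using FreeGroup.induction_on with
    | C1 => rw [map_one, map_one, hΘ.map_one]
    | of i =>
      fin_cases i
      · show ψ wc = Θ (U.ev wc)
        rw [U.ev_c, hΘc]
      · show ψ wb = Θ (U.ev wb)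
        rw [U.ev_b, hΘb]
      · show ψ wz = Θ (U.ev wz)
        rw [U.ev_z, hΘz]
    | inv_of i h => rw [map_inv, map_inv, hΘ.map_inv (U.ev_target _), h]
    | mul u v hu' hv' => rw [map_mul, map_mul, hΘ _ (U.ev_target u) _ (U.ev_target v), hu', hv']
  rw [hall w, hw, hΘ.map_one]

end Setup

end H24.AltPres
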