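import Cfsg.Agent.H24.AltModel

/-! Seven relations on three generators for alternating and symmetric groups. -/

set_option autoImplicit false
set_option linter.unusedSectionVars false

namespace H24.AltPres

open Equiv

/-- Free group on three letters. -/
abbrev F3 := FreeGroup (Fin 3)

/-- The letter of the long cycle. -/
def wc : F3 := FreeGroup.of 0

/-- The letter of the multiplication. -/
def wb : F3 := FreeGroup.of 1

/-- The letter of the 3-cycle. -/
def wz : F3 := FreeGroup.of 2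

namespace Setup

variable (U : Setup)

/-- The evaluation in the model. -/
noncomputable def ev : F3 →* Perm (Fin U.n) :=
  FreeGroup.lift ![U.c0, U.frame.bb U.alt, tri U.pos 0]

theorem ev_c : U.ev wc = U.c0 := FreeGroup.lift_apply_of
theorem ev_b : U.ev wb = U.frame.bb U.alt := FreeGroup.lift_apply_of
theorem ev_z : U.ev wz = tri U.pos 0 := FreeGroup.lift_apply_of

/-- Words whose value is controlled. -/
def good : Subgroup F3 :=
  Subgroup.closure ({wb} ∪ {w | ∃ i : ℕ, i + 3 ≤ U.n ∧ wc ^ i * wz * (wc ^ i)⁻¹ = w})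

theorem good_surj : U.target ≤ U.good.map U.ev := by
  have hA : alternatingGroup (Fin U.n) ≤ U.good.map U.ev := by
    refine U.conj_tri_zero_mem (fun i hi => ?_)
    exact ⟨wc ^ i * wz * (wc ^ i)⁻¹, Subgroup.subset_closure (Or.inr ⟨i, hi, rfl⟩),
      by simp [ev_c, ev_z]⟩
  cases h : U.alt
  · intro g _
    have hb : U.frame.bb U.alt ∈ U.good.map U.ev :=
      ⟨wb, Subgroup.subset_closure (Or.inl rfl), U.ev_b⟩
    rcases Int.units_eq_one_or (Perm.sign g) with hg | hg
    · exact hA (Perm.mem_alternatingGroup.2 hg)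
    · have h1 : g * (U.frame.bb U.alt)⁻¹ ∈ U.good.map U.ev :=
        hA (Perm.mem_alternatingGroup.2 (by rw [map_mul, map_inv, hg, U.frame.sign_bb, h]; decide))
      simpa using mul_mem h1 hb
  · simpa [target, h] using hA

theorem exists_corr : ∃ k ∈ U.good, U.ev k = U.c0⁻¹ * U.frame.aa :=
  U.good_surj (mul_mem (inv_mem U.c0_target) U.aa_target)

/-- The correction word. -/
noncomputable def wk : F3 := U.exists_corr.choose

theorem wk_mem : U.wk ∈ U.good := U.exists_corr.choose_spec.1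

theorem ev_wk : U.ev U.wk = U.c0⁻¹ * U.frame.aa := U.exists_corr.choose_spec.2

/-- The word for the translation. -/
noncomputable def wa : F3 := wc * U.wk

theorem ev_wa : U.ev U.wa = U.frame.aa := by simp [wa, ev_c, ev_wk]

/-- Words in the window. -/
noncomputable def winWords : Subgroup F3 :=
  Subgroup.closure {w | ∃ i : ℕ, i < U.p ∧ U.wa ^ i * wz * (U.wa ^ i)⁻¹ = w}

theorem aa_pow_tri {i : ℕ} (hi : i < U.p) :
    U.frame.aa ^ i * tri U.pos 0 * (U.frame.aa ^ i)⁻¹ =
      cyc (U.frame.e 0) (U.frame.e 1) (fpt U.p U.n U.frame.e U.frame.hpn U.frame.he (i : ZMod U.p)) := by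
  induction i with
  | zero =>
    rw [Nat.cast_zero, U.frame.tri_zero, pow_zero, one_mul, inv_one, mul_one]; rfl
  | succ i ih =>
    have h := ih (by omega)
    rw [pow_succ', Nat.cast_succ, ← U.frame.aa_pt]
    calc U.frame.aa * U.frame.aa ^ i * tri U.pos 0 * (U.frame.aa * U.frame.aa ^ i)⁻¹
        = U.frame.aa * (U.frame.aa ^ i * tri U.pos 0 * (U.frame.aa ^ i)⁻¹) * U.frame.aa⁻¹ := by group
      _ = _ := by rw [h, cyc_conj, U.frame.aa_low 0 (by omega), U.frame.aa_low 1 (by omega)]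

theorem winWords_surj : evenIn U.frame.X ≤ U.winWords.map U.ev := by
  rw [← U.frame.image_pt]
  refine (evenIn_le_closure _ _ U.frame.e_ne _ ?_ ?_).trans ((Subgroup.closure_le _).2 ?_)
  · intro h
    obtain ⟨i, _, hi⟩ := Finset.mem_map.1 h
    exact U.frame.pt_ne i 0 (by omega) hi.symm
  · intro h
    obtain ⟨i, _, hi⟩ := Finset.mem_map.1 h
    exact U.frame.pt_ne i 1 (by omega) hi.symm
  rintro _ ⟨y, hy, rfl⟩
  obtain ⟨i, _, rfl⟩ := Finset.mem_map.1 hy
  refine ⟨U.wa ^ i.val * wz * (U.wa ^ i.val)⁻¹,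
    Subgroup.subset_closure ⟨i.val, ZMod.val_lt i, rfl⟩, ?_⟩
  rw [map_mul, map_mul, map_inv, map_pow, ev_wa, ev_z, U.aa_pow_tri (ZMod.val_lt i),
    ZMod.natCast_zmod_val]

/-- A window word for a given value. -/
noncomputable def wd (g : Perm (Fin U.n)) : F3 := by
  classical
  exact if h : g ∈ evenIn U.frame.X then (U.winWords_surj h).choose else 1

theorem wd_spec {g : Perm (Fin U.n)} (h : g ∈ evenIn U.frame.X) :
    U.wd g ∈ U.winWords ∧ U.ev (U.wd g) = g := by
  simp only [wd, dif_pos h]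
  exact (U.winWords_surj h).choose_spec

theorem range_le_X {r : ℕ} (hr : r ≤ U.p + 2) :
    (Finset.range r).image U.pos ⊆ U.frame.X :=
  Finset.image_subset_image (Finset.range_subset_range.2 hr)

theorem tri_zero_X : tri U.pos 0 ∈ evenIn U.frame.X := by
  have := U.hp5; have := U.hpn
  exact evenIn_mono (U.range_le_X (r := 3) (by omega)) (tri_mem_evenIn U.pos_injOn le_rfl (by omega))

theorem tau_supp : U.tau ∈ suppIn ((Finset.range 2).image U.pos) := fun x hx =>
  swap_apply_of_ne_of_ne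
    (fun h => hx (h ▸ Finset.mem_image_of_mem _ (Finset.mem_range.2 (by omega))))
    (fun h => hx (h ▸ Finset.mem_image_of_mem _ (Finset.mem_range.2 (by omega))))

theorem c0_maps {r : ℕ} (hr : r < U.n) : ∀ x ∈ (Finset.range r).image U.pos,
    U.c0 x ∈ (Finset.range (r + 1)).image U.pos := by
  intro x hx
  obtain ⟨i, hi, rfl⟩ := Finset.mem_image.1 hx
  rw [Finset.mem_range] at hi
  rcases Nat.lt_or_ge i U.f with h | h
  · rw [U.c0_fix i h]; exact Finset.mem_image_of_mem _ (Finset.mem_range.2 (by omega))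
  · rw [U.c0_step i h (by omega)]; exact Finset.mem_image_of_mem _ (Finset.mem_range.2 (by omega))

theorem tri_one_X : U.c0 * tri U.pos 0 * U.c0⁻¹ ∈ evenIn U.frame.X := by
  have := U.hp5; have := U.hpn
  exact evenIn_mono (U.range_le_X (r := 4) (by omega))
    (conj_mem_evenIn (tri_mem_evenIn U.pos_injOn (l := 3) le_rfl (by omega)) (U.c0_maps (by omega)))

theorem aa_X : U.frame.aa ∈ evenIn U.frame.X := mem_evenIn.2 ⟨U.frame.aa_supp, U.frame.sign_aa⟩

theorem bbT_X : U.frame.bb true ∈ evenIn U.frame.X :=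
  mem_evenIn.2 ⟨U.frame.bb_supp true, by rw [U.frame.sign_bb]; rfl⟩

theorem b0_sq_X : U.frame.b0 * U.frame.b0 ∈ evenIn U.frame.X :=
  mem_evenIn.2 ⟨mul_mem U.frame.b0_supp U.frame.b0_supp, by rw [map_mul, U.frame.sign_b0]; decide⟩

theorem odd_fix_X {g : Perm (Fin U.n)} (hg : g ∈ suppIn U.frame.X) (hs : Perm.sign g = -1) :
    g * U.frame.b0⁻¹ ∈ evenIn U.frame.X :=
  mem_evenIn.2 ⟨mul_mem hg (inv_mem U.frame.b0_supp),
    by rw [map_mul, map_inv, hs, U.frame.sign_b0]; decide⟩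

theorem tau_X : U.tau ∈ suppIn U.frame.X :=
  suppIn_mono (U.range_le_X (r := 2) (by omega)) U.tau_supp

theorem tau_conj_X : U.c0 * U.tau * U.c0⁻¹ ∈ suppIn U.frame.X := by
  have := U.hp5; have := U.hpn
  exact suppIn_mono (U.range_le_X (r := 3) (by omega))
    (conj_mem_suppIn U.tau_supp (U.c0_maps (by omega)))

theorem tau_fix_X : U.tau * U.frame.b0⁻¹ ∈ evenIn U.frame.X := U.odd_fix_X U.tau_X U.sign_tau

theorem tau_conj_fix_X :
    U.c0 * U.tau * U.c0⁻¹ * (U.frame.b0 ^ U.p)⁻¹ ∈ evenIn U.frame.X := by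
  refine mem_evenIn.2 ⟨mul_mem U.tau_conj_X (inv_mem (pow_mem U.frame.b0_supp _)), ?_⟩
  have hodd := (Fact.out : U.p.Prime).odd_of_ne_two (by have := U.hp5; omega)
  rw [map_mul, map_inv, map_pow, U.frame.sign_b0, hodd.neg_one_pow]
  simp [U.sign_tau]

/-- The exponent of the conjugation relation. -/
noncomputable def sExp : ℕ := ((U.frame.gen : ZMod U.p) / ((U.frame.gen : ZMod U.p) - 1)).val

theorem gen_sq_ne_one : (U.frame.gen : ZMod U.p) * U.frame.gen ≠ 1 := by
  intro h
  have h1 : U.frame.gen ^ 2 = 1 := by rw [pow_two]; exact Units.ext h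
  have h2 := orderOf_dvd_of_pow_eq_one h1
  have h3 : orderOf U.frame.gen = U.p - 1 := by
    rw [orderOf_eq_card_of_forall_mem_zpowers U.frame.hgen, Nat.card_units, Nat.card_zmod]
  rw [h3] at h2
  have := Nat.le_of_dvd (by norm_num) h2
  have := U.hp5
  omega

theorem gen_ne_one : (U.frame.gen : ZMod U.p) ≠ 1 := fun h => U.gen_sq_ne_one (by rw [h, one_mul])

theorem sExp_cast : ((U.sExp : ℕ) : ZMod U.p) =
    (U.frame.gen : ZMod U.p) / ((U.frame.gen : ZMod U.p) - 1) := ZMod.natCast_zmod_val _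

theorem sExp_pos : 1 ≤ U.sExp := by
  have h : ((U.frame.gen : ZMod U.p) / ((U.frame.gen : ZMod U.p) - 1)) ≠ 0 :=
    div_ne_zero (Units.ne_zero _) (sub_ne_zero.2 U.gen_ne_one)
  exact Nat.one_le_iff_ne_zero.2 fun h0 => h ((ZMod.val_eq_zero _).1 h0)

theorem sExp_eq : (U.frame.gen : ZMod U.p) * ((U.sExp : ZMod U.p) - 1) = U.sExp := by
  have := sub_ne_zero.2 U.gen_ne_one
  rw [U.sExp_cast]; field_simp; ring

/-- The correction element. -/
noncomputable def wK : F3 :=
  if U.alt then (U.wd (U.frame.bb true))⁻¹ * wb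
  else (U.wd (U.frame.b0 * U.frame.b0))⁻¹ * (wb * wb)

theorem ev_wK : U.ev U.wK = 1 := by
  cases h : U.alt <;> simp only [wK, h, Bool.false_eq_true, if_false, if_true]
  · rw [map_mul, map_inv, (U.wd_spec U.b0_sq_X).2, map_mul, ev_b, h, inv_mul_eq_one]; rfl
  · rw [map_mul, map_inv, (U.wd_spec U.bbT_X).2, ev_b, h, inv_mul_cancel]

/-- The seven relators. -/
noncomputable def rels : List F3 :=
  [U.wa ^ U.p * (wz ^ 3)⁻¹,
   wb⁻¹ * U.wa ^ U.sExp * wb * (U.wa ^ (U.sExp - 1))⁻¹,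
   wb * wz * wb⁻¹ * (if U.alt then wz⁻¹ else wz)⁻¹,
   (wz * (U.wa * wz * U.wa⁻¹)) ^ 2,
   wc * U.wd U.pc * wc⁻¹ * (U.wd U.frame.aa * U.wK)⁻¹,
   if U.alt then wc * wz * wc⁻¹ * (U.wd (U.c0 * tri U.pos 0 * U.c0⁻¹) * U.wK)⁻¹
   else wc * (U.wd (U.tau * U.frame.b0⁻¹) * wb) * wc⁻¹ *
     (U.wd (U.c0 * U.tau * U.c0⁻¹ * (U.frame.b0 ^ U.p)⁻¹) * wb ^ U.p)⁻¹,
   wc ^ (U.n - U.f)]

theorem pc_X : U.pc ∈ evenIn U.frame.X :=
  evenIn_mono (U.range_le_X (by omega)) U.pc_evenIn

theorem model_hbz :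
    U.frame.bb U.alt * tri U.pos 0 * (U.frame.bb U.alt)⁻¹ =
      if U.alt then (tri U.pos 0)⁻¹ else tri U.pos 0 := by
  have h : tri U.pos 0 = cyc (U.frame.e 0) (U.frame.e 1)
      (fpt U.p U.n U.frame.e U.frame.hpn U.frame.he 0) := U.frame.tri_zero.symm
  rw [h, cyc_conj, U.frame.bb_pt, mul_zero]
  cases U.alt
  · rw [show U.frame.bb false = U.frame.b0 from rfl, U.frame.b0_low 0 (by omega),
      U.frame.b0_low 1 (by omega)]; rfl
  · simp only [Frame.bb, if_true, Perm.mul_apply, swap_apply_left, swap_apply_right]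
    rw [U.frame.b0_low 0 (by omega), U.frame.b0_low 1 (by omega),
      cyc_swap_inv (U.frame.pt_ne 0 0 (by omega)) (U.frame.pt_ne 0 1 (by omega))]

theorem model_hba : U.frame.bb U.alt * U.frame.aa * (U.frame.bb U.alt)⁻¹ =
    U.frame.aa ^ (U.frame.gen : ZMod U.p).val := by
  have hpow : ∀ (k : ℕ) (i : ZMod U.p),
      (U.frame.aa ^ k) (fpt U.p U.n U.frame.e U.frame.hpn U.frame.he i) =
        fpt U.p U.n U.frame.e U.frame.hpn U.frame.he (i + k) := by
    intro k
    induction k with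
    | zero => intro i; simp
    | succ k ih =>
      intro i
      rw [pow_succ', Perm.mul_apply, ih, U.frame.aa_pt, Nat.cast_succ, add_assoc]
  rw [mul_inv_eq_iff_eq_mul]
  refine Equiv.ext fun x => ?_
  rw [Perm.mul_apply, Perm.mul_apply]
  by_cases hx : x ∈ Set.range (fpt U.p U.n U.frame.e U.frame.hpn U.frame.he)
  · obtain ⟨i, rfl⟩ := hx
    rw [U.frame.aa_pt, U.frame.bb_pt, U.frame.bb_pt, hpow, ZMod.natCast_zmod_val, mul_add, mul_one]
  · have h1 : U.frame.bb U.alt x ∉ Set.range (fpt U.p U.n U.frame.e U.frame.hpn U.frame.he) := by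
      rintro ⟨i, hi⟩
      refine hx ⟨(U.frame.gen⁻¹ : (ZMod U.p)ˣ) * i, (U.frame.bb U.alt).injective ?_⟩
      rw [U.frame.bb_pt, ← mul_assoc, ← Units.val_mul, mul_inv_cancel, Units.val_one, one_mul]
      exact hi
    have h2 : ∀ y, y ∉ Set.range (fpt U.p U.n U.frame.e U.frame.hpn U.frame.he) →
        U.frame.aa y = y := fun y hy => Perm.viaEmbedding_apply_of_notMem _ _ _ hy
    rw [h2 x hx, Perm.pow_apply_eq_self_of_apply_eq_self (h2 _ h1)]

theorem aa_pow_cast {i j : ℕ} (h : (i : ZMod U.p) = j) : U.frame.aa ^ i = U.frame.aa ^ j :=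
  pow_eq_of_cast U.frame.aa_pow h

theorem model_rels : ∀ r ∈ U.rels, U.ev r = 1 := by
  intro r hr
  simp only [rels, List.mem_cons, List.not_mem_nil, or_false] at hr
  rcases hr with rfl | rfl | rfl | rfl | rfl | rfl | rfl
  · rw [map_mul, map_inv, map_pow, map_pow, ev_wa, ev_z, U.frame.aa_pow,
      tri_cube U.pos_injOn (by have := U.hp5; have := U.hpn; omega)]
    simp
  · rw [map_mul, map_mul, map_mul, map_inv, map_inv, map_pow, map_pow, ev_wa, ev_b]
    have h1 := conj_pow (a := U.frame.bb U.alt) (b := U.frame.aa) (i := U.sExp - 1)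
    rw [U.model_hba, ← pow_mul] at h1
    have h2 : U.frame.aa ^ ((U.frame.gen : ZMod U.p).val * (U.sExp - 1)) = U.frame.aa ^ U.sExp := by
      refine U.aa_pow_cast ?_
      rw [Nat.cast_mul, ZMod.natCast_zmod_val, Nat.cast_sub U.sExp_pos, Nat.cast_one, U.sExp_eq]
    rw [← h2, h1]; group
  · rw [map_mul, map_mul, map_mul, map_inv, map_inv, ev_b, ev_z, U.model_hbz]
    cases U.alt <;> simp [ev_z]
  · rw [map_pow, map_mul, map_mul, map_mul, map_inv, ev_wa, ev_z]
    have h := U.aa_pow_tri (i := 1) (by have := U.hp5; omega)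
    rw [pow_one] at h
    rw [h]
    have h0 : tri U.pos 0 = cyc (U.frame.e 0) (U.frame.e 1)
      (fpt U.p U.n U.frame.e U.frame.hpn U.frame.he 0) := U.frame.tri_zero.symm
    rw [h0]
    refine cyc_mul_cyc_sq U.frame.e_ne (U.frame.pt_ne _ 0 (by omega)) (U.frame.pt_ne _ 1 (by omega))
      (U.frame.pt_ne _ 0 (by omega)) (U.frame.pt_ne _ 1 (by omega)) ?_
    rw [Nat.cast_one]
    exact fun hc => zero_ne_one ((fpt U.p U.n U.frame.e U.frame.hpn U.frame.he).injective hc)
  · simp only [map_mul, map_inv, ev_c, ev_wK, (U.wd_spec U.pc_X).2, (U.wd_spec U.aa_X).2, mul_one]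
    rw [pc]; group
  · cases h : U.alt <;> simp only [Bool.false_eq_true, if_false, if_true]
    · simp only [map_mul, map_inv, map_pow, ev_c, ev_b, h, (U.wd_spec U.tau_fix_X).2,
        (U.wd_spec U.tau_conj_fix_X).2, show U.frame.bb false = U.frame.b0 from rfl,
        inv_mul_cancel_right]
      group
    · simp only [map_mul, map_inv, ev_c, ev_z, ev_wK, (U.wd_spec U.tri_one_X).2, mul_one]
      group
  · rw [map_pow, ev_c, U.c0_pow]

theorem ev_target : ∀ w, U.ev w ∈ U.target := by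
  intro w
  induction w using FreeGroup.induction_on with
  | C1 => rw [map_one]; exact one_mem _
  | of i =>
    rw [ev, FreeGroup.lift_apply_of]
    fin_cases i
    · exact U.c0_target
    · exact U.bb_target
    · exact U.tri_target (by have := U.hp5; have := U.hpn; omega)
  | inv_of i h => rw [map_inv]; exact inv_mem h
  | mul u v hu hv => rw [map_mul]; exact mul_mem hu hv

end Setup

end H24.AltPres
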