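import Cfsg.Agent.H24.AltWindow

/-! The affine group of a prime field gives a short presentation on `p + 2` points. -/

set_option autoImplicit false
set_option linter.unusedSectionVars false

namespace H24.AltPres

open Equiv

section Algebra

variable {P : Type*} [Group P]

/-- A central cube in a `(3,3,2)` triangle group has order dividing 8. -/
theorem tetra_central (z w Z : P) (hz : z ^ 3 = Z) (hw : w ^ 3 = Z) (ht : (z * w) ^ 2 = 1)
    (hwZ : Commute w Z) : Z ^ 8 = 1 := by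
  set t := z * w with htdef
  have hzZ : Commute z Z := by rw [← hz]; exact (Commute.refl z).pow_right 3
  have htZ : Commute t Z := hzZ.mul_left hwZ
  have htt : t * t = 1 := by rw [← pow_two]; exact ht
  let x : ℕ → P := fun k => z ^ k * t * (z ^ k)⁻¹
  have hxx : ∀ k, x k * x k = 1 := by
    intro k
    simp only [x]
    rw [conj_mul, htt]; simp
  have hxZ : ∀ k, Commute (x k) Z := fun k =>
    ((hzZ.pow_left k).mul_left htZ).mul_left (hzZ.pow_left k).inv_left
  have hper : ∀ k, x (k + 3) = x k := by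
    intro k
    simp only [x]
    rw [show k + 3 = 3 + k by omega, pow_add, hz]
    have h : Commute (x k) Z := hxZ k
    calc Z * z ^ k * t * (Z * z ^ k)⁻¹ = Z * x k * Z⁻¹ := by simp only [x]; group
      _ = x k := by rw [← h.eq]; group
  have hprod : x 2 * x 1 * x 0 = Z ^ 2 := by
    have h1 : (z⁻¹ * t) ^ 3 = Z := by rw [htdef, inv_mul_cancel_left]; exact hw
    have h2 : z ^ 3 * (z⁻¹ * t) ^ 3 = x 2 * x 1 * x 0 := by
      simp only [x, pow_succ, pow_zero, one_mul]; group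
    rw [← h2, h1, hz, pow_two]
  have hprod' : x 0 * x 2 * x 1 = Z ^ 2 := by
    have h3 : z * (x 2 * x 1 * x 0) * z⁻¹ = x 3 * x 2 * x 1 := by
      simp only [x, pow_succ, pow_zero, one_mul]; group
    have h4 : x 3 = x 0 := hper 0
    rw [← h4, ← h3, hprod, (hzZ.pow_right 2).eq]; group
  have e1 : x 2 * x 1 = Z ^ 2 * x 0 := by
    rw [← hprod, mul_assoc (x 2 * x 1), hxx, mul_one]
  have e2 : x 0 * x 2 = Z ^ 2 * x 1 := by
    rw [← hprod', mul_assoc (x 0 * x 2), hxx, mul_one]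
  have e3 : x 2 * x 1 * x 2 = Z ^ 4 * x 1 := by
    rw [e1, mul_assoc, e2, ← mul_assoc, ← pow_add]
  have e4 : (Z ^ 4 * x 1) * (Z ^ 4 * x 1) = 1 := by
    rw [← e3]
    calc x 2 * x 1 * x 2 * (x 2 * x 1 * x 2) = x 2 * (x 1 * (x 2 * x 2) * x 1) * x 2 := by group
      _ = 1 := by rw [hxx, mul_one, hxx, mul_one, hxx]
  rw [((hxZ 1).pow_right 4).mul_mul_mul_comm, hxx, mul_one, ← pow_add] at e4
  exact e4

theorem pow_eq_of_cast {a : P} {p : ℕ} (ha : a ^ p = 1) {i j : ℕ}
    (h : (i : ZMod p) = (j : ZMod p)) : a ^ i = a ^ j :=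
  pow_eq_pow_of_modEq ((ZMod.natCast_eq_natCast_iff _ _ _).1 h) ha

/-- The relations force `a ^ p = 1` and `z ^ 3 = 1`. -/
theorem frame_orders (alt : Bool) (p s : ℕ) (hs : 1 ≤ s) (a b z : P) (h1 : a ^ p = z ^ 3)
    (h2 : b⁻¹ * a ^ s * b = a ^ (s - 1)) (h3 : b * z * b⁻¹ = if alt then z⁻¹ else z)
    (h4 : (z * (a * z * a⁻¹)) ^ 2 = 1) : a ^ p = 1 ∧ z ^ 3 = 1 := by
  set Z := z ^ 3 with hZ
  have haZ : Commute a Z := by rw [← h1]; exact (Commute.refl a).pow_right p
  have hzZ : Commute z Z := by rw [hZ]; exact (Commute.refl z).pow_right 3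
  have h8 : Z ^ 8 = 1 := by
    refine tetra_central z (a * z * a⁻¹) Z rfl ?_ h4 ((haZ.mul_left hzZ).mul_left haZ.inv_left)
    rw [conj_pow, ← hZ, haZ.eq]; group
  have hp : (b⁻¹ * Z * b) ^ s = Z ^ (s - 1) := by
    have h : (b⁻¹ * a ^ s * b) ^ p = (a ^ (s - 1)) ^ p := by rw [h2]
    rw [show b⁻¹ * a ^ s * b = b⁻¹ * a ^ s * (b⁻¹)⁻¹ by rw [inv_inv], conj_pow, ← pow_mul,
      ← pow_mul, mul_comm s p, mul_comm (s - 1) p, pow_mul, pow_mul, h1, inv_inv] at h
    rw [show b⁻¹ * Z * b = b⁻¹ * Z * (b⁻¹)⁻¹ by rw [inv_inv], conj_pow, inv_inv]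
    exact h
  have hbZ : b * Z * b⁻¹ = if alt then Z⁻¹ else Z := by
    rw [hZ, ← conj_pow, h3]
    cases alt <;> simp
  have hZ1 : Z = 1 := by
    obtain ⟨t, rfl⟩ : ∃ t, s = t + 1 := ⟨s - 1, by omega⟩
    cases alt
    · simp only [Bool.false_eq_true, if_false] at hbZ
      have : b⁻¹ * Z * b = Z := by
        nth_rewrite 1 [← hbZ]; group
      rw [this, Nat.add_sub_cancel, pow_succ, mul_eq_left] at hp
      exact hp
    · simp only [if_true] at hbZ
      have : b⁻¹ * Z * b = Z⁻¹ := by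
        have h := congrArg (fun y => y⁻¹) hbZ
        simp only [mul_inv_rev, inv_inv] at h
        nth_rewrite 1 [← h]; group
      rw [this, Nat.add_sub_cancel, inv_pow, inv_eq_iff_mul_eq_one, ← pow_add,
        show t + 1 + t = 2 * t + 1 by omega] at hp
      have hco : Nat.Coprime (2 * t + 1) 8 := by
        rw [show 8 = 2 ^ 3 by norm_num, Nat.coprime_pow_right_iff (by norm_num), Nat.coprime_two_right]
        exact ⟨t, rfl⟩
      have := pow_gcd_eq_one.2 ⟨hp, h8⟩
      rwa [hco, pow_one] at this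
  exact ⟨h1.trans hZ1, hZ1⟩

end Algebra

section Model

variable (p n : ℕ) [Fact p.Prime] (e : ℕ → Fin n)

/-- The points carrying the prime field. -/
noncomputable def fpt (hn : p + 2 ≤ n) (he : Set.InjOn e (Set.Iio n)) : ZMod p ↪ Fin n :=
  ⟨fun i => e (i.val + 2), fun i j h => by
    have hi := ZMod.val_lt i
    have hj := ZMod.val_lt j
    have := he (Set.mem_Iio.2 (by omega)) (Set.mem_Iio.2 (by omega)) h
    exact ZMod.val_injective p (by omega)⟩

end Model

/-- The data of a model: `p + 2` points and a generator of the units. -/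
structure Frame (p n : ℕ) [Fact p.Prime] where
  e : ℕ → Fin n
  he : Set.InjOn e (Set.Iio n)
  hpn : p + 2 ≤ n
  hp5 : 5 ≤ p
  gen : (ZMod p)ˣ
  hgen : ∀ x : (ZMod p)ˣ, x ∈ Subgroup.zpowers gen

namespace Frame

variable {p n : ℕ} [Fact p.Prime] (F : Frame p n)

/-- The translation. -/
noncomputable def aa : Perm (Fin n) :=
  (Equiv.addRight (1 : ZMod p)).viaEmbedding (fpt p n F.e F.hpn F.he)

/-- The multiplication by the generator. -/
noncomputable def b0 : Perm (Fin n) :=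
  (MulAction.toPerm F.gen : Perm (ZMod p)).viaEmbedding (fpt p n F.e F.hpn F.he)

/-- The image of the generator `b`. -/
noncomputable def bb (alt : Bool) : Perm (Fin n) :=
  if alt then F.b0 * swap (F.e 0) (F.e 1) else F.b0

/-- The points of the window. -/
def X : Finset (Fin n) := (Finset.range (p + 2)).image F.e

theorem pt_ne (i : ZMod p) (k : ℕ) (hk : k < 2) : F.e k ≠ fpt p n F.e F.hpn F.he i := by
  intro h
  have hi := ZMod.val_lt i
  have := F.hpn
  have := F.he (Set.mem_Iio.2 (by omega)) (Set.mem_Iio.2 (by omega)) h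
  omega

theorem not_range (k : ℕ) (hk : k < 2) : F.e k ∉ Set.range (fpt p n F.e F.hpn F.he) :=
  fun ⟨i, hi⟩ => F.pt_ne i k hk hi.symm

theorem e_ne : F.e 0 ≠ F.e 1 := by
  intro h
  have := F.hpn
  have := F.he (Set.mem_Iio.2 (by omega)) (Set.mem_Iio.2 (by omega)) h
  omega

theorem aa_pt (i : ZMod p) :
    F.aa (fpt p n F.e F.hpn F.he i) = fpt p n F.e F.hpn F.he (i + 1) :=
  Perm.viaEmbedding_apply _ _ _

theorem aa_low (k : ℕ) (hk : k < 2) : F.aa (F.e k) = F.e k :=
  Perm.viaEmbedding_apply_of_notMem _ _ _ (F.not_range k hk)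

theorem b0_pt (i : ZMod p) :
    F.b0 (fpt p n F.e F.hpn F.he i) = fpt p n F.e F.hpn F.he ((F.gen : ZMod p) * i) :=
  Perm.viaEmbedding_apply _ _ _

theorem b0_low (k : ℕ) (hk : k < 2) : F.b0 (F.e k) = F.e k :=
  Perm.viaEmbedding_apply_of_notMem _ _ _ (F.not_range k hk)

theorem bb_pt (alt : Bool) (i : ZMod p) :
    F.bb alt (fpt p n F.e F.hpn F.he i) = fpt p n F.e F.hpn F.he ((F.gen : ZMod p) * i) := by
  cases alt
  · exact F.b0_pt i
  · show (F.b0 * swap (F.e 0) (F.e 1)) _ = _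
    rw [Perm.mul_apply, swap_apply_of_ne_of_ne (F.pt_ne i 0 (by omega)).symm
      (F.pt_ne i 1 (by omega)).symm, F.b0_pt]

theorem image_pt : insert (F.e 0) (insert (F.e 1)
    ((Finset.univ : Finset (ZMod p)).map (fpt p n F.e F.hpn F.he))) = F.X := by
  ext x
  simp only [Finset.mem_insert, Finset.mem_map, Finset.mem_univ, true_and, X, Finset.mem_image,
    Finset.mem_range]
  constructor
  · rintro (rfl | rfl | ⟨i, rfl⟩)
    · exact ⟨0, by omega, rfl⟩
    · exact ⟨1, by omega, rfl⟩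
    · exact ⟨i.val + 2, by have := ZMod.val_lt i; omega, rfl⟩
  · rintro ⟨k, hk, rfl⟩
    rcases (show k = 0 ∨ k = 1 ∨ 2 ≤ k by omega) with h | h | h
    · subst h; exact Or.inl rfl
    · subst h; exact Or.inr (Or.inl rfl)
    · refine Or.inr (Or.inr ⟨((k - 2 : ℕ) : ZMod p), ?_⟩)
      show F.e (((k - 2 : ℕ) : ZMod p).val + 2) = F.e k
      rw [ZMod.val_natCast, Nat.mod_eq_of_lt (by omega), show k - 2 + 2 = k by omega]

theorem mem_X (x : Fin n) : x ∈ F.X ↔
    x = F.e 0 ∨ x = F.e 1 ∨ ∃ i, fpt p n F.e F.hpn F.he i = x := by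
  rw [← F.image_pt]; simp

theorem aa_supp : F.aa ∈ suppIn F.X := by
  intro x hx
  refine Perm.viaEmbedding_apply_of_notMem _ _ _ ?_
  rintro ⟨i, rfl⟩
  exact hx ((F.mem_X _).2 (Or.inr (Or.inr ⟨i, rfl⟩)))

theorem b0_supp : F.b0 ∈ suppIn F.X := by
  intro x hx
  refine Perm.viaEmbedding_apply_of_notMem _ _ _ ?_
  rintro ⟨i, rfl⟩
  exact hx ((F.mem_X _).2 (Or.inr (Or.inr ⟨i, rfl⟩)))

theorem bb_supp (alt : Bool) : F.bb alt ∈ suppIn F.X := by
  cases alt
  · exact F.b0_supp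
  · refine mul_mem F.b0_supp (fun x hx => swap_apply_of_ne_of_ne ?_ ?_)
    · rintro rfl; exact hx ((F.mem_X _).2 (Or.inl rfl))
    · rintro rfl; exact hx ((F.mem_X _).2 (Or.inr (Or.inl rfl)))

theorem aa_pow : F.aa ^ p = 1 := by
  have h : (Equiv.addRight (1 : ZMod p)) ^ p = 1 := by
    ext i; simp
  rw [aa, ← Perm.viaEmbeddingHom_apply, ← map_pow, h, map_one]

theorem sign_aa : Perm.sign F.aa = 1 := by
  have h2 : Perm.sign F.aa ^ p = 1 := by rw [← map_pow, F.aa_pow, map_one]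
  rcases Int.units_eq_one_or (Perm.sign F.aa) with h | h
  · exact h
  · rw [h, (Fact.out : p.Prime).odd_of_ne_two (by have := F.hp5; omega) |>.neg_one_pow] at h2
    exact absurd h2 (by decide)

theorem sign_gen : Perm.sign (MulAction.toPerm F.gen : Perm (ZMod p)) = -1 := by
  set σ : Perm (ZMod p) := MulAction.toPerm F.gen with hσ
  have hσa : ∀ i : ZMod p, σ i = (F.gen : ZMod p) * i := fun i => rfl
  have hgen1 : (F.gen : ZMod p) ≠ 1 := by
    intro h
    have h1 : F.gen = 1 := Units.ext h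
    have h2 := F.hgen (-1)
    rw [h1, Subgroup.zpowers_one_eq_bot, Subgroup.mem_bot] at h2
    have h3 : ((2 : ℕ) : ZMod p) = 0 := by
      have := congrArg Units.val h2
      simp only [Units.val_neg, Units.val_one] at this
      push_cast
      linear_combination -this
    rw [ZMod.natCast_eq_zero_iff] at h3
    have := Nat.le_of_dvd (by norm_num) h3
    have := F.hp5
    omega
  have hsupp : σ.support = Finset.univ.erase 0 := by
    ext i
    simp only [Perm.mem_support, Finset.mem_erase, Finset.mem_univ, and_true, hσa]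
    constructor
    · rintro h rfl; exact h (mul_zero _)
    · intro h h'
      exact hgen1 (mul_right_cancel₀ h (h'.trans (one_mul i).symm))
  have hcyc : σ.IsCycle := by
    refine ⟨1, by rw [hσa, mul_one]; exact hgen1, fun y hy => ?_⟩
    have hy0 : y ≠ 0 := by rintro rfl; exact hy (mul_zero _)
    obtain ⟨k, hk⟩ := F.hgen (Units.mk0 y hy0)
    refine ⟨k, ?_⟩
    have : (σ ^ k) 1 = (F.gen ^ k : (ZMod p)ˣ) • (1 : ZMod p) := by
      rw [hσ, show (MulAction.toPerm F.gen : Perm (ZMod p)) =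
        MulAction.toPermHom (ZMod p)ˣ (ZMod p) F.gen from rfl, ← map_zpow]
      rfl
    rw [this]
    show ((F.gen ^ k : (ZMod p)ˣ) : ZMod p) * 1 = y
    rw [show F.gen ^ k = Units.mk0 y hy0 from hk, mul_one, Units.val_mk0]
  rw [hcyc.sign, hsupp, Finset.card_erase_of_mem (Finset.mem_univ _), Finset.card_univ, ZMod.card]
  have := (Fact.out : p.Prime).odd_of_ne_two (by have := F.hp5; omega)
  obtain ⟨k, hk⟩ := this
  rw [show p - 1 = 2 * k by omega, pow_mul]; simp

theorem sign_b0 : Perm.sign F.b0 = -1 := by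
  classical
  rw [b0, Perm.viaEmbedding, Perm.sign_extendDomain]
  exact F.sign_gen

theorem sign_bb (alt : Bool) : Perm.sign (F.bb alt) = if alt then 1 else -1 := by
  cases alt
  · exact F.sign_b0
  · show Perm.sign (F.b0 * swap (F.e 0) (F.e 1)) = 1
    rw [map_mul, F.sign_b0, Perm.sign_swap F.e_ne]; decide

theorem tri_zero : cyc (F.e 0) (F.e 1) (fpt p n F.e F.hpn F.he 0) = tri F.e 0 := by
  show cyc (F.e 0) (F.e 1) (F.e ((0 : ZMod p).val + 2)) = _
  rw [ZMod.val_zero]; rfl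

/-- Any group satisfying the four relations receives the even permutations of the window. -/
theorem window_hom {P : Type*} [Group P] (alt : Bool) (s : ℕ) (hs : 1 ≤ s)
    (hsr : (F.gen : ZMod p) * ((s : ZMod p) - 1) = s)
    (a b z : P) (h1 : a ^ p = z ^ 3) (h2 : b⁻¹ * a ^ s * b = a ^ (s - 1))
    (h3 : b * z * b⁻¹ = if alt then z⁻¹ else z) (h4 : (z * (a * z * a⁻¹)) ^ 2 = 1) :
    ∃ Φ : Perm (Fin n) → P, HomOn (evenIn F.X) Φ ∧ Φ (tri F.e 0) = z ∧
      (∀ g ∈ evenIn F.X, a * Φ g * a⁻¹ = Φ (F.aa * g * F.aa⁻¹)) ∧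
      (∀ g ∈ evenIn F.X, b * Φ g * b⁻¹ = Φ (F.bb alt * g * (F.bb alt)⁻¹)) ∧
      (∀ i : ZMod p, Φ (cyc (F.e 0) (F.e 1) (fpt p n F.e F.hpn F.he i)) =
        a ^ i.val * z * (a ^ i.val)⁻¹) ∧
      a ^ p = 1 ∧ b * a * b⁻¹ = a ^ (F.gen : ZMod p).val := by
  classical
  obtain ⟨ha, hz⟩ := frame_orders alt p s hs a b z h1 h2 h3 h4
  have hp2 : (2 : ℕ) ≤ p := (Fact.out : p.Prime).two_le
  have hap : ∀ i j : ZMod p, a ^ i.val * a ^ j.val = a ^ (i + j).val := by
    intro i j
    rw [← pow_add]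
    exact pow_eq_of_cast ha (by simp)
  have hs1 : ((s : ZMod p) - 1) ≠ 0 := by
    intro h
    rw [h, mul_zero] at hsr
    rw [← hsr, zero_sub, neg_eq_zero] at h
    exact one_ne_zero h
  have hba : b * a * b⁻¹ = a ^ (F.gen : ZMod p).val := by
    set u := (((s : ZMod p) - 1)⁻¹).val with hu
    have h5 : a = (a ^ (s - 1)) ^ u := by
      rw [← pow_mul]
      nth_rewrite 1 [← pow_one a]
      refine pow_eq_of_cast ha ?_
      rw [Nat.cast_mul, Nat.cast_sub hs, Nat.cast_one, hu, ZMod.natCast_zmod_val,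
        mul_inv_cancel₀ hs1]
    have h6 : b * a ^ (s - 1) * b⁻¹ = a ^ s := by rw [← h2]; group
    nth_rewrite 1 [h5]
    rw [← conj_pow, h6, ← pow_mul]
    refine pow_eq_of_cast ha ?_
    rw [Nat.cast_mul, hu, ZMod.natCast_zmod_val, ZMod.natCast_zmod_val]
    field_simp
    linear_combination -hsr
  let x : ZMod p → P := fun i => a ^ i.val * z * (a ^ i.val)⁻¹
  have hx0 : x 0 = z := by simp [x]
  have hxt : ∀ i j : ZMod p, a ^ i.val * x j * (a ^ i.val)⁻¹ = x (i + j) := by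
    intro i j
    simp only [x]
    rw [← hap]; group
  have hxb : ∀ i : ZMod p, b * x i * b⁻¹ =
      if alt then (x ((F.gen : ZMod p) * i))⁻¹ else x ((F.gen : ZMod p) * i) := by
    intro i
    have h5 : b * a ^ i.val * b⁻¹ = a ^ ((F.gen : ZMod p) * i).val := by
      rw [← conj_pow, hba, ← pow_mul]
      exact pow_eq_of_cast ha (by simp)
    have h6 : b * x i * b⁻¹ = (b * a ^ i.val * b⁻¹) * (b * z * b⁻¹) * (b * a ^ i.val * b⁻¹)⁻¹ := by
      simp only [x]; group
    rw [h6, h5, h3]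
    cases alt
    · simp [x]
    · simp [x, mul_assoc]
  have hxcube : ∀ i, x i ^ 3 = 1 := by
    intro i; simp only [x]; rw [conj_pow, hz]; simp
  -- relations between `x 0` and all others
  have hflip : ∀ u v : P, (u * v) ^ 2 = 1 → (u⁻¹ * v⁻¹) ^ 2 = 1 := by
    intro u v h
    rw [show u⁻¹ * v⁻¹ = (v * u)⁻¹ by group, inv_pow, inv_eq_one]
    calc (v * u) ^ 2 = u⁻¹ * (u * v) ^ 2 * u := by simp only [pow_two]; group
      _ = 1 := by rw [h]; group
  have hunit : ∀ k : ℕ, (x 0 * x ((F.gen : ZMod p) ^ k)) ^ 2 = 1 := by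
    intro k
    induction k with
    | zero =>
      rw [pow_zero, hx0]
      have : x 1 = a * z * a⁻¹ := by
        simp only [x]
        rw [ZMod.val_one, pow_one]
      rw [this]; exact h4
    | succ k ih =>
      have h : (b * x 0 * b⁻¹ * (b * x ((F.gen : ZMod p) ^ k) * b⁻¹)) ^ 2 = 1 := by
        rw [conj_mul, conj_pow, ih]; simp
      rw [hxb, hxb, mul_zero, ← pow_succ'] at h
      cases alt
      · simpa using h
      · simp only [if_true] at h
        have := hflip _ _ h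
        simpa using this
  have hpair : ∀ i j : ZMod p, i ≠ j → (x i * x j) ^ 2 = 1 := by
    intro i j hij
    have hd : j - i ≠ 0 := sub_ne_zero.2 hij.symm
    obtain ⟨k, hk⟩ := mem_powers_iff_mem_zpowers.2 (F.hgen (Units.mk0 (j - i) hd))
    have hk' : (F.gen : ZMod p) ^ k = j - i := by
      have := congrArg Units.val hk
      simpa using this
    have := hunit k
    rw [hk'] at this
    have h2 : x i * x j = a ^ i.val * (x 0 * x (j - i)) * (a ^ i.val)⁻¹ := by
      rw [← conj_mul, hxt, hxt, add_zero, add_sub_cancel]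
    rw [h2, conj_pow, this]; simp
  set ι := fpt p n F.e F.hpn F.he with hι
  set S := (Finset.univ : Finset (ZMod p)).map ι with hS
  have hns : ∀ k, k < 2 → F.e k ∉ S := by
    intro k hk h
    obtain ⟨i, _, hi⟩ := Finset.mem_map.1 h
    exact F.pt_ne i k hk hi.symm
  let ξ : Fin n → P := fun y => if h : ∃ i, ι i = y then x h.choose else 1
  have hξ : ∀ i, ξ (ι i) = x i := by
    intro i
    have h : ∃ i', ι i' = ι i := ⟨i, rfl⟩
    simp only [ξ, dif_pos h]
    rw [ι.injective h.choose_spec]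
  obtain ⟨Φ, hΦ, hΦc⟩ := star_hom (F.e 0) (F.e 1) F.e_ne S (hns 0 (by omega)) (hns 1 (by omega)) ξ
    (by
      intro y hy
      obtain ⟨i, _, rfl⟩ := Finset.mem_map.1 hy
      rw [hξ]; exact hxcube i)
    (by
      intro y hy y' hy' hne
      obtain ⟨i, _, rfl⟩ := Finset.mem_map.1 hy
      obtain ⟨j, _, rfl⟩ := Finset.mem_map.1 hy'
      rw [hξ, hξ]
      exact hpair i j (fun h => hne (h ▸ rfl)))
  rw [F.image_pt] at hΦ
  have hcy : ∀ i, Φ (cyc (F.e 0) (F.e 1) (ι i)) = x i := fun i => by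
    rw [hΦc _ (Finset.mem_map_of_mem _ (Finset.mem_univ i)), hξ]
  have hmem : ∀ i, cyc (F.e 0) (F.e 1) (ι i) ∈ evenIn F.X := fun i =>
    cyc_mem_evenIn F.e_ne (F.pt_ne i 1 (by omega)) ((F.mem_X _).2 (Or.inl rfl))
      ((F.mem_X _).2 (Or.inr (Or.inl rfl))) ((F.mem_X _).2 (Or.inr (Or.inr ⟨i, rfl⟩)))
  have hgenX : evenIn F.X ≤ Subgroup.closure (cyc (F.e 0) (F.e 1) '' (S : Set (Fin n))) := by
    rw [← F.image_pt]
    exact evenIn_le_closure _ _ F.e_ne S (hns 0 (by omega)) (hns 1 (by omega))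
  have hclX : Subgroup.closure (cyc (F.e 0) (F.e 1) '' (S : Set (Fin n))) ≤ evenIn F.X := by
    refine (Subgroup.closure_le _).2 ?_
    rintro _ ⟨y, hy, rfl⟩
    obtain ⟨i, _, rfl⟩ := Finset.mem_map.1 hy
    exact hmem i
  -- equivariance
  have hequiv : ∀ (q : P) (σ : Perm (Fin n)), σ ∈ suppIn F.X →
      (∀ i, q * x i * q⁻¹ = Φ (σ * cyc (F.e 0) (F.e 1) (ι i) * σ⁻¹)) →
      ∀ g ∈ evenIn F.X, q * Φ g * q⁻¹ = Φ (σ * g * σ⁻¹) := by
    intro q σ hσ hq g hg
    have hσm : ∀ g ∈ evenIn F.X, σ * g * σ⁻¹ ∈ evenIn F.X := fun g hg =>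
      conj_mem_evenIn hg (fun y hy => by
        by_contra h
        exact h (by rw [σ.injective (hσ (σ y) h)]; exact hy))
    refine HomOn.eq_of_closure (Φ := fun g => q * Φ g * q⁻¹) (Ψ := fun g => Φ (σ * g * σ⁻¹)) _
      ?_ ?_ ?_ g (hgenX hg)
    · intro u hu v hv
      simp only
      rw [hΦ u (hclX hu) v (hclX hv)]; group
    · intro u hu v hv
      simp only
      rw [← hΦ _ (hσm u (hclX hu)) _ (hσm v (hclX hv))]
      congr 1; group
    · rintro _ ⟨y, hy, rfl⟩
      obtain ⟨i, _, rfl⟩ := Finset.mem_map.1 hy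
      rw [hcy]; exact hq i
  refine ⟨Φ, hΦ, ?_, hequiv a F.aa F.aa_supp ?_, hequiv b (F.bb alt) (F.bb_supp alt) ?_, hcy, ha,
    hba⟩
  · rw [← F.tri_zero, hcy, hx0]
  · intro i
    rw [cyc_conj, F.aa_low 0 (by omega), F.aa_low 1 (by omega), F.aa_pt, hcy, add_comm i 1, ← hxt]
    simp [ZMod.val_one]
  · intro i
    rw [cyc_conj, F.bb_pt, hxb]
    cases alt
    · simp only [Bool.false_eq_true, if_false, bb]
      rw [F.b0_low 0 (by omega), F.b0_low 1 (by omega), hcy]
    · simp only [if_true, bb, Perm.mul_apply, swap_apply_left, swap_apply_right]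
      rw [F.b0_low 0 (by omega), F.b0_low 1 (by omega)]
      have hne := F.pt_ne ((F.gen : ZMod p) * i)
      have hrev : cyc (F.e 1) (F.e 0) (ι ((F.gen : ZMod p) * i)) =
          (cyc (F.e 0) (F.e 1) (ι ((F.gen : ZMod p) * i)))⁻¹ := by
        have h5 := swap_apply_apply (swap (F.e 0) (F.e 1)) (F.e 0) (ι ((F.gen : ZMod p) * i))
        rw [swap_apply_left, swap_apply_of_ne_of_ne (hne 0 (by omega)).symm
          (hne 1 (by omega)).symm, swap_inv] at h5
        rw [cyc, cyc, mul_inv_rev, swap_inv, swap_inv, swap_comm (F.e 1) (F.e 0), h5, mul_assoc,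
          swap_mul_self, mul_one]
      rw [hrev, hΦ.map_inv (hmem _), hcy]

end Frame

end H24.AltPres
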