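import Cfsg.Agent.H24.AltFrame

/-! The permutation model of the short presentations. -/

set_option autoImplicit false
set_option linter.unusedSectionVars false

namespace H24.AltPres

open Equiv

/-- A cyclic successor fixing the first `f` points. -/
def succFix (n f i : ℕ) : ℕ := if i < f then i else if i + 1 < n then i + 1 else f

theorem succFix_lt {n f i : ℕ} (hi : i < n) : succFix n f i < n := by
  unfold succFix; split_ifs <;> omega

theorem succFix_inj {n f i j : ℕ} (hi : i < n) (hj : j < n)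
    (h : succFix n f i = succFix n f j) : i = j := by
  unfold succFix at h; split_ifs at h <;> omega

/-- All parameters of the construction. -/
structure Setup where
  p : ℕ
  n : ℕ
  f : ℕ
  alt : Bool
  hp : Fact p.Prime
  hp5 : 5 ≤ p
  hpn : p + 2 ≤ n
  hrange : n + f < 2 * p
  hf : f ≤ 1
  hodd : alt = true → Odd (n - f)
  hf0 : alt = false → f = 0

namespace Setup

variable (U : Setup)

instance : Fact U.p.Prime := U.hp

theorem npos : 0 < U.n := by have := U.hpn; omega

/-- The positions. -/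
def pos (i : ℕ) : Fin U.n := ⟨i % U.n, Nat.mod_lt _ U.npos⟩

theorem pos_injOn : Set.InjOn U.pos (Set.Iio U.n) := by
  intro i hi j hj h
  have := congrArg Fin.val h
  simpa [pos, Nat.mod_eq_of_lt (Set.mem_Iio.1 hi), Nat.mod_eq_of_lt (Set.mem_Iio.1 hj)] using this

theorem pos_val (x : Fin U.n) : U.pos x.val = x := Fin.ext (Nat.mod_eq_of_lt x.isLt)

theorem pos_univ : (Finset.range U.n).image U.pos = Finset.univ := by
  ext x
  simp only [Finset.mem_image, Finset.mem_range, Finset.mem_univ, iff_true]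
  exact ⟨x.val, x.isLt, U.pos_val x⟩

theorem pos_ne {i j : ℕ} (hi : i < U.n) (hj : j < U.n) (h : i ≠ j) : U.pos i ≠ U.pos j :=
  fun hc => h (U.pos_injOn hi hj hc)

/-- The frame. -/
noncomputable def frame : Frame U.p U.n where
  e := U.pos
  he := U.pos_injOn
  hpn := U.hpn
  hp5 := U.hp5
  gen := (IsCyclic.exists_generator (α := (ZMod U.p)ˣ)).choose
  hgen := (IsCyclic.exists_generator (α := (ZMod U.p)ˣ)).choose_spec

/-- The long cycle. -/
noncomputable def c0 : Perm (Fin U.n) :=
  Equiv.ofBijective (fun x : Fin U.n => (⟨succFix U.n U.f x.val, succFix_lt x.isLt⟩ : Fin U.n))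
    (Finite.injective_iff_bijective.1 fun x y h =>
      Fin.ext (succFix_inj x.isLt y.isLt (congrArg Fin.val h)))

theorem c0_pos {i : ℕ} (hi : i < U.n) : U.c0 (U.pos i) = U.pos (succFix U.n U.f i) := by
  apply Fin.ext
  show succFix U.n U.f (i % U.n) = succFix U.n U.f i % U.n
  rw [Nat.mod_eq_of_lt hi, Nat.mod_eq_of_lt (succFix_lt hi)]

theorem c0_fix (i : ℕ) (hi : i < U.f) : U.c0 (U.pos i) = U.pos i := by
  have := U.hf; have := U.hpn
  rw [U.c0_pos (by omega)]; simp [succFix, hi]

theorem c0_step (i : ℕ) (hi : U.f ≤ i) (hn : i + 1 < U.n) :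
    U.c0 (U.pos i) = U.pos (i + 1) := by
  rw [U.c0_pos (by omega)]; simp [succFix, not_lt.2 hi, hn]

theorem c0_last : U.c0 (U.pos (U.n - 1)) = U.pos U.f := by
  have := U.hf; have := U.hpn
  rw [U.c0_pos (by omega)]
  simp [succFix, show ¬ U.n - 1 < U.f by omega, show ¬ U.n - 1 + 1 < U.n by omega]

theorem c0_pow_pos (k : ℕ) : ∀ i, U.f ≤ i → i < U.n →
    (U.c0 ^ k) (U.pos i) = U.pos (U.f + (i - U.f + k) % (U.n - U.f)) := by
  induction k with
  | zero =>
    intro i hi hn
    rw [pow_zero, Perm.one_apply, Nat.add_zero, Nat.mod_eq_of_lt (by omega)]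
    congr 1; omega
  | succ k ih =>
    intro i hi hn
    have hp := U.hpn; have hp5 := U.hp5; have hf := U.hf
    rw [pow_succ', Perm.mul_apply, ih i hi hn, ← add_assoc (i - U.f) k 1]
    have hlt := Nat.mod_lt (i - U.f + k) (show 0 < U.n - U.f by omega)
    have hstep : (i - U.f + k + 1) % (U.n - U.f) = ((i - U.f + k) % (U.n - U.f) + 1) % (U.n - U.f) := by
      rw [Nat.mod_add_mod]
    rw [hstep]
    rcases Nat.lt_or_ge ((i - U.f + k) % (U.n - U.f) + 1) (U.n - U.f) with hw | hw
    · rw [U.c0_step _ (by omega) (by omega), Nat.mod_eq_of_lt hw]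
      congr 1
    · rw [show U.f + (i - U.f + k) % (U.n - U.f) = U.n - 1 by omega, U.c0_last,
        show (i - U.f + k) % (U.n - U.f) + 1 = U.n - U.f by omega, Nat.mod_self]
      congr 1

theorem c0_pow : U.c0 ^ (U.n - U.f) = 1 := by
  refine Equiv.ext fun x => ?_
  rw [Perm.one_apply, ← U.pos_val x]
  rcases Nat.lt_or_ge x.val U.f with h | h
  · exact Perm.pow_apply_eq_self_of_apply_eq_self (U.c0_fix _ h) _
  · rw [U.c0_pow_pos _ _ h x.isLt, Nat.add_mod_right, Nat.mod_eq_of_lt (by omega)]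
    congr 1; omega

theorem c0_inv_step (i : ℕ) (hi : U.f ≤ i) (hn : i + 1 < U.n) :
    U.c0⁻¹ (U.pos (i + 1)) = U.pos i := by
  rw [Perm.inv_def, Equiv.symm_apply_eq, U.c0_step i hi hn]

/-- The target group. -/
def target : Subgroup (Perm (Fin U.n)) := if U.alt then alternatingGroup (Fin U.n) else ⊤

theorem alt_le_target : alternatingGroup (Fin U.n) ≤ U.target := by
  unfold target; split_ifs <;> simp

theorem mem_target {g : Perm (Fin U.n)} : g ∈ U.target ↔ (U.alt = true → Perm.sign g = 1) := by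
  unfold target
  split_ifs with h <;> simp [h, Perm.mem_alternatingGroup]

theorem sign_c0 (h : U.alt = true) : Perm.sign U.c0 = 1 := by
  have h2 : Perm.sign U.c0 ^ (U.n - U.f) = 1 := by rw [← map_pow, U.c0_pow, map_one]
  rcases Int.units_eq_one_or (Perm.sign U.c0) with h1 | h1
  · exact h1
  · rw [h1, (U.hodd h).neg_one_pow] at h2
    exact absurd h2 (by decide)

theorem c0_target : U.c0 ∈ U.target := U.mem_target.2 U.sign_c0

theorem aa_target : U.frame.aa ∈ U.target := U.mem_target.2 fun _ => U.frame.sign_aa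

theorem bb_target : U.frame.bb U.alt ∈ U.target :=
  U.mem_target.2 fun h => by rw [U.frame.sign_bb, h]; rfl

theorem tri_even {i : ℕ} (hi : i + 3 ≤ U.n) : Perm.sign (tri U.pos i) = 1 :=
  sign_cyc (U.pos_ne (by omega) (by omega) (by omega)) (U.pos_ne (by omega) (by omega) (by omega))

theorem tri_target {i : ℕ} (hi : i + 3 ≤ U.n) : tri U.pos i ∈ U.target :=
  U.mem_target.2 fun _ => U.tri_even hi

/-- The first transposition. -/
noncomputable def tau : Perm (Fin U.n) := swap (U.pos 0) (U.pos 1)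

theorem tau_ne : U.pos 0 ≠ U.pos 1 := U.frame.e_ne

theorem sign_tau : Perm.sign U.tau = -1 := Perm.sign_swap U.tau_ne

theorem tau_sq : U.tau * U.tau = 1 := swap_mul_self _ _

theorem cyc_swap_inv {Ω : Type*} [DecidableEq Ω] {a b s : Ω} (has : a ≠ s) (hbs : b ≠ s) :
    cyc b a s = (cyc a b s)⁻¹ := by
  have h5 := swap_apply_apply (swap a b) a s
  rw [swap_apply_left, swap_apply_of_ne_of_ne has.symm hbs.symm, swap_inv] at h5
  rw [cyc, cyc, mul_inv_rev, swap_inv, swap_inv, swap_comm b a, h5, mul_assoc, swap_mul_self, mul_one]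

/-- A fan of 3-cycles through the first point generates. -/
theorem fan_generates (l : ℕ) (hl3 : 3 ≤ l) (hl : l ≤ U.n) (H : Subgroup (Perm (Fin U.n)))
    (h : ∀ i, i + 3 ≤ l → cyc (U.pos 0) (U.pos (i + 1)) (U.pos (i + 2)) ∈ H) :
    evenIn ((Finset.range l).image U.pos) ≤ H := by
  refine (evenIn_le_tri U.n U.pos U.pos_injOn l hl3 hl).trans ((Subgroup.closure_le _).2 ?_)
  rintro _ ⟨j, hj, rfl⟩
  simp only [Set.mem_ofPred_eq] at hj
  rcases Nat.eq_zero_or_pos j with rfl | hj0
  · exact h 0 hj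
  · obtain ⟨i, rfl⟩ : ∃ i, j = i + 1 := ⟨j - 1, by omega⟩
    have hx := h i (by omega)
    rw [SetLike.mem_coe]
    rcases Nat.lt_or_ge (i + 4) (l + 1) with hi | hi
    · have hy := h (i + 1) (by omega)
      have hc := mul_mem (mul_mem hy hx) (inv_mem hy)
      rw [cyc_conj, cyc_apply_fst (U.pos_ne (by omega) (by omega) (by omega))
          (U.pos_ne (by omega) (by omega) (by omega)),
        cyc_apply_other (U.pos_ne (by omega) (by omega) (by omega))
          (U.pos_ne (by omega) (by omega) (by omega)) (U.pos_ne (by omega) (by omega) (by omega)),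
        cyc_apply_snd (U.pos_ne (by omega) (by omega) (by omega))
          (U.pos_ne (by omega) (by omega) (by omega)),
        cyc_swap_inv (U.pos_ne (by omega) (by omega) (by omega))
          (U.pos_ne (by omega) (by omega) (by omega))] at hc
      simpa [tri] using hc
    · omega

theorem evenIn_univ : evenIn ((Finset.range U.n).image U.pos) = alternatingGroup (Fin U.n) := by
  rw [U.pos_univ]
  ext g
  simp [mem_evenIn, Perm.mem_alternatingGroup]

theorem conj_tri_zero_mem {H : Subgroup (Perm (Fin U.n))}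
    (h : ∀ i, i + 3 ≤ U.n → U.c0 ^ i * tri U.pos 0 * (U.c0 ^ i)⁻¹ ∈ H) :
    alternatingGroup (Fin U.n) ≤ H := by
  have hpn := U.hpn
  have hp5 := U.hp5
  rw [← U.evenIn_univ]
  have hW : ∀ i, i + 3 ≤ U.n → ∀ j, U.f ≤ j → j + i < U.n → (U.c0 ^ i) (U.pos j) = U.pos (j + i) := by
    intro i _ j hj hji
    rw [U.c0_pow_pos i j hj (by omega), Nat.mod_eq_of_lt (by omega)]
    congr 1; omega
  rcases Nat.eq_zero_or_pos U.f with hf | hf
  · refine (evenIn_le_tri U.n U.pos U.pos_injOn U.n (by omega) le_rfl).trans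
      ((Subgroup.closure_le _).2 ?_)
    rintro _ ⟨i, hi, rfl⟩
    simp only [Set.mem_ofPred_eq] at hi
    have h1 := h i hi
    rw [tri, cyc_conj, hW i hi 0 (by omega) (by omega), hW i hi 1 (by omega) (by omega),
      hW i hi 2 (by omega) (by omega)] at h1
    rw [SetLike.mem_coe]
    convert h1 using 1
    rw [tri]; congr 1 <;> congr 1 <;> omega
  · have := U.hf
    refine U.fan_generates U.n (by omega) le_rfl H (fun i hi => ?_)
    have h1 := h i hi
    rw [tri, cyc_conj, Perm.pow_apply_eq_self_of_apply_eq_self (U.c0_fix 0 hf) i,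
      hW i hi 1 (by omega) (by omega), hW i hi 2 (by omega) (by omega)] at h1
    convert h1 using 1
    congr 1 <;> congr 1 <;> omega

/-- The `p`-cycle on the positions `1..p`. -/
noncomputable def pc : Perm (Fin U.n) := U.c0⁻¹ * U.frame.aa * U.c0

theorem aa_pos {j : ℕ} (hj : 2 ≤ j) (hj' : j + 1 ≤ U.p + 1) :
    U.frame.aa (U.pos j) = U.pos (j + 1) := by
  have h1 : U.pos j = fpt U.p U.n U.frame.e U.frame.hpn U.frame.he ((j - 2 : ℕ) : ZMod U.p) := by
    show U.pos j = U.pos (((j - 2 : ℕ) : ZMod U.p).val + 2)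
    rw [ZMod.val_natCast, Nat.mod_eq_of_lt (by omega)]; congr 1; omega
  rw [h1, U.frame.aa_pt, ← Nat.cast_one, ← Nat.cast_add]
  show U.pos (((j - 2 + 1 : ℕ) : ZMod U.p).val + 2) = _
  rw [ZMod.val_natCast, Nat.mod_eq_of_lt (by omega)]; congr 1; omega

theorem pc_supp : U.pc ∈ suppIn ((Finset.range (U.p + 1)).image U.pos) := by
  intro x hx
  have hpn := U.hpn
  have hf := U.hf
  have h1 : U.frame.aa (U.c0 x) = U.c0 x := by
    refine Perm.viaEmbedding_apply_of_notMem _ _ _ ?_
    rintro ⟨i, hi⟩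
    have hv := ZMod.val_lt i
    have h2 : U.c0 x = U.c0 (U.pos (i.val + 1)) := by
      rw [← hi, U.c0_step (i.val + 1) (by omega) (by omega)]; rfl
    exact hx (by
      rw [U.c0.injective h2]
      exact Finset.mem_image_of_mem _ (Finset.mem_range.2 (by omega)))
  rw [pc, Perm.mul_apply, Perm.mul_apply, h1]; simp

theorem sign_pc : Perm.sign U.pc = 1 := by
  simp [pc, U.frame.sign_aa, mul_comm]

theorem pc_evenIn : U.pc ∈ evenIn ((Finset.range (U.p + 1)).image U.pos) :=
  mem_evenIn.2 ⟨U.pc_supp, U.sign_pc⟩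

theorem pc_pow : U.pc ^ U.p = 1 := by
  rw [pc, show U.c0⁻¹ * U.frame.aa * U.c0 = U.c0⁻¹ * U.frame.aa * (U.c0⁻¹)⁻¹ by rw [inv_inv],
    conj_pow, U.frame.aa_pow]; simp

theorem pc_pos {j : ℕ} (hj : 1 ≤ j) (hj' : j + 1 ≤ U.p) : U.pc (U.pos j) = U.pos (j + 1) := by
  have hpn := U.hpn
  have hf := U.hf
  rw [pc, Perm.mul_apply, Perm.mul_apply, U.c0_step j (by omega) (by omega),
    U.aa_pos (by omega) (by omega), U.c0_inv_step (j + 1) (by omega) (by omega)]

theorem pc_zero : U.pc (U.pos 0) = U.pos 0 := by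
  have hpn := U.hpn
  have hf := U.hf
  rw [pc, Perm.mul_apply, Perm.mul_apply, U.c0_pos U.npos]
  have h1 : succFix U.n U.f 0 < 2 := by unfold succFix; split_ifs <;> omega
  have h2 : U.frame.aa (U.pos (succFix U.n U.f 0)) = U.pos (succFix U.n U.f 0) :=
    U.frame.aa_low _ h1
  rw [h2, Perm.inv_def, Equiv.symm_apply_eq, U.c0_pos U.npos]

theorem pc_pow_pos (i : ℕ) : ∀ j, 1 ≤ j → j + i ≤ U.p → (U.pc ^ i) (U.pos j) = U.pos (j + i) := by
  induction i with
  | zero => intro j _ _; simp
  | succ i ih =>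
    intro j hj hji
    rw [pow_succ', Perm.mul_apply, ih j hj (by omega), U.pc_pos (by omega) (by omega), add_assoc]

theorem gen_low_alt (H : Subgroup (Perm (Fin U.n))) (hpc : U.pc ∈ H) (ht : tri U.pos 0 ∈ H) :
    evenIn ((Finset.range (U.p + 1)).image U.pos) ≤ H := by
  have hp5 := U.hp5
  have hpn := U.hpn
  refine U.fan_generates (U.p + 1) (by omega) (by omega) H (fun i hi => ?_)
  have h1 := mul_mem (mul_mem (pow_mem hpc i) ht) (inv_mem (pow_mem hpc i))
  rw [tri, cyc_conj, Perm.pow_apply_eq_self_of_apply_eq_self U.pc_zero i,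
    U.pc_pow_pos i 1 le_rfl (by omega), U.pc_pow_pos i 2 (by omega) (by omega)] at h1
  convert h1 using 1
  congr 1 <;> congr 1 <;> omega

theorem tri_zero_eq : tri U.pos 0 = U.tau * swap (U.pos 1) (U.pos 2) := rfl

theorem gen_low_sym (H : Subgroup (Perm (Fin U.n))) (hpc : U.pc ∈ H) (ht : U.tau ∈ H) :
    suppIn ((Finset.range (U.p + 1)).image U.pos) ≤ H := by
  have hp5 := U.hp5
  have hpn := U.hpn
  have h1 := mul_mem (mul_mem hpc ht) (inv_mem hpc)
  rw [tau, ← swap_apply_apply, U.pc_zero, U.pc_pos le_rfl (by omega)] at h1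
  have h2 : swap (U.pos 1) (U.pos 2) = U.tau * swap (U.pos 0) (U.pos 2) * U.tau⁻¹ := by
    rw [tau, ← swap_apply_apply, swap_apply_left,
      swap_apply_of_ne_of_ne (U.pos_ne (by omega) (by omega) (by omega))
      (U.pos_ne (by omega) (by omega) (by omega))]
  have htri : tri U.pos 0 ∈ H := by
    rw [U.tri_zero_eq, h2]
    exact mul_mem ht (mul_mem (mul_mem ht h1) (inv_mem ht))
  have heven := U.gen_low_alt H hpc htri
  intro g hg
  rcases Int.units_eq_one_or (Perm.sign g) with h | h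
  · exact heven (mem_evenIn.2 ⟨hg, h⟩)
  · have h3 : g * U.tau ∈ evenIn ((Finset.range (U.p + 1)).image U.pos) := by
      refine mem_evenIn.2 ⟨mul_mem (s := suppIn ((Finset.range (U.p + 1)).image U.pos)) hg ?_,
        by simp [h, U.sign_tau]⟩
      intro x hx
      exact swap_apply_of_ne_of_ne
        (fun h => hx (h ▸ Finset.mem_image_of_mem _ (Finset.mem_range.2 (by omega))))
        (fun h => hx (h ▸ Finset.mem_image_of_mem _ (Finset.mem_range.2 (by omega))))
    have h4 := mul_mem (heven h3) ht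
    rwa [mul_assoc, U.tau_sq, mul_one] at h4

end Setup

end H24.AltPres
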