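import Cfsg.Agent.H24.AltSmall

/-! Uniform bounds for presentations of symmetric and alternating groups. -/

set_option autoImplicit false

namespace H24.AltPres

open Equiv

theorem sym_three (n : ℕ) (hn : 5 ≤ n) : ∃ gens : Fin 3 → Perm (Fin n), HasPres 7 gens := by
  rcases Nat.lt_or_ge n 7 with h | h
  · obtain ⟨gens, hg⟩ := sym_small n (by omega)
    exact ⟨_, hg.add_third.mono (by omega)⟩
  · obtain ⟨gens, _, hg, _⟩ := sym_large n h
    exact ⟨gens, hg⟩

theorem alt_three (n : ℕ) (hn : 5 ≤ n) :
    ∃ gens : Fin 3 → alternatingGroup (Fin n), HasPres 7 gens := by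
  rcases Nat.lt_or_ge n 7 with h | h
  · obtain ⟨gens, hg⟩ := alt_small n (by omega)
    exact ⟨_, hg.add_third.mono (by omega)⟩
  · obtain ⟨gens, _, hg, _⟩ := alt_large n h
    exact ⟨gens, hg⟩

theorem trivial_pres {G : Type*} [Group G] (h : ∀ x : G, x = 1) : HasPres 2 ![(1 : G), 1] :=
  hasPres_cyclic 1 1 (one_pow 1) (fun j _ => by simp) (fun x => by rw [h x]; exact one_mem _)

theorem sym_two (n : ℕ) : ∃ gens : Fin 2 → Perm (Fin n), HasPres 8 gens := by
  rcases Nat.lt_or_ge n 7 with h | h
  · rcases Nat.lt_or_ge n 3 with h3 | h3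
    · interval_cases n
      · exact ⟨_, (trivial_pres (fun x => Subsingleton.elim x 1)).mono (by omega)⟩
      · exact ⟨_, (trivial_pres (fun x => Subsingleton.elim x 1)).mono (by omega)⟩
      · have hall : ∀ x : Perm (Fin 2), x = 1 ∨ x = swap 0 1 := by decide
        refine ⟨_, (hasPres_cyclic (swap (0 : Fin 2) 1) 2 (by decide) ?_ ?_).mono (by omega)⟩
        · intro j hj
          have hs := congrArg Perm.sign hj
          rw [map_zpow, Perm.sign_swap (by decide), map_one] at hs
          rcases Int.even_or_odd j with he | ho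
          · exact_mod_cast even_iff_two_dvd.1 he
          · rw [ho.neg_one_zpow] at hs
            exact absurd hs (by decide)
        · intro x
          rcases hall x with rfl | rfl
          · exact one_mem _
          · exact Subgroup.mem_zpowers _
    · obtain ⟨gens, hg⟩ := sym_small n h3
      exact ⟨gens, hg.mono (by omega)⟩
  · obtain ⟨gens, b, hg, hb⟩ := sym_large n h
    exact ⟨_, hg.pair_keep b hb⟩

theorem alt_two (n : ℕ) : ∃ gens : Fin 2 → alternatingGroup (Fin n), HasPres 8 gens := by
  rcases Nat.lt_or_ge n 7 with h | h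
  · rcases Nat.lt_or_ge n 3 with h3 | h3
    · refine ⟨_, (trivial_pres (fun x => Subtype.ext ?_)).mono (by omega)⟩
      have key : ∀ y : Perm (Fin n), Perm.sign y = 1 → y = 1 := by
        interval_cases n <;> decide
      exact key x (Perm.mem_alternatingGroup.1 x.2)
    · obtain ⟨gens, hg⟩ := alt_small n h3
      exact ⟨gens, hg.mono (by omega)⟩
  · obtain ⟨gens, b, hg, hb⟩ := alt_large n h
    exact ⟨_, hg.pair_keep b hb⟩

end H24.AltPres
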