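import Mathlib

/-! A prime strictly inside `(n, 2n - 1)`. -/

set_option autoImplicit false

namespace H24

open Nat

theorem centralBinom_le_of_no_inner_prime (n : ℕ) (n_large : 2 < n)
    (no_prime : ∀ p : ℕ, p.Prime → n < p → p + 2 ≤ 2 * n → False) :
    centralBinom n ≤ (2 * n) ^ sqrt (2 * n) * 4 ^ (2 * n / 3) * (2 * n) := by
  classical
  have n2_pos : 1 ≤ 2 * n := by omega
  set f := fun x => x ^ n.centralBinom.factorization x with hf
  have hfle : ∀ p, f p ≤ 2 * n := fun p => pow_factorization_choose_le (by omega)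
  set R := Finset.range (2 * n / 3 + 1) with hR
  set S := {p ∈ R | Nat.Prime p}
  have hsmall : ∏ x ∈ R, f x ≤ (2 * n) ^ sqrt (2 * n) * 4 ^ (2 * n / 3) := by
    have : ∏ x ∈ S, f x = ∏ x ∈ R, f x := by
      refine Finset.prod_filter_of_ne fun p _ h => ?_
      contrapose h; dsimp only [f]
      rw [factorization_eq_zero_of_not_prime n.centralBinom h, _root_.pow_zero]
    rw [← this, ← Finset.prod_filter_mul_prod_filter_not S (· ≤ sqrt (2 * n))]
    apply mul_le_mul'
    · refine (Finset.prod_le_prod' fun p _ => hfle p).trans ?_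
      have : (Finset.Icc 1 (sqrt (2 * n))).card = sqrt (2 * n) := by
        rw [card_Icc, Nat.add_sub_cancel]
      rw [Finset.prod_const]
      refine pow_right_mono₀ n2_pos ((Finset.card_le_card fun x hx => ?_).trans this.le)
      obtain ⟨h1, h2⟩ := Finset.mem_filter.1 hx
      exact Finset.mem_Icc.mpr ⟨(Finset.mem_filter.1 h1).2.one_lt.le, h2⟩
    · refine le_trans ?_ (primorial_le_four_pow (2 * n / 3))
      refine (Finset.prod_le_prod' fun p hp => (?_ : f p ≤ p)).trans ?_
      · obtain ⟨h1, h2⟩ := Finset.mem_filter.1 hp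
        refine (pow_right_mono₀ (Finset.mem_filter.1 h1).2.one_lt.le ?_).trans (pow_one p).le
        exact Nat.factorization_choose_le_one (sqrt_lt'.mp <| not_le.1 h2)
      refine Finset.prod_le_prod_of_subset_of_one_le' (Finset.filter_subset _ _) ?_
      exact fun p hp _ => (Finset.mem_filter.1 hp).2.one_lt.le
  have hsub : insert (2 * n - 1) R ⊆ Finset.range (2 * n + 1) := by
    intro x hx
    simp only [hR, Finset.mem_insert, Finset.mem_range] at hx ⊢
    omega
  have hzero : ∀ x ∈ Finset.range (2 * n + 1), x ∉ insert (2 * n - 1) R → f x = 1 := by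
    intro x hx h2
    simp only [hR, Finset.mem_insert, Finset.mem_range, not_or, not_lt] at hx h2
    by_cases hp : x.Prime
    · rcases Nat.lt_or_ge n x with h | h
      · have : x = 2 * n := by
          by_contra hne
          exact no_prime x hp h (by omega)
        subst this
        exact absurd hp (Nat.not_prime_mul (by norm_num) (by omega))
      · simp only [f]
        rw [factorization_centralBinom_of_two_mul_self_lt_three_mul n_large h (by omega), pow_zero]
    · simp only [f]
      rw [factorization_eq_zero_of_not_prime n.centralBinom hp, pow_zero]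
  calc centralBinom n = ∏ p ∈ Finset.range (2 * n + 1), f p :=
        n.prod_pow_factorization_centralBinom.symm
    _ = ∏ p ∈ insert (2 * n - 1) R, f p := (Finset.prod_subset hsub hzero).symm
    _ = f (2 * n - 1) * ∏ p ∈ R, f p := Finset.prod_insert (by simp [hR]; omega)
    _ ≤ (2 * n) * ((2 * n) ^ sqrt (2 * n) * 4 ^ (2 * n / 3)) := Nat.mul_le_mul (hfle _) hsmall
    _ = _ := by ring

theorem strict_inequality {n : ℕ} (hn : 1024 ≤ n) :
    n * ((2 * n) ^ sqrt (2 * n) * 4 ^ (2 * n / 3) * (2 * n)) ≤ 4 ^ n := by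
  set s := sqrt (2 * n) with hs
  have hs1 : s * s ≤ 2 * n := Nat.sqrt_le _
  have hs2 : 2 * n < (s + 1) * (s + 1) := Nat.lt_succ_sqrt _
  have hs45 : 45 ≤ s := by nlinarith
  set L := Nat.log 2 (s + 1) + 1 with hL
  have hL1 : s + 1 < 2 ^ L := Nat.lt_pow_succ_log_self (by norm_num) _
  have hL2 : 2 ^ (L - 1) ≤ s + 1 := by
    rw [hL, Nat.add_sub_cancel]; exact Nat.pow_log_le_self 2 (by omega)
  have hL6 : 6 ≤ L := by
    by_contra h
    have : 2 ^ L ≤ 2 ^ 5 := Nat.pow_le_pow_right (by norm_num) (by omega)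
    omega
  have hL7 : 7 * L ≤ s := by
    rcases Nat.lt_or_ge L 7 with h | h
    · omega
    · have key : ∀ m, 7 ≤ m → 7 * m + 1 ≤ 2 ^ (m - 1) := by
        intro m hm
        induction m, hm using Nat.le_induction with
        | base => norm_num
        | succ m hm ih =>
          rw [show m + 1 - 1 = (m - 1) + 1 by omega, pow_succ]; omega
      have := key L h
      omega
  have h2n : 2 * n ≤ 4 ^ L := by
    have : 4 ^ L = 2 ^ L * 2 ^ L := by rw [← mul_pow]; norm_num
    nlinarith
  have hexp : (s + 2) * L + 2 * n / 3 ≤ n := by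
    have h3 : 3 * ((s + 2) * L) ≤ n := by nlinarith
    omega
  calc n * ((2 * n) ^ s * 4 ^ (2 * n / 3) * (2 * n))
      ≤ (2 * n) * ((2 * n) ^ s * 4 ^ (2 * n / 3) * (2 * n)) := Nat.mul_le_mul_right _ (by omega)
    _ = (2 * n) ^ (s + 2) * 4 ^ (2 * n / 3) := by ring
    _ ≤ (4 ^ L) ^ (s + 2) * 4 ^ (2 * n / 3) :=
        Nat.mul_le_mul_right _ (Nat.pow_le_pow_left h2n _)
    _ = 4 ^ ((s + 2) * L + 2 * n / 3) := by rw [← pow_mul, ← pow_add]; ring
    _ ≤ 4 ^ n := Nat.pow_le_pow_right (by norm_num) hexp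

/-- There is a prime `p` with `n < p ≤ 2n - 2` when `4 ≤ n`. -/
theorem exists_prime_inner (n : ℕ) (hn : 4 ≤ n) : ∃ p, p.Prime ∧ n < p ∧ p + 2 ≤ 2 * n := by
  by_cases h1 : n < 5; · exact ⟨5, by norm_num, h1, by omega⟩
  by_cases h2 : n < 7; · exact ⟨7, by norm_num, h2, by omega⟩
  by_cases h3 : n < 11; · exact ⟨11, by norm_num, h3, by omega⟩
  by_cases h4 : n < 19; · exact ⟨19, by norm_num, h4, by omega⟩
  by_cases h5 : n < 31; · exact ⟨31, by norm_num, h5, by omega⟩
  by_cases h6 : n < 59; · exact ⟨59, by norm_num, h6, by omega⟩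
  by_cases h7 : n < 113; · exact ⟨113, by norm_num, h7, by omega⟩
  by_cases h8 : n < 223; · exact ⟨223, by norm_num, h8, by omega⟩
  by_cases h9 : n < 443; · exact ⟨443, by norm_num, h9, by omega⟩
  by_cases h10 : n < 883; · exact ⟨883, by norm_num, h10, by omega⟩
  by_cases h11 : n < 1759; · exact ⟨1759, by norm_num, h11, by omega⟩
  by_contra hno
  push Not at hno
  have hlow := Nat.four_pow_lt_mul_centralBinom n (by omega)
  have hup := centralBinom_le_of_no_inner_prime n (by omega)
    (fun p hp ha hb => by have := hno p hp ha; omega)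
  have hineq := strict_inequality (n := n) (by omega)
  have := Nat.mul_le_mul_left n hup
  omega

end H24
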