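import Cfsg.Agent.H24.AltComplete
import Cfsg.Agent.H24.BertrandStrict

/-! Short presentations of symmetric and alternating groups. -/

set_option autoImplicit false
set_option linter.unusedSectionVars false

namespace H24.AltPres

open Equiv

/-- `gens` present `G` with at most `r` relations. -/
def HasPres {G : Type*} [Group G] {k : ℕ} (r : ℕ) (gens : Fin k → G) : Prop :=
  Function.Surjective (FreeGroup.lift gens) ∧
    ∃ R : Finset (FreeGroup (Fin k)), R.card ≤ r ∧
      Subgroup.normalClosure (R : Set (FreeGroup (Fin k))) = (FreeGroup.lift gens).ker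

theorem HasPres.mono {G : Type*} [Group G] {k r r' : ℕ} {gens : Fin k → G}
    (h : HasPres r gens) (hr : r ≤ r') : HasPres r' gens := by
  obtain ⟨h1, R, h2, h3⟩ := h
  exact ⟨h1, R, h2.trans hr, h3⟩

theorem HasPres.equiv {G : Type*} [Group G] {k r : ℕ} {gens : Fin k → G} (h : HasPres r gens) :
    ∃ R : Finset (FreeGroup (Fin k)), R.card ≤ r ∧
      ∃ e : PresentedGroup (R : Set (FreeGroup (Fin k))) ≃* G,
        ∀ i, e (PresentedGroup.of i) = gens i := by
  obtain ⟨hs, R, hR, hker⟩ := h
  refine ⟨R, hR, (QuotientGroup.quotientMulEquivOfEq hker).trans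
    (QuotientGroup.quotientKerEquivOfSurjective _ hs), fun i => ?_⟩
  show (FreeGroup.lift gens) (FreeGroup.of i) = gens i
  exact FreeGroup.lift_apply_of

/-- Change of generators. -/
theorem HasPres.change {G : Type*} [Group G] {k r : ℕ} {gens : Fin k → G} (h : HasPres r gens)
    {l : ℕ} (a : Fin l → G) (J : Finset (Fin l)) (σ : Fin k → FreeGroup (Fin l))
    (v : Fin l → FreeGroup (Fin k)) (hσ : ∀ i, FreeGroup.lift a (σ i) = gens i)
    (hv : ∀ j, FreeGroup.lift gens (v j) = a j)
    (hJ : ∀ j, j ∉ J → FreeGroup.lift σ (v j) = FreeGroup.of j) :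
    HasPres (r + J.card) a := by
  classical
  obtain ⟨hs, R, hR, hker⟩ := h
  set s := FreeGroup.lift σ
  have hcomp : (FreeGroup.lift a).comp s = FreeGroup.lift gens := by
    ext i; simp [s, hσ]
  have hcomp' : ∀ x, FreeGroup.lift a (s x) = FreeGroup.lift gens x := fun x =>
    DFunLike.congr_fun hcomp x
  refine ⟨fun g => ?_, R.image s ∪ J.image (fun j => (FreeGroup.of j)⁻¹ * s (v j)), ?_, ?_⟩
  · obtain ⟨x, rfl⟩ := hs g
    exact ⟨s x, hcomp' x⟩
  · exact (Finset.card_union_le _ _).trans
      (Nat.add_le_add (Finset.card_image_le.trans hR) Finset.card_image_le)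
  · set N := Subgroup.normalClosure ((R.image s ∪ J.image (fun j => (FreeGroup.of j)⁻¹ * s (v j)) :
      Finset (FreeGroup (Fin l))) : Set (FreeGroup (Fin l))) with hN
    refine le_antisymm (Subgroup.normalClosure_le_normal ?_) ?_
    · intro x hx
      rcases Finset.mem_union.1 (Finset.mem_coe.1 hx) with hx | hx
      · obtain ⟨y, hy, rfl⟩ := Finset.mem_image.1 hx
        rw [SetLike.mem_coe, MonoidHom.mem_ker, hcomp', ← MonoidHom.mem_ker, ← hker]
        exact Subgroup.subset_normalClosure hy
      · obtain ⟨j, _, rfl⟩ := Finset.mem_image.1 hx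
        simp [MonoidHom.mem_ker, hcomp', hv]
    · set π := QuotientGroup.mk' N with hπ
      set μ := FreeGroup.lift v
      have hid : (π.comp s).comp μ = π := by
        ext j
        simp only [MonoidHom.comp_apply, μ, FreeGroup.lift_apply_of]
        by_cases hj : j ∈ J
        · refine (QuotientGroup.eq.2 ?_).symm
          rw [hN]
          exact Subgroup.subset_normalClosure
            (Finset.mem_coe.2 (Finset.mem_union.2 (Or.inr (Finset.mem_image_of_mem _ hj))))
        · rw [hJ j hj]
      intro w hw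
      have h1 : μ w ∈ Subgroup.normalClosure (R : Set (FreeGroup (Fin k))) := by
        rw [hker, MonoidHom.mem_ker]
        have h2 : (FreeGroup.lift gens).comp μ = FreeGroup.lift a := by
          ext j; simp [μ, hv]
        rw [← MonoidHom.comp_apply, h2]
        exact hw
      have h3 : Subgroup.normalClosure (R : Set (FreeGroup (Fin k))) ≤ (π.comp s).ker := by
        refine Subgroup.normalClosure_le_normal fun y hy => ?_
        rw [SetLike.mem_coe, MonoidHom.mem_ker, MonoidHom.comp_apply, hπ, QuotientGroup.mk'_apply,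
          QuotientGroup.eq_one_iff, hN]
        exact Subgroup.subset_normalClosure
          (Finset.mem_coe.2 (Finset.mem_union.2 (Or.inl (Finset.mem_image_of_mem _ hy))))
      have h4 := h3 h1
      rw [MonoidHom.mem_ker, ← MonoidHom.comp_apply, hid, hπ, QuotientGroup.mk'_apply,
        QuotientGroup.eq_one_iff] at h4
      exact h4

/-- Any generating pair. -/
theorem HasPres.any_pair {G : Type*} [Group G] {k r : ℕ} {gens : Fin k → G} (h : HasPres r gens)
    (a b : G) (hab : Subgroup.closure ({a, b} : Set G) = ⊤) : HasPres (r + 2) ![a, b] := by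
  have hsurj : Function.Surjective (FreeGroup.lift ![a, b]) := by
    rw [← MonoidHom.range_eq_top, FreeGroup.range_lift_eq_closure, ← hab]
    congr 1
    simp [Matrix.range_cons, Matrix.range_empty]
    ext x; simp; tauto
  choose σ hσ using fun i => hsurj (gens i)
  choose v hv using fun j => h.1 (![a, b] j)
  exact h.change ![a, b] Finset.univ σ v hσ hv (fun j hj => absurd (Finset.mem_univ j) hj)

/-- Keep the first generator, add a second one. -/
theorem HasPres.pair_keep {G : Type*} [Group G] {k r : ℕ} {gens : Fin (k + 1) → G}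
    (h : HasPres r gens) (b : G) (hab : Subgroup.closure ({gens 0, b} : Set G) = ⊤) :
    HasPres (r + 1) ![gens 0, b] := by
  have hsurj : Function.Surjective (FreeGroup.lift ![gens 0, b]) := by
    rw [← MonoidHom.range_eq_top, FreeGroup.range_lift_eq_closure, ← hab]
    congr 1
    simp [Matrix.range_cons, Matrix.range_empty]
    ext x; simp; tauto
  choose σ hσ using fun i => hsurj (gens i)
  obtain ⟨vb, hvb⟩ := h.1 b
  refine h.change ![gens 0, b] {1} (Function.update σ 0 (FreeGroup.of 0))
    ![FreeGroup.of 0, vb] ?_ ?_ ?_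
  · intro i
    by_cases hi : i = 0
    · subst hi; simp
    · rw [Function.update_of_ne hi]; exact hσ i
  · intro j; fin_cases j <;> simp [hvb]
  · intro j hj
    fin_cases j
    · simp
    · simp at hj

/-- Add a third, trivial generator. -/
theorem HasPres.add_third {G : Type*} [Group G] {r : ℕ} {gens : Fin 2 → G} (h : HasPres r gens) :
    HasPres (r + 1) ![gens 0, gens 1, (1 : G)] := by
  refine h.change ![gens 0, gens 1, 1] {2} ![FreeGroup.of 0, FreeGroup.of 1]
    ![FreeGroup.of 0, FreeGroup.of 1, 1] ?_ ?_ ?_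
  · intro i; fin_cases i <;> simp
  · intro j; fin_cases j <;> simp
  · intro j hj
    fin_cases j
    · simp
    · simp
    · simp at hj

/-- From a kernel criterion. -/
theorem hasPres_of_complete {G : Type*} [Group G] {k r : ℕ} (gens : Fin k → G)
    (hs : Function.Surjective (FreeGroup.lift gens)) (R : List (FreeGroup (Fin k)))
    (hR : R.length ≤ r) (h1 : ∀ x ∈ R, FreeGroup.lift gens x = 1)
    (h2 : ∀ (P : Type) [Group P] (ψ : FreeGroup (Fin k) →* P), (∀ x ∈ R, ψ x = 1) →
      ∀ w, FreeGroup.lift gens w = 1 → ψ w = 1) :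
    HasPres r gens := by
  classical
  refine ⟨hs, R.toFinset, (List.toFinset_card_le R).trans hR, le_antisymm ?_ ?_⟩
  · refine Subgroup.normalClosure_le_normal fun x hx => ?_
    exact h1 x (List.mem_toFinset.1 hx)
  · intro w hw
    have := h2 _ (QuotientGroup.mk' (Subgroup.normalClosure (R.toFinset : Set (FreeGroup (Fin k)))))
      (fun x hx => (QuotientGroup.eq_one_iff x).2
        (Subgroup.subset_normalClosure (List.mem_toFinset.2 hx))) w hw
    exact (QuotientGroup.eq_one_iff w).1 this

/-- A presentation inside a subgroup. -/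
theorem hasPres_subgroup {G : Type*} [Group G] {k r : ℕ} (H : Subgroup G) (gens : Fin k → H)
    (hs : H ≤ (FreeGroup.lift (fun i => (gens i : G))).range) (R : List (FreeGroup (Fin k)))
    (hR : R.length ≤ r) (h1 : ∀ x ∈ R, FreeGroup.lift (fun i => (gens i : G)) x = 1)
    (h2 : ∀ (P : Type) [Group P] (ψ : FreeGroup (Fin k) →* P), (∀ x ∈ R, ψ x = 1) →
      ∀ w, FreeGroup.lift (fun i => (gens i : G)) w = 1 → ψ w = 1) :
    HasPres r gens := by
  have hc : ∀ x, (FreeGroup.lift gens x : G) = FreeGroup.lift (fun i => (gens i : G)) x := by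
    intro x
    rw [← Subgroup.coe_subtype, ← MonoidHom.comp_apply]
    congr 1
    ext i; simp
  refine hasPres_of_complete gens ?_ R hR (fun x hx => Subtype.ext ((hc x).trans (h1 x hx))) ?_
  · intro g
    obtain ⟨w, hw⟩ := hs g.2
    exact ⟨w, Subtype.ext ((hc w).trans hw)⟩
  · intro P _ ψ hψ w hw
    exact h2 P ψ hψ w (by rw [← hc, hw]; rfl)

namespace Setup

variable (U : Setup)

theorem closure_pair (halt : U.alt = true) :
    Subgroup.closure ({U.c0, tri U.pos 0} : Set (Perm (Fin U.n))) = alternatingGroup (Fin U.n) := by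
  refine le_antisymm ?_ ?_
  · rw [Subgroup.closure_le]
    rintro x (rfl | rfl)
    · exact Perm.mem_alternatingGroup.2 (U.sign_c0 halt)
    · exact Perm.mem_alternatingGroup.2 (U.tri_even (by have := U.hp5; have := U.hpn; omega))
  · refine U.conj_tri_zero_mem (fun i _ => ?_)
    have hc : U.c0 ∈ Subgroup.closure ({U.c0, tri U.pos 0} : Set (Perm (Fin U.n))) :=
      Subgroup.subset_closure (Or.inl rfl)
    have ht : tri U.pos 0 ∈ Subgroup.closure ({U.c0, tri U.pos 0} : Set (Perm (Fin U.n))) :=
      Subgroup.subset_closure (Or.inr rfl)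
    exact mul_mem (mul_mem (pow_mem hc i) ht) (inv_mem (pow_mem hc i))

theorem closure_pair_sym (halt : U.alt = false) :
    Subgroup.closure ({U.c0, U.tau} : Set (Perm (Fin U.n))) = ⊤ := by
  have hp5 := U.hp5
  have hpn := U.hpn
  have hf := U.hf0 halt
  set H := Subgroup.closure ({U.c0, U.tau} : Set (Perm (Fin U.n)))
  have hc : U.c0 ∈ H := Subgroup.subset_closure (Or.inl rfl)
  have ht : U.tau ∈ H := Subgroup.subset_closure (Or.inr rfl)
  have htri : tri U.pos 0 ∈ H := by
    have h1 : U.c0 * U.tau * U.c0⁻¹ = swap (U.pos 1) (U.pos 2) := by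
      rw [tau, ← swap_apply_apply, U.c0_step 0 (by omega) (by omega),
        U.c0_step 1 (by omega) (by omega)]
    rw [U.tri_zero_eq, ← h1]
    exact mul_mem ht (mul_mem (mul_mem hc ht) (inv_mem hc))
  have hA : alternatingGroup (Fin U.n) ≤ H :=
    U.conj_tri_zero_mem (fun i _ => mul_mem (mul_mem (pow_mem hc i) htri) (inv_mem (pow_mem hc i)))
  rw [eq_top_iff]
  intro g _
  rcases Int.units_eq_one_or (Perm.sign g) with h | h
  · exact hA (Perm.mem_alternatingGroup.2 h)
  · have h3 := mul_mem (hA (Perm.mem_alternatingGroup.2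
      (show Perm.sign (g * U.tau) = 1 by simp [h, U.sign_tau]))) ht
    rwa [mul_assoc, U.tau_sq, mul_one] at h3

theorem range_ev : U.target ≤ U.ev.range := fun g hg => by
  obtain ⟨w, _, hw⟩ := U.good_surj hg
  exact ⟨w, hw⟩

end Setup

/-- Parameters exist for `n ≥ 7`. -/
theorem exists_setup (n : ℕ) (hn : 7 ≤ n) (alt : Bool) :
    ∃ U : Setup, U.n = n ∧ U.alt = alt := by
  obtain ⟨p, hp, h1, h2⟩ : ∃ p, p.Prime ∧ n / 2 < p ∧ p + 2 ≤ n := by
    rcases Nat.lt_or_ge n 8 with h | h
    · exact ⟨5, by norm_num, by omega, by omega⟩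
    · obtain ⟨p, hp, h1, h2⟩ := H24.exists_prime_inner (n / 2) (by omega)
      exact ⟨p, hp, h1, by omega⟩
  have hp5 : 5 ≤ p := by
    by_contra h
    obtain rfl : p = 4 := by omega
    norm_num at hp
  refine ⟨{
    p := p, n := n, f := if alt = true ∧ n % 2 = 0 then 1 else 0, alt := alt, hp := ⟨hp⟩
    hp5 := hp5, hpn := h2
    hrange := by split_ifs <;> omega
    hf := by split_ifs <;> omega
    hodd := fun h => by
      subst h
      simp only [true_and]
      split_ifs with h
      · exact ⟨(n - 1) / 2, by omega⟩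
      · exact ⟨n / 2, by omega⟩
    hf0 := fun h => by subst h; simp }, rfl, rfl⟩

theorem sym_large (n : ℕ) (hn : 7 ≤ n) :
    ∃ (gens : Fin 3 → Perm (Fin n)) (b : Perm (Fin n)), HasPres 7 gens ∧
      Subgroup.closure ({gens 0, b} : Set (Perm (Fin n))) = ⊤ := by
  obtain ⟨U, rfl, halt⟩ := exists_setup n hn false
  refine ⟨![U.c0, U.frame.bb U.alt, tri U.pos 0], U.tau, ?_, U.closure_pair_sym halt⟩
  refine hasPres_of_complete _ ?_ U.rels (le_of_eq rfl) U.model_rels
    (fun P _ ψ hψ w hw => U.complete ψ hψ w hw)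
  intro g
  exact U.range_ev (show g ∈ U.target by rw [Setup.target, halt]; trivial)

theorem alt_large (n : ℕ) (hn : 7 ≤ n) :
    ∃ (gens : Fin 3 → alternatingGroup (Fin n)) (b : alternatingGroup (Fin n)), HasPres 7 gens ∧
      Subgroup.closure ({gens 0, b} : Set (alternatingGroup (Fin n))) = ⊤ := by
  obtain ⟨U, rfl, halt⟩ := exists_setup n hn true
  have ht : U.target = alternatingGroup (Fin U.n) := by rw [Setup.target, halt]; rfl
  have hmem : ∀ i, (![U.c0, U.frame.bb U.alt, tri U.pos 0] i) ∈ alternatingGroup (Fin U.n) := by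
    intro i
    rw [← ht]
    fin_cases i
    · exact U.c0_target
    · exact U.bb_target
    · exact U.tri_target (by have := U.hp5; have := U.hpn; omega)
  refine ⟨fun i => ⟨_, hmem i⟩, ⟨tri U.pos 0, hmem 2⟩, ?_, ?_⟩
  · exact hasPres_subgroup _ _ (fun x hx => U.range_ev (ht.symm ▸ hx)) U.rels (le_of_eq rfl) U.model_rels
      (fun P _ ψ hψ w hw => U.complete ψ hψ w hw)
  · apply Subgroup.map_injective (alternatingGroup (Fin U.n)).subtype_injective
    rw [MonoidHom.map_closure, ← MonoidHom.range_eq_map, Subgroup.range_subtype, Set.image_pair]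
    exact U.closure_pair halt

/-- Trivial and order two cases. -/
theorem hasPres_cyclic {G : Type*} [Group G] (g : G) (m : ℕ) (hm : g ^ m = 1)
    (hord : ∀ j : ℤ, g ^ j = 1 → (m : ℤ) ∣ j) (htop : ∀ x : G, x ∈ Subgroup.zpowers g) :
    HasPres 2 ![g, (1 : G)] := by
  refine hasPres_of_complete _ ?_ [FreeGroup.of 0 ^ m, FreeGroup.of 1] (le_of_eq rfl) ?_ ?_
  · intro x
    obtain ⟨j, rfl⟩ := htop x
    exact ⟨FreeGroup.of 0 ^ j, by simp⟩
  · intro x hx
    simp only [List.mem_cons, List.not_mem_nil, or_false] at hx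
    rcases hx with rfl | rfl <;> simp [hm]
  · intro P _ ψ hψ w hw
    have h0 := hψ (FreeGroup.of 0 ^ m) (by simp)
    have h1 := hψ (FreeGroup.of 1) (by simp)
    rw [map_pow] at h0
    have key : ∀ v, ∃ j : ℤ, ψ v = ψ (FreeGroup.of 0) ^ j ∧ FreeGroup.lift ![g, (1 : G)] v = g ^ j := by
      intro v
      induction v using FreeGroup.induction_on with
      | C1 => exact ⟨0, by simp, by simp⟩
      | of i =>
        fin_cases i
        · exact ⟨1, by simp, by simp⟩
        · exact ⟨0, by simpa using h1, by simp⟩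
      | inv_of i h =>
        obtain ⟨j, e1, e2⟩ := h
        exact ⟨-j, by rw [map_inv, e1, zpow_neg], by rw [map_inv, e2, zpow_neg]⟩
      | mul u v hu hv =>
        obtain ⟨j, e1, e2⟩ := hu
        obtain ⟨k, e3, e4⟩ := hv
        exact ⟨j + k, by rw [map_mul, e1, e3, zpow_add], by rw [map_mul, e2, e4, zpow_add]⟩
    obtain ⟨j, e1, e2⟩ := key w
    rw [hw] at e2
    obtain ⟨t, rfl⟩ := hord j e2.symm
    rw [e1, zpow_mul, zpow_natCast, h0, one_zpow]

end H24.AltPres
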