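import Cfsg.Agent.H24.AltPresent

/-! Presentations on two generators with `n` relations, for small degrees. -/

set_option autoImplicit false
set_option linter.unusedSectionVars false

namespace H24.AltPres

open Equiv

/-- A small degree. -/
structure Small where
  k : ℕ
  hk : 1 ≤ k
  alt : Bool

namespace Small

variable (V : Small)

/-- The positions. -/
def pos (i : ℕ) : Fin (V.k + 2) := ⟨i % (V.k + 2), Nat.mod_lt _ (by omega)⟩

theorem pos_ne {i j : ℕ} (hi : i < V.k + 2) (hj : j < V.k + 2) (h : i ≠ j) : V.pos i ≠ V.pos j := by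
  intro hc
  have := congrArg Fin.val hc
  simp only [pos, Nat.mod_eq_of_lt hi, Nat.mod_eq_of_lt hj] at this
  exact h this

/-- The cycle on the positions `≥ 2`. -/
noncomputable def sigma : Perm (Fin (V.k + 2)) :=
  Equiv.ofBijective
    (fun x : Fin (V.k + 2) =>
      (⟨succFix (V.k + 2) 2 x.val, succFix_lt x.isLt⟩ : Fin (V.k + 2)))
    (Finite.injective_iff_bijective.1 fun x y h =>
      Fin.ext (succFix_inj x.isLt y.isLt (congrArg Fin.val h)))

theorem sigma_pos {i : ℕ} (hi : i < V.k + 2) :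
    V.sigma (V.pos i) = V.pos (succFix (V.k + 2) 2 i) := by
  apply Fin.ext
  show succFix (V.k + 2) 2 (i % (V.k + 2)) = succFix (V.k + 2) 2 i % (V.k + 2)
  rw [Nat.mod_eq_of_lt hi, Nat.mod_eq_of_lt (succFix_lt hi)]

/-- Whether the two extra points are exchanged. -/
noncomputable def flip : Bool :=
  if Perm.sign V.sigma = (if V.alt then 1 else -1) then false else true

/-- The second generator. -/
noncomputable def g : Perm (Fin (V.k + 2)) :=
  if V.flip then V.sigma * swap (V.pos 0) (V.pos 1) else V.sigma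

theorem sign_g : Perm.sign V.g = if V.alt then 1 else -1 := by
  have h01 := Perm.sign_swap (V.pos_ne (i := 0) (j := 1) (by omega) (by omega) (by omega))
  rcases Int.units_eq_one_or (Perm.sign V.sigma) with h | h <;> cases ha : V.alt <;>
    simp [g, flip, h, ha, h01]

/-- The first generator. -/
def z : Perm (Fin (V.k + 2)) := cyc (V.pos 0) (V.pos 1) (V.pos 2)

/-- The evaluation. -/
noncomputable def ev : FreeGroup (Fin 2) →* Perm (Fin (V.k + 2)) := FreeGroup.lift ![V.z, V.g]

/-- The target. -/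
def target : Subgroup (Perm (Fin (V.k + 2))) :=
  if V.alt then alternatingGroup (Fin (V.k + 2)) else ⊤

/-- The signed conjugates. -/
noncomputable def sgn {P : Type*} [Group P] (i : ℕ) (x : P) : P :=
  if V.flip = true ∧ i % 2 = 1 then x⁻¹ else x

/-- The word of the `i`-th cycle. -/
noncomputable def xi (i : ℕ) : FreeGroup (Fin 2) :=
  V.sgn i (FreeGroup.of 1 ^ i * FreeGroup.of 0 * (FreeGroup.of 1 ^ i)⁻¹)

theorem g_pos {j : ℕ} (hj : 2 ≤ j) (hn : j + 1 < V.k + 2) : V.g (V.pos j) = V.pos (j + 1) := by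
  have h : V.sigma (V.pos j) = V.pos (j + 1) := by
    rw [V.sigma_pos (by omega)]; simp [succFix, not_lt.2 hj, hn]
  unfold g
  split_ifs
  · rw [Perm.mul_apply, swap_apply_of_ne_of_ne (V.pos_ne (by omega) (by omega) (by omega))
      (V.pos_ne (by omega) (by omega) (by omega)), h]
  · exact h

theorem sigma_low {j : ℕ} (hj : j < 2) : V.sigma (V.pos j) = V.pos j := by
  have := V.hk
  rw [V.sigma_pos (by omega)]; simp [succFix, hj]

theorem g_zero : V.g (V.pos 0) = if V.flip then V.pos 1 else V.pos 0 := by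
  unfold g
  split_ifs
  · rw [Perm.mul_apply, swap_apply_left, V.sigma_low (by omega)]
  · exact V.sigma_low (by omega)

theorem g_one : V.g (V.pos 1) = if V.flip then V.pos 0 else V.pos 1 := by
  unfold g
  split_ifs
  · rw [Perm.mul_apply, swap_apply_right, V.sigma_low (by omega)]
  · exact V.sigma_low (by omega)

theorem ev_xi {i : ℕ} (hi : i < V.k) :
    V.ev (V.xi i) = cyc (V.pos 0) (V.pos 1) (V.pos (2 + i)) := by
  have hraw : ∀ i, i < V.k → V.g ^ i * V.z * (V.g ^ i)⁻¹ =
      V.sgn i (cyc (V.pos 0) (V.pos 1) (V.pos (2 + i))) := by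
    intro i
    induction i with
    | zero => intro _; simp [sgn, z]
    | succ i ih =>
      intro hi
      have e : V.g ^ (i + 1) * V.z * (V.g ^ (i + 1))⁻¹ =
          V.g * (V.g ^ i * V.z * (V.g ^ i)⁻¹) * V.g⁻¹ := by rw [pow_succ']; group
      rw [e, ih (by omega)]
      have hc : V.g * cyc (V.pos 0) (V.pos 1) (V.pos (2 + i)) * V.g⁻¹ =
          if V.flip then (cyc (V.pos 0) (V.pos 1) (V.pos (2 + (i + 1))))⁻¹
          else cyc (V.pos 0) (V.pos 1) (V.pos (2 + (i + 1))) := by
        rw [cyc_conj, V.g_zero, V.g_one, V.g_pos (j := 2 + i) (by omega) (by omega)]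
        cases V.flip
        · simp [add_assoc]
        · simp only [if_true]
          rw [Setup.cyc_swap_inv (V.pos_ne (by omega) (by omega) (by omega))
            (V.pos_ne (by omega) (by omega) (by omega))]
          simp [add_assoc]
      unfold sgn
      cases hf : V.flip
      · simp only [hf, Bool.false_eq_true, if_false] at hc
        simp [hc]
      · simp only [hf, if_true] at hc
        rcases Nat.mod_two_eq_zero_or_one i with h | h
        · simp [h, hc, show (i + 1) % 2 = 1 by omega]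
        · simp only [h, and_self, if_true, show ¬((i + 1) % 2 = 1) by omega, and_false, if_false]
          rw [← conj_inv, hc, inv_inv]
  have h1 : V.ev (FreeGroup.of 1 ^ i * FreeGroup.of 0 * (FreeGroup.of 1 ^ i)⁻¹) =
      V.g ^ i * V.z * (V.g ^ i)⁻¹ := by simp [ev]
  unfold xi sgn
  split_ifs with h
  · rw [map_inv, h1, hraw i hi]; simp [sgn, h]
  · rw [h1, hraw i hi]; simp [sgn, h]

/-- The points carrying the cycles. -/
def pts : Finset (Fin (V.k + 2)) := (Finset.range V.k).image (fun i => V.pos (2 + i))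

theorem pts_full : insert (V.pos 0) (insert (V.pos 1) V.pts) = Finset.univ := by
  ext x
  simp only [Finset.mem_univ, iff_true, Finset.mem_insert, pts, Finset.mem_image, Finset.mem_range]
  have hx := x.isLt
  rcases (show x.val = 0 ∨ x.val = 1 ∨ 2 ≤ x.val by omega) with h | h | h
  · exact Or.inl (Fin.ext (by simp [pos, h]))
  · exact Or.inr (Or.inl (Fin.ext (by simp [pos, h])))
  · refine Or.inr (Or.inr ⟨x.val - 2, by omega, Fin.ext ?_⟩)
    show (2 + (x.val - 2)) % (V.k + 2) = x.val
    rw [Nat.mod_eq_of_lt (by omega)]; omega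

theorem pos_not_pts {j : ℕ} (hj : j < 2) : V.pos j ∉ V.pts := by
  intro h
  obtain ⟨i, hi, hij⟩ := Finset.mem_image.1 h
  rw [Finset.mem_range] at hi
  exact V.pos_ne (by omega) (by omega) (by omega) hij

/-- Words in the cycles. -/
noncomputable def xiWords : Subgroup (FreeGroup (Fin 2)) :=
  Subgroup.closure {w | ∃ i : ℕ, i < V.k ∧ V.xi i = w}

theorem xiWords_surj : alternatingGroup (Fin (V.k + 2)) ≤ V.xiWords.map V.ev := by
  intro g hg
  have h : g ∈ evenIn (insert (V.pos 0) (insert (V.pos 1) V.pts)) := by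
    rw [V.pts_full, mem_evenIn]; simpa using Perm.mem_alternatingGroup.1 hg
  refine (evenIn_le_closure _ _ (V.pos_ne (by omega) (by omega) (by omega)) V.pts
    (V.pos_not_pts (by omega)) (V.pos_not_pts (by omega))).trans ((Subgroup.closure_le _).2 ?_) h
  rintro _ ⟨y, hy, rfl⟩
  obtain ⟨i, hi, rfl⟩ := Finset.mem_image.1 hy
  rw [Finset.mem_range] at hi
  exact ⟨V.xi i, Subgroup.subset_closure ⟨i, hi, rfl⟩, V.ev_xi hi⟩

/-- A word for an even permutation. -/
noncomputable def wd (g : Perm (Fin (V.k + 2))) : FreeGroup (Fin 2) := by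
  classical
  exact if h : g ∈ alternatingGroup (Fin (V.k + 2)) then (V.xiWords_surj h).choose else 1

theorem wd_spec {g : Perm (Fin (V.k + 2))} (h : Perm.sign g = 1) :
    V.wd g ∈ V.xiWords ∧ V.ev (V.wd g) = g := by
  simp only [wd, dif_pos (Perm.mem_alternatingGroup.2 h)]
  exact (V.xiWords_surj (Perm.mem_alternatingGroup.2 h)).choose_spec

/-- The last image. -/
noncomputable def wrap : Perm (Fin (V.k + 2)) := V.g * V.ev (V.xi (V.k - 1)) * V.g⁻¹

/-- The relators. -/
noncomputable def rels : List (FreeGroup (Fin 2)) :=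
  (FreeGroup.of 0 ^ 3 :: (List.range (V.k - 1)).map (fun i => (FreeGroup.of 0 * V.xi (i + 1)) ^ 2)) ++
    (if V.alt then [(V.wd V.g)⁻¹ * FreeGroup.of 1]
     else [(V.wd (V.g * V.g))⁻¹ * (FreeGroup.of 1 * FreeGroup.of 1),
       (V.wd V.wrap)⁻¹ * (FreeGroup.of 1 * V.xi (V.k - 1) * (FreeGroup.of 1)⁻¹)])

theorem rels_length : V.rels.length ≤ V.k + 2 := by
  have := V.hk
  unfold rels
  cases V.alt <;> simp <;> omega

theorem sign_z : Perm.sign V.z = 1 :=
  sign_cyc (V.pos_ne (by omega) (by omega) (by omega))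
    (V.pos_ne (by omega) (by have := V.hk; omega) (by omega))

theorem sign_wrap : Perm.sign V.wrap = 1 := by
  have := V.hk
  rw [wrap, V.ev_xi (by omega)]
  simp [sign_cyc (V.pos_ne (i := 0) (j := 1) (by omega) (by omega) (by omega))
    (V.pos_ne (i := 1) (j := 2 + (V.k - 1)) (by omega) (by omega) (by omega))]

theorem model_rels : ∀ r ∈ V.rels, V.ev r = 1 := by
  intro r hr
  have hk := V.hk
  simp only [rels, List.mem_append, List.mem_cons, List.mem_map, List.mem_range] at hr
  rcases hr with (rfl | ⟨i, hi, rfl⟩) | hr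
  · rw [map_pow, ev, FreeGroup.lift_apply_of]
    exact cyc_pow_three (V.pos_ne (by omega) (by omega) (by omega))
      (V.pos_ne (by omega) (by omega) (by omega)) (V.pos_ne (by omega) (by omega) (by omega))
  · rw [map_pow, map_mul, V.ev_xi (by omega), ev, FreeGroup.lift_apply_of]
    exact cyc_mul_cyc_sq (V.pos_ne (by omega) (by omega) (by omega))
      (V.pos_ne (by omega) (by omega) (by omega)) (V.pos_ne (by omega) (by omega) (by omega))
      (V.pos_ne (by omega) (by omega) (by omega)) (V.pos_ne (by omega) (by omega) (by omega))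
      (V.pos_ne (by omega) (by omega) (by omega))
  · have hg : V.ev (FreeGroup.of 1) = V.g := by simp [ev]
    have hs := V.sign_g
    cases halt : V.alt <;> rw [halt] at hr hs <;>
      simp only [Bool.false_eq_true, if_false, if_true, List.mem_cons, List.not_mem_nil,
        or_false] at hr hs
    · rcases hr with rfl | rfl
      · rw [map_mul, map_inv, (V.wd_spec (by simp [hs])).2, map_mul, hg, inv_mul_cancel]
      · rw [map_mul, map_inv, (V.wd_spec V.sign_wrap).2, map_mul, map_mul, map_inv, hg, wrap,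
          inv_mul_cancel]
    · subst hr
      rw [map_mul, map_inv, (V.wd_spec hs).2, hg, inv_mul_cancel]

theorem complete {P : Type*} [Group P] (ψ : FreeGroup (Fin 2) →* P)
    (hψ : ∀ r ∈ V.rels, ψ r = 1) (w : FreeGroup (Fin 2)) (hw : V.ev w = 1) : ψ w = 1 := by
  classical
  have hk := V.hk
  set z := ψ (FreeGroup.of 0) with hz
  set g := ψ (FreeGroup.of 1) with hg
  have hz3 : z ^ 3 = 1 := by
    rw [hz, ← map_pow]; exact hψ _ (List.mem_append_left _ (List.mem_cons_self ..))
  have hψxi : ∀ i, ψ (V.xi i) = V.sgn i (g ^ i * z * (g ^ i)⁻¹) := by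
    intro i; unfold xi sgn; split_ifs <;> simp [hg, hz]
  have hbase : ∀ d, 1 ≤ d → d < V.k → (z * ψ (V.xi d)) ^ 2 = 1 := by
    intro d h1 h2
    obtain ⟨i, rfl⟩ : ∃ i, d = i + 1 := ⟨d - 1, by omega⟩
    rw [hz, ← map_mul, ← map_pow]
    exact hψ _ (List.mem_append_left _ (List.mem_cons_of_mem _
      (List.mem_map.2 ⟨i, List.mem_range.2 (by omega), rfl⟩)))
  have hflip : ∀ u v : P, (u * v) ^ 2 = 1 → (u⁻¹ * v⁻¹) ^ 2 = 1 := by
    intro u v h
    rw [show u⁻¹ * v⁻¹ = (v * u)⁻¹ by group, inv_pow, inv_eq_one]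
    calc (v * u) ^ 2 = u⁻¹ * (u * v) ^ 2 * u := by simp only [pow_two]; group
      _ = 1 := by rw [h]; group
  have hcube : ∀ i, ψ (V.xi i) ^ 3 = 1 := by
    intro i
    rw [hψxi]; unfold sgn
    split_ifs
    · rw [inv_pow, conj_pow, hz3]; simp
    · rw [conj_pow, hz3]; simp
  have hpair : ∀ i d, 1 ≤ d → i + d < V.k → (ψ (V.xi i) * ψ (V.xi (i + d))) ^ 2 = 1 := by
    intro i d h1 h2
    have h := hbase d h1 (by omega)
    have h' : (g ^ i * z * (g ^ i)⁻¹ * (g ^ i * ψ (V.xi d) * (g ^ i)⁻¹)) ^ 2 = 1 := by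
      rw [conj_mul, conj_pow, h]; simp
    rw [hψxi] at h'
    rw [hψxi, hψxi]
    unfold sgn at h' ⊢
    have e : g ^ i * (g ^ d * z * (g ^ d)⁻¹) * (g ^ i)⁻¹ = g ^ (i + d) * z * (g ^ (i + d))⁻¹ := by
      rw [pow_add]; group
    have e' : g ^ i * (g ^ d * z * (g ^ d)⁻¹)⁻¹ * (g ^ i)⁻¹ =
        (g ^ (i + d) * z * (g ^ (i + d))⁻¹)⁻¹ := by rw [← conj_inv, e]
    cases hf : V.flip <;> simp only [hf, Bool.false_eq_true, false_and, if_false, true_and] at h' ⊢
    · rw [e] at h'; exact h'
    · rcases Nat.mod_two_eq_zero_or_one i with hi | hi <;>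
        rcases Nat.mod_two_eq_zero_or_one d with hd | hd
      · simp only [hi, show (i + d) % 2 = 0 by omega, hd, zero_ne_one, if_false] at h' ⊢
        rw [e] at h'; exact h'
      · simp only [hi, show (i + d) % 2 = 1 by omega, hd, zero_ne_one, if_false, if_true] at h' ⊢
        rw [e'] at h'; exact h'
      · simp only [hi, show (i + d) % 2 = 1 by omega, hd, zero_ne_one, if_false, if_true] at h' ⊢
        rw [e] at h'; exact hflip _ _ h'
      · simp only [hi, show (i + d) % 2 = 0 by omega, hd, zero_ne_one, if_false, if_true] at h' ⊢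
        rw [e'] at h'
        have := hflip _ _ h'
        rwa [inv_inv] at this
  have hne : ∀ i j, i < V.k + 2 → j < V.k + 2 → i ≠ j → V.pos i ≠ V.pos j :=
    fun i j hi hj h => V.pos_ne hi hj h
  obtain ⟨Φ, hΦ, hΦc⟩ := star_hom (V.pos 0) (V.pos 1) (hne _ _ (by omega) (by omega) (by omega))
    V.pts (V.pos_not_pts (by omega)) (V.pos_not_pts (by omega))
    (fun y => ψ (V.xi (y.val - 2))) (fun y _ => hcube _)
    (by
      intro y hy y' hy' hne'
      obtain ⟨i, hi, rfl⟩ := Finset.mem_image.1 hy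
      obtain ⟨j, hj, rfl⟩ := Finset.mem_image.1 hy'
      rw [Finset.mem_range] at hi hj
      have hv : ∀ i, i < V.k → (V.pos (2 + i)).val - 2 = i := fun i hi => by
        show (2 + i) % (V.k + 2) - 2 = i
        rw [Nat.mod_eq_of_lt (by omega)]; omega
      simp only [hv i hi, hv j hj]
      rcases Nat.lt_trichotomy i j with h | h | h
      · have := hpair i (j - i) (by omega) (by omega)
        rwa [show i + (j - i) = j by omega] at this
      · exact absurd (by rw [h]) hne'
      · have := hpair j (i - j) (by omega) (by omega)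
        rw [show j + (i - j) = i by omega] at this
        calc (ψ (V.xi i) * ψ (V.xi j)) ^ 2
            = (ψ (V.xi j))⁻¹ * (ψ (V.xi j) * ψ (V.xi i)) ^ 2 * ψ (V.xi j) := by
              simp only [pow_two]; group
          _ = 1 := by rw [this]; group)
  rw [V.pts_full] at hΦ
  have hA : HomOn (alternatingGroup (Fin (V.k + 2))) Φ := by
    intro u hu v hv
    exact hΦ u (mem_evenIn.2 ⟨fun x hx => absurd (Finset.mem_univ x) hx,
      Perm.mem_alternatingGroup.1 hu⟩) v (mem_evenIn.2 ⟨fun x hx => absurd (Finset.mem_univ x) hx,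
      Perm.mem_alternatingGroup.1 hv⟩)
  have hxi : ∀ i, i < V.k → Φ (V.ev (V.xi i)) = ψ (V.xi i) := by
    intro i hi
    rw [V.ev_xi hi, hΦc _ (Finset.mem_image_of_mem _ (Finset.mem_range.2 hi))]
    show ψ (V.xi ((2 + i) % (V.k + 2) - 2)) = _
    rw [Nat.mod_eq_of_lt (by omega)]; congr 2; omega
  have hsign : ∀ i, i < V.k → Perm.sign (V.ev (V.xi i)) = 1 := fun i hi => by
    rw [V.ev_xi hi]
    exact sign_cyc (hne _ _ (by omega) (by omega) (by omega)) (hne _ _ (by omega) (by omega) (by omega))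
  have hwords : ∀ v ∈ V.xiWords, Perm.sign (V.ev v) = 1 ∧ ψ v = Φ (V.ev v) := by
    intro v hv
    induction hv using Subgroup.closure_induction with
    | mem y hy =>
      obtain ⟨i, hi, rfl⟩ := hy
      exact ⟨hsign i hi, (hxi i hi).symm⟩
    | one => simp [hA.map_one]
    | mul u v _ _ hu hv' =>
      refine ⟨by simp [hu.1, hv'.1], ?_⟩
      rw [map_mul, map_mul, hA _ (Perm.mem_alternatingGroup.2 hu.1) _
        (Perm.mem_alternatingGroup.2 hv'.1), hu.2, hv'.2]
    | inv u _ hu =>
      exact ⟨by simp [hu.1], by rw [map_inv, map_inv, hA.map_inv (Perm.mem_alternatingGroup.2 hu.1), hu.2]⟩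
  have hwd : ∀ u, Perm.sign u = 1 → ψ (V.wd u) = Φ u := fun u hu => by
    have h := (hwords _ (V.wd_spec hu).1).2
    rwa [(V.wd_spec hu).2] at h
  have hev0 : V.ev (FreeGroup.of 0) = V.ev (V.xi 0) := by simp [xi, sgn]
  have hzΦ : z = Φ (V.ev (FreeGroup.of 0)) := by
    rw [hev0, hxi 0 (by omega), hψxi]; simp [sgn]
  have hevg : V.ev (FreeGroup.of 1) = V.g := by simp [ev]
  have hs := V.sign_g
  have hrest : ∀ r ∈ (if V.alt then [(V.wd V.g)⁻¹ * FreeGroup.of 1]
     else [(V.wd (V.g * V.g))⁻¹ * (FreeGroup.of 1 * FreeGroup.of 1),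
       (V.wd V.wrap)⁻¹ * (FreeGroup.of 1 * V.xi (V.k - 1) * (FreeGroup.of 1)⁻¹)]), ψ r = 1 :=
    fun r hr => hψ r (List.mem_append_right _ hr)
  cases halt : V.alt
  · rw [halt] at hs hrest
    simp only [Bool.false_eq_true, if_false] at hs hrest
    have hg2 : g * g = Φ (V.g * V.g) := by
      have h := hrest _ (List.mem_cons_self ..)
      rw [map_mul, map_inv, map_mul, hwd _ (by simp [hs]), inv_mul_eq_one] at h
      exact h.symm
    have hwrap : g * ψ (V.xi (V.k - 1)) * g⁻¹ = Φ V.wrap := by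
      have h := hrest _ (List.mem_cons_of_mem _ (List.mem_cons_self ..))
      rw [map_mul, map_inv, map_mul, map_mul, map_inv, hwd _ V.sign_wrap, inv_mul_eq_one] at h
      exact h.symm
    have hconj : ∀ u ∈ alternatingGroup (Fin (V.k + 2)), g * Φ u * g⁻¹ = Φ (V.g * u * V.g⁻¹) := by
      intro u hu
      obtain ⟨v, hv, rfl⟩ := V.xiWords_surj hu
      have hm : ∀ x, Perm.sign x = 1 → V.g * x * V.g⁻¹ ∈ alternatingGroup (Fin (V.k + 2)) :=
        fun x hx => Perm.mem_alternatingGroup.2 (by simp [hx])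
      clear hu
      induction hv using Subgroup.closure_induction with
      | mem y hy =>
        obtain ⟨i, hi, rfl⟩ := hy
        rw [hxi i hi]
        rcases Nat.lt_or_ge (i + 1) V.k with h1 | h1
        · have e1 : V.g * V.ev (V.xi i) * V.g⁻¹ = V.ev (FreeGroup.of 1 * V.xi i * (FreeGroup.of 1)⁻¹) := by
            simp [hevg]
          have e2 : FreeGroup.of 1 * V.xi i * (FreeGroup.of 1)⁻¹ =
              if V.flip = true then (V.xi (i + 1))⁻¹ else V.xi (i + 1) := by
            have e : FreeGroup.of (1 : Fin 2) * (FreeGroup.of 1 ^ i * FreeGroup.of 0 * (FreeGroup.of 1 ^ i)⁻¹) *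
                (FreeGroup.of 1)⁻¹ =
                FreeGroup.of 1 ^ (i + 1) * FreeGroup.of 0 * (FreeGroup.of 1 ^ (i + 1))⁻¹ := by
              rw [pow_succ']; group
            unfold xi sgn
            cases hf : V.flip <;>
              simp only [Bool.false_eq_true, false_and, true_and, if_false, if_true]
            · exact e
            · rcases Nat.mod_two_eq_zero_or_one i with h | h
              · simp only [h, show (i + 1) % 2 = 1 by omega, zero_ne_one, if_false, if_true, inv_inv]
                exact e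
              · simp only [h, show (i + 1) % 2 = 0 by omega, zero_ne_one, if_false, if_true]
                rw [← conj_inv, e]
          rw [e1, e2, show g * ψ (V.xi i) * g⁻¹ = ψ (FreeGroup.of 1 * V.xi i * (FreeGroup.of 1)⁻¹) by
            simp [hg], e2]
          split_ifs
          · rw [map_inv, map_inv, hA.map_inv (Perm.mem_alternatingGroup.2 (hsign _ h1)), hxi _ h1]
          · rw [hxi _ h1]
        · obtain rfl : i = V.k - 1 := by omega
          rw [hwrap, wrap]
      | one => simp [hA.map_one]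
      | mul u v hu hv eu ev' =>
        have su := (hwords u hu).1
        have sv := (hwords v hv).1
        rw [map_mul, hA _ (Perm.mem_alternatingGroup.2 su) _ (Perm.mem_alternatingGroup.2 sv),
          ← conj_mul, eu, ev', ← hA _ (hm _ su) _ (hm _ sv), conj_mul]
      | inv u hu eu =>
        have su := (hwords u hu).1
        rw [map_inv, hA.map_inv (Perm.mem_alternatingGroup.2 su), ← conj_inv, eu,
          ← hA.map_inv (hm _ su), conj_inv]
    let Θ : Perm (Fin (V.k + 2)) → P := fun u =>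
      if Perm.sign u = 1 then Φ u else Φ (u * V.g⁻¹) * g
    have hev : ∀ u, Perm.sign u = 1 → Θ u = Φ u := fun u h => if_pos h
    have hod : ∀ u, Perm.sign u = -1 → Θ u = Φ (u * V.g⁻¹) * g :=
      fun u h => if_neg (by rw [h]; decide)
    have mev : ∀ u, Perm.sign u = 1 → u ∈ alternatingGroup (Fin (V.k + 2)) :=
      fun u h => Perm.mem_alternatingGroup.2 h
    have hcomb : ∀ u, Perm.sign u = 1 → g * Φ u = Φ (V.g * u * V.g⁻¹) * g :=
      fun u hu => by rw [← hconj u (mev u hu)]; group
    have hΘ : ∀ u v, Θ (u * v) = Θ u * Θ v := by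
      intro u v
      rcases Int.units_eq_one_or (Perm.sign u) with su | su <;>
        rcases Int.units_eq_one_or (Perm.sign v) with sv | sv
      · rw [hev _ (by simp [su, sv]), hev u su, hev v sv, hA u (mev u su) v (mev v sv)]
      · rw [hod _ (by simp [su, sv]), hev u su, hod v sv, ← mul_assoc,
          ← hA u (mev u su) _ (mev _ (by simp [sv, hs])), mul_assoc u]
      · rw [hod _ (by simp [su, sv]), hod u su, hev v sv, mul_assoc (Φ (u * V.g⁻¹)), hcomb v sv,
          ← mul_assoc, ← hA _ (mev _ (by simp [su, hs])) _ (mev _ (by simp [sv]))]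
        congr 2; group
      · rw [hev _ (by simp [su, sv]), hod u su, hod v sv, mul_assoc, ← mul_assoc g,
          hcomb _ (by simp [sv, hs]), mul_assoc _ g, hg2,
          ← hA _ (mev _ (by simp [sv, hs])) _ (mev _ (by simp [hs])),
          ← hA _ (mev _ (by simp [su, hs])) _ (mev _ (by simp [sv, hs]))]
        congr 1; group
    let Θh : Perm (Fin (V.k + 2)) →* P := MonoidHom.mk' Θ hΘ
    have : ψ = Θh.comp V.ev := by
      ext i
      fin_cases i
      · show z = Θ (V.ev (FreeGroup.of 0))
        rw [hev _ (by rw [hev0]; exact hsign 0 (by omega)), ← hzΦ]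
      · show g = Θ (V.ev (FreeGroup.of 1))
        rw [hevg, hod _ hs, mul_inv_cancel, hA.map_one, one_mul]
    rw [this, MonoidHom.comp_apply, hw, map_one]
  · rw [halt] at hs hrest
    simp only [if_true] at hs hrest
    have hg1 : g = Φ V.g := by
      have h := hrest _ (List.mem_cons_self ..)
      rw [map_mul, map_inv, hwd _ hs, inv_mul_eq_one] at h
      exact h.symm
    have key : ∀ v, Perm.sign (V.ev v) = 1 ∧ ψ v = Φ (V.ev v) := by
      intro v
      induction v using FreeGroup.induction_on with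
      | C1 => simp [hA.map_one]
      | of i =>
        fin_cases i
        · show Perm.sign (V.ev (FreeGroup.of 0)) = 1 ∧ ψ (FreeGroup.of 0) = Φ (V.ev (FreeGroup.of 0))
          exact ⟨by rw [show V.ev (FreeGroup.of (0 : Fin 2)) = V.z from FreeGroup.lift_apply_of]; exact V.sign_z, hzΦ⟩
        · show Perm.sign (V.ev (FreeGroup.of 1)) = 1 ∧ ψ (FreeGroup.of 1) = Φ (V.ev (FreeGroup.of 1))
          exact ⟨by rw [show V.ev (FreeGroup.of (1 : Fin 2)) = V.g from hevg]; exact hs,
            by rw [show V.ev (FreeGroup.of (1 : Fin 2)) = V.g from hevg]; exact hg1⟩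
      | inv_of i h =>
        exact ⟨by simp [h.1], by rw [map_inv, map_inv, hA.map_inv (Perm.mem_alternatingGroup.2 h.1), h.2]⟩
      | mul u v hu hv =>
        refine ⟨by simp [hu.1, hv.1], ?_⟩
        rw [map_mul, map_mul, hA _ (Perm.mem_alternatingGroup.2 hu.1) _
          (Perm.mem_alternatingGroup.2 hv.1), hu.2, hv.2]
    rw [(key w).2, hw, hA.map_one]

end Small

theorem sym_small (n : ℕ) (h3 : 3 ≤ n) :
    ∃ gens : Fin 2 → Perm (Fin n), HasPres n gens := by
  obtain ⟨k, rfl⟩ : ∃ k, n = k + 2 := ⟨n - 2, by omega⟩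
  let V : Small := ⟨k, by omega, false⟩
  refine ⟨![V.z, V.g], hasPres_of_complete _ ?_ V.rels V.rels_length V.model_rels
    (fun P _ ψ hψ w hw => V.complete ψ hψ w hw)⟩
  intro u
  rcases Int.units_eq_one_or (Perm.sign u) with h | h
  · obtain ⟨v, _, hv⟩ := V.xiWords_surj (Perm.mem_alternatingGroup.2 h)
    exact ⟨v, hv⟩
  · have hg : Perm.sign V.g = -1 := V.sign_g
    obtain ⟨v, _, hv⟩ := V.xiWords_surj (Perm.mem_alternatingGroup.2
      (show Perm.sign (u * V.g⁻¹) = 1 by rw [map_mul, map_inv, h, hg]; decide))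
    refine ⟨v * FreeGroup.of 1, ?_⟩
    show V.ev (v * FreeGroup.of 1) = u
    rw [map_mul, hv, show V.ev (FreeGroup.of 1) = V.g from FreeGroup.lift_apply_of,
      inv_mul_cancel_right]

theorem alt_small (n : ℕ) (h3 : 3 ≤ n) :
    ∃ gens : Fin 2 → alternatingGroup (Fin n), HasPres n gens := by
  obtain ⟨k, rfl⟩ : ∃ k, n = k + 2 := ⟨n - 2, by omega⟩
  let V : Small := ⟨k, by omega, true⟩
  have hmem : ∀ i, (![V.z, V.g] i) ∈ alternatingGroup (Fin (k + 2)) := by
    intro i
    fin_cases i
    · exact Perm.mem_alternatingGroup.2 V.sign_z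
    · exact Perm.mem_alternatingGroup.2 V.sign_g
  refine ⟨fun i => ⟨_, hmem i⟩, hasPres_subgroup _ _ ?_ V.rels V.rels_length V.model_rels
    (fun P _ ψ hψ w hw => V.complete ψ hψ w hw)⟩
  intro u hu
  obtain ⟨v, _, hv⟩ := V.xiWords_surj hu
  exact ⟨v, hv⟩

end H24.AltPres
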