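import Mathlib

/-! The star presentation of alternating groups: generators `(α β s)` with relations
`x_s ^ 3` and `(x_s x_t) ^ 2`. Also partial homomorphisms on subgroups of permutations. -/

set_option autoImplicit false

namespace H24.AltPres

open Equiv

set_option linter.unusedSectionVars false

variable {Ω : Type*} [DecidableEq Ω] [Fintype Ω]

/-- The cycle `a → b → s → a`. -/
def cyc (a b s : Ω) : Perm Ω := swap a b * swap b s

theorem cyc_apply_fst {a b s : Ω} (h1 : a ≠ b) (h2 : a ≠ s) : cyc a b s a = b := by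
  simp [cyc, swap_apply_of_ne_of_ne h1 h2]

theorem cyc_apply_snd {a b s : Ω} (h2 : a ≠ s) (h3 : b ≠ s) : cyc a b s b = s := by
  simp [cyc, swap_apply_of_ne_of_ne h2.symm h3.symm]

theorem cyc_apply_trd {a b s : Ω} : cyc a b s s = a := by
  simp [cyc]

theorem cyc_apply_other {a b s x : Ω} (h1 : x ≠ a) (h2 : x ≠ b) (h3 : x ≠ s) :
    cyc a b s x = x := by
  simp [cyc, swap_apply_of_ne_of_ne h2 h3, swap_apply_of_ne_of_ne h1 h2]

theorem sign_cyc {a b s : Ω} (h1 : a ≠ b) (h3 : b ≠ s) : Perm.sign (cyc a b s) = 1 := by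
  simp [cyc, Perm.sign_swap h1, Perm.sign_swap h3]

theorem cyc_pow_three {a b s : Ω} (h1 : a ≠ b) (h2 : a ≠ s) (h3 : b ≠ s) :
    cyc a b s ^ 3 = 1 := by
  ext x
  simp only [pow_succ, pow_zero, one_mul, Perm.mul_apply, Perm.one_apply]
  by_cases ha : x = a
  · subst ha; rw [cyc_apply_fst h1 h2, cyc_apply_snd h2 h3, cyc_apply_trd]
  by_cases hb : x = b
  · subst hb; rw [cyc_apply_snd h2 h3, cyc_apply_trd, cyc_apply_fst h1 h2]
  by_cases hs : x = s
  · subst hs; rw [cyc_apply_trd, cyc_apply_fst h1 h2, cyc_apply_snd h2 h3]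
  simp [cyc_apply_other ha hb hs]

theorem cyc_mul_cyc_sq {a b s t : Ω} (hab : a ≠ b) (has : a ≠ s) (hbs : b ≠ s) (hat : a ≠ t)
    (hbt : b ≠ t) (hst : s ≠ t) : (cyc a b s * cyc a b t) ^ 2 = 1 := by
  have hA : ∀ x, (cyc a b s * cyc a b t) x =
      if x = a then s else if x = s then a else if x = b then t else if x = t then b else x := by
    intro x
    rw [Perm.mul_apply]
    by_cases ha : x = a
    · subst ha; rw [cyc_apply_fst hab hat, cyc_apply_snd has hbs, if_pos rfl]
    by_cases hb : x = b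
    · subst hb
      rw [cyc_apply_snd hat hbt, cyc_apply_other hat.symm hbt.symm hst.symm, if_neg ha,
        if_neg hbs, if_pos rfl]
    by_cases hs : x = s
    · subst hs; rw [cyc_apply_other ha hb hst, cyc_apply_trd, if_neg ha, if_pos rfl]
    by_cases ht : x = t
    · subst ht; rw [cyc_apply_trd, cyc_apply_fst hab has, if_neg ha, if_neg hs, if_neg hb, if_pos rfl]
    rw [cyc_apply_other ha hb ht, cyc_apply_other ha hb hs, if_neg ha, if_neg hs, if_neg hb, if_neg ht]
  refine Equiv.ext fun x => ?_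
  rw [pow_two, Perm.mul_apply, hA, hA x, Perm.one_apply]
  by_cases ha : x = a
  · subst ha; simp [has.symm]
  by_cases hs : x = s
  · subst hs; simp [ha]
  by_cases hb : x = b
  · subst hb; simp [ha, hs, hat.symm, hst.symm, hbt.symm]
  by_cases ht : x = t
  · subst ht; simp [ha, hs, hb, hab.symm, hbs]
  simp [ha, hs, hb, ht]

section Kernel

variable {K : Type*} [Group K]

/-- The cosets of the stabiliser in the star presentation. -/
theorem star_coset (π : K →* Perm Ω) (a b : Ω) (hab : a ≠ b) (ξ : Ω → K) (S : Finset Ω) (k : Ω)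
    (hk : k ∉ S) (hka : a ≠ k) (hkb : b ≠ k) (ha : a ∉ S) (hb : b ∉ S)
    (hπ : ∀ s ∈ insert k S, π (ξ s) = cyc a b s)
    (hcube : ∀ s ∈ insert k S, ξ s ^ 3 = 1)
    (hsq : ∀ s ∈ insert k S, ∀ t ∈ insert k S, s ≠ t → (ξ s * ξ t) ^ 2 = 1)
    (x : K) (hx : x ∈ Subgroup.closure (ξ '' ((insert k S : Finset Ω) : Set Ω)))
    (hfix : π x k = k) : x ∈ Subgroup.closure (ξ '' (S : Set Ω)) := by
  classical
  set H := Subgroup.closure (ξ '' (S : Set Ω)) with hHdef
  have hξH : ∀ s ∈ S, ξ s ∈ H := fun s hs => Subgroup.subset_closure ⟨s, hs, rfl⟩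
  have hHfix : ∀ h ∈ H, π h k = k := by
    intro h hh
    induction hh using Subgroup.closure_induction with
    | mem y hy =>
      obtain ⟨s, hs, rfl⟩ := hy
      have hs' : s ∈ S := hs
      rw [hπ s (Finset.mem_insert_of_mem hs'),
        cyc_apply_other hka.symm hkb.symm (fun h => hk (h ▸ hs'))]
    | one => simp
    | mul u v _ _ hu hv => rw [map_mul, Perm.mul_apply, hv, hu]
    | inv u _ hu => rw [map_inv, Perm.inv_def, Equiv.symm_apply_eq, hu]
  have hinv : ∀ s ∈ insert k S, (ξ s)⁻¹ = ξ s * ξ s := by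
    intro s hs
    rw [inv_eq_iff_mul_eq_one, ← mul_assoc]
    simpa [pow_succ] using hcube s hs
  have hflip : ∀ s ∈ insert k S, ∀ t ∈ insert k S, s ≠ t →
      ξ s * ξ t = (ξ t)⁻¹ * (ξ s)⁻¹ := by
    intro s hs t ht hst
    have h := hsq s hs t ht hst
    rw [pow_two, mul_eq_one_iff_eq_inv, mul_inv_rev] at h
    exact h
  have hkm : k ∈ insert k S := Finset.mem_insert_self k S
  have hswap : ∀ i ∈ S, ξ k * ξ i * ξ k = (ξ i)⁻¹ := by
    intro i hi
    rw [hflip k hkm i (Finset.mem_insert_of_mem hi) (fun h => hk (h ▸ hi))]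
    simp
  set ρ : Ω → K := fun p => if p = k then 1 else if p = a then ξ k else
    if p = b then ξ k * ξ k else ξ p * (ξ k * ξ k) with hρ
  let C : Set K := {y | ∃ p, (p = k ∨ p = a ∨ p = b ∨ p ∈ S) ∧ ∃ h ∈ H, y = ρ p * h}
  have hρk : ρ k = 1 := if_pos rfl
  have hρa : ρ a = ξ k := by simp [hρ, hka]
  have hρb : ρ b = ξ k * ξ k := by simp [hρ, hkb, hab.symm]
  have hρs : ∀ i ∈ S, ρ i = ξ i * (ξ k * ξ k) := by
    intro i hi
    have h1 : i ≠ k := fun h => hk (h ▸ hi)
    have h2 : i ≠ a := fun h => ha (h ▸ hi)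
    have h3 : i ≠ b := fun h => hb (h ▸ hi)
    simp [hρ, h1, h2, h3]
  -- the image of `k`
  have hπρ : ∀ p, (p = k ∨ p = a ∨ p = b ∨ p ∈ S) → π (ρ p) k = p := by
    rintro p (rfl | rfl | rfl | hp)
    · simp [hρk]
    · rw [hρa, hπ k hkm, cyc_apply_trd]
    · rw [hρb, map_mul, Perm.mul_apply, hπ k hkm, cyc_apply_trd, cyc_apply_fst hab hka]
    · rw [hρs p hp, map_mul, map_mul, Perm.mul_apply, Perm.mul_apply, hπ k hkm, cyc_apply_trd,
        cyc_apply_fst hab hka, hπ p (Finset.mem_insert_of_mem hp),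
        cyc_apply_snd (ne_of_mem_of_not_mem hp ha).symm (ne_of_mem_of_not_mem hp hb).symm]
  -- closed under the generators
  have hcl : ∀ i ∈ insert k S, ∀ y ∈ C, ξ i * y ∈ C := by
    rintro i hi y ⟨p, hp, h, hh, rfl⟩
    by_cases hik : i = k
    · subst hik
      rcases hp with rfl | rfl | rfl | hp
      · exact ⟨a, Or.inr (Or.inl rfl), h, hh, by rw [hρk, hρa, one_mul]⟩
      · exact ⟨b, Or.inr (Or.inr (Or.inl rfl)), h, hh, by rw [hρa, hρb, mul_assoc]⟩
      · refine ⟨i, Or.inl rfl, h, hh, ?_⟩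
        rw [hρb, hρk, one_mul, ← mul_assoc, ← mul_assoc]
        rw [show ξ i * ξ i * ξ i = 1 by simpa [pow_succ] using hcube i hkm, one_mul]
      · have hpm := Finset.mem_insert_of_mem (b := i) hp
        have hpk : p ≠ i := fun h => hk (h ▸ hp)
        refine ⟨p, Or.inr (Or.inr (Or.inr hp)), (ξ p)⁻¹ * h,
          H.mul_mem (H.inv_mem (hξH p hp)) hh, ?_⟩
        rw [hρs p hp]
        calc ξ i * (ξ p * (ξ i * ξ i) * h) = ξ i * ξ p * ξ i * ξ i * h := by simp only [mul_assoc]
          _ = ξ p * (ξ p * ξ i) * h := by rw [hswap p hp, hinv p hpm]; simp only [mul_assoc]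
          _ = ξ p * ((ξ i)⁻¹ * (ξ p)⁻¹) * h := by rw [hflip p hpm i hkm hpk]
          _ = ξ p * (ξ i * ξ i) * ((ξ p)⁻¹ * h) := by rw [hinv i hkm]; simp only [mul_assoc]
    · have hiS : i ∈ S := Finset.mem_of_mem_insert_of_ne hi hik
      rcases hp with rfl | rfl | rfl | hp
      · exact ⟨p, Or.inl rfl, ξ i * h, H.mul_mem (hξH i hiS) hh, by rw [hρk, one_mul, one_mul]⟩
      · refine ⟨b, Or.inr (Or.inr (Or.inl rfl)), (ξ i)⁻¹ * h,
          H.mul_mem (H.inv_mem (hξH i hiS)) hh, ?_⟩
        rw [hρa, hρb, ← mul_assoc, hflip i hi k hkm hik, hinv k hkm, mul_assoc]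
      · refine ⟨i, Or.inr (Or.inr (Or.inr hiS)), h, hh, ?_⟩
        rw [hρb, hρs i hiS]; simp only [mul_assoc]
      · rw [hρs p hp]
        by_cases hip : i = p
        · subst hip
          refine ⟨a, Or.inr (Or.inl rfl), ξ i * h, H.mul_mem (hξH i hp) hh, ?_⟩
          rw [hρa, ← mul_assoc (ξ k), hflip k hkm i hi (Ne.symm hik), hinv k hkm, hinv i hi]
          simp only [mul_assoc]
        · have hpm := Finset.mem_insert_of_mem (b := k) hp
          have hpk : p ≠ k := fun h => hk (h ▸ hp)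
          refine ⟨p, Or.inr (Or.inr (Or.inr hp)), (ξ p)⁻¹ * (ξ i * h),
            H.mul_mem (H.inv_mem (hξH p hp)) (H.mul_mem (hξH i hiS) hh), ?_⟩
          rw [hρs p hp]
          calc ξ i * (ξ p * (ξ k * ξ k) * h) = ξ i * ξ p * (ξ k)⁻¹ * h := by
                rw [hinv k hkm]; simp only [mul_assoc]
            _ = (ξ p)⁻¹ * ((ξ i)⁻¹ * (ξ k)⁻¹) * h := by
                rw [hflip i hi p hpm hip]; simp only [mul_assoc]
            _ = (ξ p)⁻¹ * (ξ k * ξ i) * h := by rw [hflip k hkm i hi (Ne.symm hik)]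
            _ = ξ p * (ξ p * ξ k) * ξ i * h := by rw [hinv p hpm]; simp only [mul_assoc]
            _ = ξ p * ((ξ k)⁻¹ * (ξ p)⁻¹) * ξ i * h := by rw [hflip p hpm k hkm hpk]
            _ = ξ p * (ξ k * ξ k) * ((ξ p)⁻¹ * (ξ i * h)) := by
                rw [hinv k hkm]; simp only [mul_assoc]
  have hall : x ∈ C := by
    clear hfix
    induction hx using Subgroup.closure_induction_left with
    | one => exact ⟨k, Or.inl rfl, 1, H.one_mem, by rw [hρk, one_mul]⟩
    | mul_left g hg y _ hy =>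
      obtain ⟨i, hi, rfl⟩ := hg
      exact hcl i hi y hy
    | inv_mul_cancel g hg y _ hy =>
      obtain ⟨i, hi, rfl⟩ := hg
      rw [hinv i hi, mul_assoc]
      exact hcl i hi _ (hcl i hi y hy)
  obtain ⟨p, hp, h, hh, rfl⟩ := hall
  have hpk : p = k := by
    rw [map_mul, Perm.mul_apply, hHfix h hh, hπρ p hp] at hfix
    exact hfix
  subst hpk
  rw [hρk, one_mul]
  exact hh

/-- An element of the star group with trivial permutation image is trivial. -/
theorem star_kernel (π : K →* Perm Ω) (a b : Ω) (hab : a ≠ b) (ξ : Ω → K) (S : Finset Ω)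
    (ha : a ∉ S) (hb : b ∉ S) (hπ : ∀ s ∈ S, π (ξ s) = cyc a b s)
    (hcube : ∀ s ∈ S, ξ s ^ 3 = 1) (hsq : ∀ s ∈ S, ∀ t ∈ S, s ≠ t → (ξ s * ξ t) ^ 2 = 1) :
    ∀ x ∈ Subgroup.closure (ξ '' (S : Set Ω)), π x = 1 → x = 1 := by
  classical
  induction S using Finset.induction with
  | empty => intro x hx _; simpa using hx
  | insert k S hk ih =>
    intro x hx hx1
    rw [Finset.mem_insert, not_or] at ha hb
    refine ih ha.2 hb.2 (fun s hs => hπ s (Finset.mem_insert_of_mem hs))
      (fun s hs => hcube s (Finset.mem_insert_of_mem hs))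
      (fun s hs t ht => hsq s (Finset.mem_insert_of_mem hs) t (Finset.mem_insert_of_mem ht)) x ?_ hx1
    exact star_coset π a b hab ξ S k hk ha.1 hb.1 ha.2 hb.2 hπ hcube hsq x hx (by rw [hx1]; rfl)

end Kernel

/-- The permutations supported on `D`. -/
def suppIn (D : Finset Ω) : Subgroup (Perm Ω) where
  carrier := {g | ∀ x, x ∉ D → g x = x}
  one_mem' := fun _ _ => rfl
  mul_mem' {g h} hg hh := fun x hx => by rw [Perm.mul_apply, hh x hx, hg x hx]
  inv_mem' {g} hg := fun x hx => by rw [Perm.inv_def, Equiv.symm_apply_eq, hg x hx]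

/-- The even permutations supported on `D`. -/
def evenIn (D : Finset Ω) : Subgroup (Perm Ω) := suppIn D ⊓ alternatingGroup Ω

theorem mem_suppIn {D : Finset Ω} {g : Perm Ω} : g ∈ suppIn D ↔ ∀ x, x ∉ D → g x = x := Iff.rfl

theorem mem_evenIn {D : Finset Ω} {g : Perm Ω} :
    g ∈ evenIn D ↔ (∀ x, x ∉ D → g x = x) ∧ Perm.sign g = 1 := by
  simp [evenIn, mem_suppIn, Perm.mem_alternatingGroup]

theorem suppIn_mono {D E : Finset Ω} (h : D ⊆ E) : suppIn D ≤ suppIn E :=
  fun _ hg x hx => hg x (fun hx' => hx (h hx'))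

theorem evenIn_mono {D E : Finset Ω} (h : D ⊆ E) : evenIn D ≤ evenIn E :=
  inf_le_inf_right _ (suppIn_mono h)

theorem cyc_mem_evenIn {D : Finset Ω} {a b s : Ω} (hab : a ≠ b) (hbs : b ≠ s) (ha : a ∈ D)
    (hb : b ∈ D) (hs : s ∈ D) : cyc a b s ∈ evenIn D :=
  mem_evenIn.2 ⟨fun _ hx => cyc_apply_other (ne_of_mem_of_not_mem ha hx).symm
    (ne_of_mem_of_not_mem hb hx).symm (ne_of_mem_of_not_mem hs hx).symm, sign_cyc hab hbs⟩

theorem conj_mem_evenIn {D E : Finset Ω} {g c : Perm Ω} (hg : g ∈ evenIn D)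
    (hc : ∀ x ∈ D, c x ∈ E) : c * g * c⁻¹ ∈ evenIn E := by
  rw [mem_evenIn] at hg ⊢
  refine ⟨fun x hx => ?_, ?_⟩
  · have h1 : c⁻¹ x ∉ D := fun h => hx (by simpa using hc _ h)
    rw [Perm.mul_apply, Perm.mul_apply, hg.1 _ h1]
    simp
  · simp [hg.2]

theorem conj_mem_suppIn {D E : Finset Ω} {g c : Perm Ω} (hg : g ∈ suppIn D)
    (hc : ∀ x ∈ D, c x ∈ E) : c * g * c⁻¹ ∈ suppIn E := by
  intro x hx
  have h1 : c⁻¹ x ∉ D := fun h => hx (by simpa using hc _ h)
  rw [Perm.mul_apply, Perm.mul_apply, hg _ h1]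
  simp

/-- Even permutations on `D` are generated by the 3-cycles `(a b s)`. -/
theorem evenIn_le_closure (a b : Ω) (hab : a ≠ b) (S : Finset Ω) (ha : a ∉ S) (hb : b ∉ S) :
    evenIn (insert a (insert b S)) ≤ Subgroup.closure (cyc a b '' (S : Set Ω)) := by
  classical
  induction S using Finset.induction with
  | empty =>
    intro g hg
    rw [mem_evenIn] at hg
    have hcase : ∀ x, x = a ∨ x = b → g x = a ∨ g x = b := by
      intro x hx
      by_contra h
      push Not at h
      have h2 := hg.1 (g x) (by simp [h.1, h.2])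
      rcases hx with rfl | rfl
      · exact h.1 (g.injective h2)
      · exact h.2 (g.injective h2)
    rcases hcase a (Or.inl rfl) with h1 | h1
    · have hg1 : g = 1 := by
        ext x
        by_cases hxa : x = a
        · subst hxa; exact h1
        by_cases hxb : x = b
        · subst hxb
          rcases hcase x (Or.inr rfl) with h2 | h2
          · exact absurd (g.injective (h1.trans h2.symm)) hab
          · exact h2
        exact hg.1 x (by simp [hxa, hxb])
      rw [hg1]; exact one_mem _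
    · exfalso
      have hg1 : g = swap a b := by
        ext x
        by_cases hxa : x = a
        · subst hxa; rw [swap_apply_left]; exact h1
        by_cases hxb : x = b
        · subst hxb
          rw [swap_apply_right]
          rcases hcase x (Or.inr rfl) with h2 | h2
          · exact h2
          · exact absurd (g.injective (h1.trans h2.symm)) hab
        rw [swap_apply_of_ne_of_ne hxa hxb]
        exact hg.1 x (by simp [hxa, hxb])
      have := hg.2
      rw [hg1, Perm.sign_swap hab] at this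
      exact absurd this (by decide)
  | insert k S hk ih =>
    rw [Finset.mem_insert, not_or] at ha hb
    intro g hg
    set T := Subgroup.closure (cyc a b '' ((insert k S : Finset Ω) : Set Ω))
    set D := insert a (insert b S) with hD
    have hle : Subgroup.closure (cyc a b '' (S : Set Ω)) ≤ T :=
      Subgroup.closure_mono (Set.image_mono (by simp))
    have hgen : ∀ i ∈ insert k S, cyc a b i ∈ T := fun i hi =>
      Subgroup.subset_closure ⟨i, hi, rfl⟩
    have hD' : insert a (insert b (insert k S)) = insert k D := by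
      ext x; simp [hD]; tauto
    rw [hD', mem_evenIn] at hg
    have hp : g k ∈ insert k D := by
      by_contra h
      exact h (by rw [g.injective (hg.1 (g k) h)]; exact Finset.mem_insert_self k D)
    -- a representative with the same image of `k`
    obtain ⟨r, hr, hrfix, hrk⟩ : ∃ r ∈ T, (∀ x, x ∉ insert k D → r x = x) ∧ r k = g k := by
      have hcy : ∀ i ∈ insert k S, ∀ x, x ∉ insert k D → cyc a b i x = x := by
        intro i hi x hx
        simp only [hD, Finset.mem_insert, not_or] at hx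
        refine cyc_apply_other hx.2.1 hx.2.2.1 ?_
        rcases Finset.mem_insert.1 hi with rfl | hi
        · exact hx.1
        · exact (ne_of_mem_of_not_mem hi hx.2.2.2).symm
      have hkm : k ∈ insert k S := Finset.mem_insert_self k S
      simp only [hD, Finset.mem_insert] at hp
      rcases hp with hp | hp | hp | hp
      · exact ⟨1, one_mem _, fun _ _ => rfl, hp.symm⟩
      · exact ⟨cyc a b k, hgen k hkm, hcy k hkm, by rw [cyc_apply_trd, hp]⟩
      · refine ⟨cyc a b k * cyc a b k, mul_mem (hgen k hkm) (hgen k hkm), fun x hx => ?_, ?_⟩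
        · rw [Perm.mul_apply, hcy k hkm x hx, hcy k hkm x hx]
        · rw [Perm.mul_apply, cyc_apply_trd, cyc_apply_fst hab ha.1, hp]
      · have hi : g k ∈ insert k S := Finset.mem_insert_of_mem hp
        refine ⟨cyc a b (g k) * (cyc a b k * cyc a b k),
          mul_mem (hgen _ hi) (mul_mem (hgen k hkm) (hgen k hkm)), fun x hx => ?_, ?_⟩
        · rw [Perm.mul_apply, Perm.mul_apply, hcy k hkm x hx, hcy k hkm x hx, hcy _ hi x hx]
        · rw [Perm.mul_apply, Perm.mul_apply, cyc_apply_trd,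
            cyc_apply_fst hab ha.1, cyc_apply_snd (ne_of_mem_of_not_mem hp ha.2).symm
              (ne_of_mem_of_not_mem hp hb.2).symm]
    have hsign : ∀ r ∈ T, Perm.sign r = 1 := by
      intro r hr
      induction hr using Subgroup.closure_induction with
      | mem y hy =>
        obtain ⟨i, hi, rfl⟩ := hy
        refine sign_cyc hab ?_
        rcases Finset.mem_insert.1 (hi : i ∈ insert k S) with rfl | hi'
        · exact hb.1
        · exact (ne_of_mem_of_not_mem hi' hb.2).symm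
      | one => simp
      | mul u v _ _ hu hv => simp [hu, hv]
      | inv u _ hu => simp [hu]
    have hmem : r⁻¹ * g ∈ evenIn D := by
      refine mem_evenIn.2 ⟨fun x hx => ?_, by simp [hsign r hr, hg.2]⟩
      rw [Perm.mul_apply, Perm.inv_def, Equiv.symm_apply_eq]
      by_cases hxk : x = k
      · subst hxk; exact hrk.symm
      · have hx' : x ∉ insert k D := by simp [hxk, hx]
        rw [hg.1 x hx', hrfix x hx']
    have := mul_mem hr (hle (ih ha.2 hb.2 hmem))
    rwa [mul_inv_cancel_left] at this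

/-- `Φ` is multiplicative on the subgroup `H`. -/
def HomOn {G P : Type*} [Group G] [Group P] (H : Subgroup G) (Φ : G → P) : Prop :=
  ∀ g ∈ H, ∀ h ∈ H, Φ (g * h) = Φ g * Φ h

namespace HomOn

variable {G P : Type*} [Group G] [Group P] {H : Subgroup G} {Φ : G → P}

theorem map_one (h : HomOn H Φ) : Φ 1 = 1 := by
  have := h 1 (one_mem H) 1 (one_mem H)
  simpa using this

theorem map_inv (h : HomOn H Φ) {g : G} (hg : g ∈ H) : Φ g⁻¹ = (Φ g)⁻¹ := by
  apply eq_inv_of_mul_eq_one_left
  rw [← h g⁻¹ (inv_mem hg) g hg, inv_mul_cancel, h.map_one]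

theorem map_pow (h : HomOn H Φ) {g : G} (hg : g ∈ H) (k : ℕ) : Φ (g ^ k) = Φ g ^ k := by
  induction k with
  | zero => simp [h.map_one]
  | succ k ih => rw [pow_succ, h _ (pow_mem hg k) g hg, ih, pow_succ]

theorem mono (h : HomOn H Φ) {L : Subgroup G} (hL : L ≤ H) : HomOn L Φ :=
  fun g hg k hk => h g (hL hg) k (hL hk)

theorem eq_of_closure {Ψ : G → P} (s : Set G) (hΦ : HomOn (Subgroup.closure s) Φ)
    (hΨ : HomOn (Subgroup.closure s) Ψ) (heq : ∀ g ∈ s, Φ g = Ψ g) :
    ∀ g ∈ Subgroup.closure s, Φ g = Ψ g := by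
  intro g hg
  induction hg using Subgroup.closure_induction with
  | mem y hy => exact heq y hy
  | one => rw [hΦ.map_one, hΨ.map_one]
  | mul u v hu hv eu ev => rw [hΦ u hu v hv, hΨ u hu v hv, eu, ev]
  | inv u hu eu => rw [hΦ.map_inv hu, hΨ.map_inv hu, eu]

theorem range_le (h : HomOn H Φ) (s : Set G) (hs : s ⊆ H) (L : Subgroup P)
    (hL : ∀ g ∈ s, Φ g ∈ L) : ∀ g ∈ Subgroup.closure s, Φ g ∈ L := by
  intro g hg
  have hle : Subgroup.closure s ≤ H := (Subgroup.closure_le H).2 hs
  induction hg using Subgroup.closure_induction with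
  | mem y hy => exact hL y hy
  | one => rw [h.map_one]; exact one_mem L
  | mul u v hu hv eu ev => rw [h u (hle hu) v (hle hv)]; exact mul_mem eu ev
  | inv u hu eu => rw [h.map_inv (hle hu)]; exact inv_mem eu

end HomOn

/-- **Carmichael's theorem**: elements satisfying the star relations define a homomorphism on
the even permutations. -/
theorem star_hom {P : Type*} [Group P] (a b : Ω) (hab : a ≠ b) (S : Finset Ω) (ha : a ∉ S)
    (hb : b ∉ S) (ξ : Ω → P) (hcube : ∀ s ∈ S, ξ s ^ 3 = 1)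
    (hsq : ∀ s ∈ S, ∀ t ∈ S, s ≠ t → (ξ s * ξ t) ^ 2 = 1) :
    ∃ Φ : Perm Ω → P, HomOn (evenIn (insert a (insert b S))) Φ ∧
      ∀ s ∈ S, Φ (cyc a b s) = ξ s := by
  classical
  let ξ' : Ω → Perm Ω × P := fun s => (cyc a b s, ξ s)
  set K := Subgroup.closure (ξ' '' (S : Set Ω)) with hK
  have hns : ∀ s ∈ S, a ≠ s ∧ b ≠ s := fun s hs =>
    ⟨fun h => ha (h ▸ hs), fun h => hb (h ▸ hs)⟩
  have hker : ∀ x ∈ K, x.1 = 1 → x = 1 :=
    star_kernel (MonoidHom.fst (Perm Ω) P) a b hab ξ' S ha hb (fun _ _ => rfl)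
      (fun s hs => Prod.ext (cyc_pow_three hab (hns s hs).1 (hns s hs).2) (hcube s hs))
      (fun s hs t ht hst => Prod.ext
        (cyc_mul_cyc_sq hab (hns s hs).1 (hns s hs).2 (hns t ht).1 (hns t ht).2 hst)
        (hsq s hs t ht hst))
  have hsurj : ∀ g ∈ evenIn (insert a (insert b S)), ∃ y, (g, y) ∈ K := by
    intro g hg
    have hg' := evenIn_le_closure a b hab S ha hb hg
    induction hg' using Subgroup.closure_induction with
    | mem x hx =>
      obtain ⟨s, hs, rfl⟩ := hx
      exact ⟨ξ s, Subgroup.subset_closure ⟨s, hs, rfl⟩⟩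
    | one => exact ⟨1, K.one_mem⟩
    | mul u v hu hv eu ev =>
      have hev : ∀ w ∈ Subgroup.closure (cyc a b '' (S : Set Ω)),
          w ∈ evenIn (insert a (insert b S)) := by
        refine (Subgroup.closure_le _).2 ?_
        rintro _ ⟨s, hs, rfl⟩
        exact cyc_mem_evenIn hab (hns s hs).2 (by simp) (by simp) (by simp [Finset.mem_coe.1 hs])
      obtain ⟨y, hy⟩ := eu (hev u hu)
      obtain ⟨z, hz⟩ := ev (hev v hv)
      exact ⟨y * z, K.mul_mem hy hz⟩
    | inv u hu eu =>
      obtain ⟨y, hy⟩ := eu (inv_mem_iff.1 hg)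
      exact ⟨y⁻¹, K.inv_mem hy⟩
  let Φ : Perm Ω → P := fun g => if h : ∃ y, (g, y) ∈ K then h.choose else 1
  have hΦ : ∀ g y, (g, y) ∈ K → Φ g = y := by
    intro g y hy
    have h : ∃ y, (g, y) ∈ K := ⟨y, hy⟩
    simp only [Φ, dif_pos h]
    have h1 := hker _ (K.mul_mem (K.inv_mem hy) h.choose_spec) (by simp)
    exact (eq_of_inv_mul_eq_one (congrArg Prod.snd h1)).symm
  refine ⟨Φ, fun g hg h hh => ?_, fun s hs => hΦ _ _ (Subgroup.subset_closure ⟨s, hs, rfl⟩)⟩
  obtain ⟨y, hy⟩ := hsurj g hg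
  obtain ⟨z, hz⟩ := hsurj h hh
  rw [hΦ g y hy, hΦ h z hz]
  exact hΦ _ _ (K.mul_mem hy hz)

end H24.AltPres
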