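import Cfsg.Agent.H24.AltChain

/-! Overlapping windows moved around by a cycle. -/

set_option autoImplicit false
set_option linter.unusedSectionVars false

namespace H24.AltPres

open Equiv

variable {Ω : Type*} [DecidableEq Ω] [Fintype Ω]

/-- The consecutive 3-cycles generate the even permutations of an initial segment. -/
theorem evenIn_le_tri (n : ℕ) (e : ℕ → Ω) (he : Set.InjOn e (Set.Iio n)) :
    ∀ l, 3 ≤ l → l ≤ n → evenIn ((Finset.range l).image e) ≤
      Subgroup.closure (tri e '' {i | i + 3 ≤ l}) := by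
  classical
  have hne : ∀ i j, i < n → j < n → i ≠ j → e i ≠ e j := fun i j hi hj h hc => h (he hi hj hc)
  intro l hl3
  induction l, hl3 using Nat.le_induction with
  | base =>
    intro hn
    have hS : insert (e 0) (insert (e 1) ({e 2} : Finset Ω)) = (Finset.range 3).image e := by
      ext x; simp [Finset.range_add_one]; tauto
    rw [← hS]
    refine (evenIn_le_closure (e 0) (e 1) (hne _ _ (by omega) (by omega) (by omega)) {e 2}
      (by simpa using hne 0 2 (by omega) (by omega) (by omega))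
      (by simpa using hne 1 2 (by omega) (by omega) (by omega))).trans
      ((Subgroup.closure_le _).2 ?_)
    rintro _ ⟨x, hx, rfl⟩
    obtain rfl : x = e 2 := by simpa using hx
    exact Subgroup.subset_closure ⟨0, by simp, rfl⟩
  | succ l hl ih =>
    intro hn
    set a := e (l - 2) with haDef
    set b := e (l - 1) with hbDef
    set S0 := (Finset.range (l - 2)).image e with hS0
    have hnot : ∀ k, l - 2 ≤ k → k < n → e k ∉ S0 := by
      intro k hk hkn h
      obtain ⟨i, hi, hik⟩ := Finset.mem_image.1 h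
      rw [Finset.mem_range] at hi
      exact hne i k (by omega) hkn (by omega) hik
    have hD : insert a (insert b (insert (e l) S0)) = (Finset.range (l + 1)).image e := by
      obtain ⟨L, rfl⟩ : ∃ L, l = L + 2 := ⟨l - 2, by omega⟩
      ext x; simp [haDef, hbDef, hS0, Finset.range_add_one]; tauto
    rw [← hD]
    refine (evenIn_le_closure a b (hne _ _ (by omega) (by omega) (by omega)) _
      (by simp [hnot (l - 2) le_rfl (by omega), haDef, hne (l - 2) l (by omega) (by omega) (by omega)])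
      (by simp [hnot (l - 1) (by omega) (by omega), hbDef,
        hne (l - 1) l (by omega) (by omega) (by omega)])).trans
      ((Subgroup.closure_le _).2 ?_)
    rintro _ ⟨x, hx, rfl⟩
    rcases Finset.mem_insert.1 (Finset.mem_coe.1 hx) with rfl | hx0
    · refine Subgroup.subset_closure ⟨l - 2, by simp only [Set.mem_ofPred_eq]; omega, ?_⟩
      rw [tri, show l - 2 + 1 = l - 1 by omega, show l - 2 + 2 = l by omega]
    · refine Subgroup.closure_mono (Set.image_mono (fun i hi => ?_)) (ih (by omega) ?_)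
      · simp only [Set.mem_ofPred_eq] at hi ⊢; omega
      · obtain ⟨i, hi, rfl⟩ := Finset.mem_image.1 hx0
        rw [Finset.mem_range] at hi
        exact cyc_mem_evenIn (hne _ _ (by omega) (by omega) (by omega))
          (hne _ _ (by omega) (by omega) (by omega))
          (Finset.mem_image_of_mem e (Finset.mem_range.2 (by omega)))
          (Finset.mem_image_of_mem e (Finset.mem_range.2 (by omega)))
          (Finset.mem_image_of_mem e (Finset.mem_range.2 (by omega)))

theorem tri_mem_evenIn {n : ℕ} {e : ℕ → Ω} (he : Set.InjOn e (Set.Iio n)) {i l : ℕ}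
    (hi : i + 3 ≤ l) (hl : l ≤ n) : tri e i ∈ evenIn ((Finset.range l).image e) := by
  refine cyc_mem_evenIn (fun h => ?_) (fun h => ?_)
    (Finset.mem_image_of_mem e (Finset.mem_range.2 (by omega)))
    (Finset.mem_image_of_mem e (Finset.mem_range.2 (by omega)))
    (Finset.mem_image_of_mem e (Finset.mem_range.2 (by omega)))
  · have := he (Set.mem_Iio.2 (by omega)) (Set.mem_Iio.2 (by omega)) h; omega
  · have := he (Set.mem_Iio.2 (by omega)) (Set.mem_Iio.2 (by omega)) h; omega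

theorem tri_cube {n : ℕ} {e : ℕ → Ω} (he : Set.InjOn e (Set.Iio n)) {i : ℕ} (hi : i + 3 ≤ n) :
    tri e i ^ 3 = 1 := by
  refine cyc_pow_three ?_ ?_ ?_ <;>
  · intro h; have := he (Set.mem_Iio.2 (by omega)) (Set.mem_Iio.2 (by omega)) h; omega

theorem tri_sq {n : ℕ} {e : ℕ → Ω} (he : Set.InjOn e (Set.Iio n)) {i : ℕ} (hi : i + 3 < n) :
    (tri e i * tri e (i + 1)) ^ 2 = 1 := by
  have hne : ∀ i j, i < n → j < n → i ≠ j → e i ≠ e j := fun i j hi hj h hc => h (he hi hj hc)
  have h1 : tri e i = cyc (e (i + 1)) (e (i + 2)) (e i) :=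
    (cyc_rotate (hne _ _ (by omega) (by omega) (by omega)) (hne _ _ (by omega) (by omega) (by omega))
      (hne _ _ (by omega) (by omega) (by omega))).symm
  rw [h1, tri, show i + 1 + 1 = i + 2 by omega, show i + 1 + 2 = i + 3 by omega]
  exact cyc_mul_cyc_sq (hne _ _ (by omega) (by omega) (by omega))
    (hne _ _ (by omega) (by omega) (by omega)) (hne _ _ (by omega) (by omega) (by omega))
    (hne _ _ (by omega) (by omega) (by omega)) (hne _ _ (by omega) (by omega) (by omega))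
    (hne _ _ (by omega) (by omega) (by omega))

theorem tri_commute {n : ℕ} {e : ℕ → Ω} (he : Set.InjOn e (Set.Iio n)) {i j : ℕ} (hij : i + 3 ≤ j)
    (hj : j + 3 ≤ n) : Commute (tri e i) (tri e j) := by
  have hne : ∀ i j, i < n → j < n → i ≠ j → e i ≠ e j := fun i j hi hj h hc => h (he hi hj hc)
  refine (Equiv.Perm.Disjoint.commute ?_)
  intro x
  by_cases hx : x = e i ∨ x = e (i + 1) ∨ x = e (i + 2)
  · refine Or.inr (cyc_apply_other ?_ ?_ ?_) <;>
      rcases hx with rfl | rfl | rfl <;> exact hne _ _ (by omega) (by omega) (by omega)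
  · push Not at hx
    exact Or.inl (cyc_apply_other hx.1 hx.2.1 hx.2.2)

/-- A family of overlapping windows. -/
structure WinSys (Ω : Type*) [DecidableEq Ω] [Fintype Ω] (P : Type*) [Group P] where
  n : ℕ
  N : ℕ
  f : ℕ
  e : ℕ → Ω
  c0 : Perm Ω
  c : P
  L : Subgroup (Perm Ω)
  Φ : Perm Ω → P
  hN5 : 5 ≤ N
  hNn : N ≤ n
  hf : f ≤ 1
  hrange : n + f + 4 < 2 * N
  he : Set.InjOn e (Set.Iio n)
  hfix : ∀ i, i < f → c0 (e i) = e i
  hstep : ∀ i, f ≤ i → i + 1 < n → c0 (e i) = e (i + 1)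
  hc0 : c0 ^ (n - f) = 1
  hc : c ^ (n - f) = 1
  halt : alternatingGroup Ω ≤ L
  hnorm : ∀ g ∈ L, c0 * g * c0⁻¹ ∈ L
  hΦ : HomOn (suppIn ((Finset.range N).image e) ⊓ L) Φ
  hshift : ∀ g ∈ suppIn ((Finset.range (N - 1)).image e) ⊓ L,
    Φ (c0 * g * c0⁻¹) = c * Φ g * c⁻¹

namespace WinSys

variable {P : Type*} [Group P] (W : WinSys Ω P)

/-- The group of permutations on the first `r` positions. -/
def seg (r : ℕ) : Subgroup (Perm Ω) := suppIn ((Finset.range r).image W.e) ⊓ W.L

theorem seg_mono {r r' : ℕ} (h : r ≤ r') : W.seg r ≤ W.seg r' :=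
  inf_le_inf_right _ (suppIn_mono (Finset.image_subset_image (Finset.range_subset_range.2 h)))

theorem evenIn_le_seg (r : ℕ) : evenIn ((Finset.range r).image W.e) ≤ W.seg r :=
  inf_le_inf_left _ W.halt

theorem tri_mem_seg {i r : ℕ} (hi : i + 3 ≤ r) (hr : r ≤ W.n) : tri W.e i ∈ W.seg r :=
  W.evenIn_le_seg r (tri_mem_evenIn W.he hi hr)

theorem conj_seg {r : ℕ} (hr : r + 1 ≤ W.n) {g : Perm Ω} (hg : g ∈ W.seg r) :
    W.c0 * g * W.c0⁻¹ ∈ W.seg (r + 1) := by
  refine ⟨conj_mem_suppIn hg.1 ?_, W.hnorm g hg.2⟩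
  intro x hx
  obtain ⟨i, hi, rfl⟩ := Finset.mem_image.1 hx
  rw [Finset.mem_range] at hi
  rcases Nat.lt_or_ge i W.f with h | h
  · rw [W.hfix i h]; exact Finset.mem_image_of_mem _ (Finset.mem_range.2 (by omega))
  · rw [W.hstep i h (by omega)]; exact Finset.mem_image_of_mem _ (Finset.mem_range.2 (by omega))

theorem shift_pow : ∀ d r, r + d ≤ W.N → ∀ g ∈ W.seg r,
    W.c0 ^ d * g * (W.c0 ^ d)⁻¹ ∈ W.seg (r + d) ∧
      W.Φ (W.c0 ^ d * g * (W.c0 ^ d)⁻¹) = W.c ^ d * W.Φ g * (W.c ^ d)⁻¹ := by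
  intro d
  induction d with
  | zero => intro r _ g hg; simp [hg]
  | succ d ih =>
    intro r hr g hg
    obtain ⟨h1, h2⟩ := ih r (by omega) g hg
    have e1 : W.c0 ^ (d + 1) * g * (W.c0 ^ (d + 1))⁻¹ =
        W.c0 * (W.c0 ^ d * g * (W.c0 ^ d)⁻¹) * W.c0⁻¹ := by
      rw [pow_succ']; group
    have e2 : W.c ^ (d + 1) * W.Φ g * (W.c ^ (d + 1))⁻¹ =
        W.c * (W.c ^ d * W.Φ g * (W.c ^ d)⁻¹) * W.c⁻¹ := by
      rw [pow_succ']; group
    rw [e1, e2, ← h2]
    refine ⟨?_, W.hshift _ (W.seg_mono (by omega) h1)⟩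
    have h3 := W.conj_seg (r := r + d) (by have := W.hNn; omega) h1
    rwa [show r + (d + 1) = r + d + 1 by omega]

theorem step_pow (d i : ℕ) (hi : W.f ≤ i) (hd : i + d < W.n) :
    (W.c0 ^ d) (W.e i) = W.e (i + d) := by
  induction d with
  | zero => simp
  | succ d ih =>
    rw [pow_succ', Perm.mul_apply, ih (by omega), W.hstep _ (by omega) (by omega)]
    rw [add_assoc]

theorem tri_conj (d i : ℕ) (hi : W.f ≤ i) (hd : i + d + 2 < W.n) :
    W.c0 ^ d * tri W.e i * (W.c0 ^ d)⁻¹ = tri W.e (i + d) := by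
  rw [tri, cyc_conj, W.step_pow d i hi (by omega), W.step_pow d (i + 1) (by omega) (by omega),
    W.step_pow d (i + 2) (by omega) (by omega), tri, show i + 1 + d = i + d + 1 by omega,
    show i + 2 + d = i + d + 2 by omega]

/-- Two pieces that lie in a common window. -/
theorem pair (s s' r r' : ℕ) (g h : Perm Ω) (hg : g ∈ W.seg r) (hh : h ∈ W.seg r')
    (hr : r ≤ W.N) (hr' : r' ≤ W.N) (hs : s ≤ s') (hs' : s' ≤ W.n - W.f)
    (hfit : r' + (s' - s) ≤ W.N ∨ r + (W.n - W.f - (s' - s)) ≤ W.N) :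
    ∃ k : ℕ, ∃ g' ∈ W.seg W.N, ∃ h' ∈ W.seg W.N,
      W.c ^ s * W.Φ g * (W.c ^ s)⁻¹ = W.c ^ k * W.Φ g' * (W.c ^ k)⁻¹ ∧
      W.c ^ s' * W.Φ h * (W.c ^ s')⁻¹ = W.c ^ k * W.Φ h' * (W.c ^ k)⁻¹ ∧
      W.c0 ^ s * g * (W.c0 ^ s)⁻¹ = W.c0 ^ k * g' * (W.c0 ^ k)⁻¹ ∧
      W.c0 ^ s' * h * (W.c0 ^ s')⁻¹ = W.c0 ^ k * h' * (W.c0 ^ k)⁻¹ := by
  rcases hfit with hfit | hfit
  · obtain ⟨h1, h2⟩ := W.shift_pow (s' - s) r' hfit h hh
    refine ⟨s, g, W.seg_mono hr hg, _, W.seg_mono hfit h1, rfl, ?_, rfl, ?_⟩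
    · rw [h2]
      nth_rewrite 1 2 [show s' = s + (s' - s) by omega]
      rw [pow_add]; group
    · nth_rewrite 1 2 [show s' = s + (s' - s) by omega]
      rw [pow_add]; group
  · obtain ⟨h1, h2⟩ := W.shift_pow (W.n - W.f - (s' - s)) r hfit g hg
    refine ⟨s', _, W.seg_mono hfit h1, h, W.seg_mono hr' hh, ?_, rfl, ?_, rfl⟩
    · rw [h2]
      have : W.c ^ s' * W.c ^ (W.n - W.f - (s' - s)) = W.c ^ s := by
        rw [← pow_add, show s' + (W.n - W.f - (s' - s)) = s + (W.n - W.f) by omega, pow_add, W.hc,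
          mul_one]
      rw [← this]; group
    · have : W.c0 ^ s' * W.c0 ^ (W.n - W.f - (s' - s)) = W.c0 ^ s := by
        rw [← pow_add, show s' + (W.n - W.f - (s' - s)) = s + (W.n - W.f) by omega, pow_add, W.hc0,
          mul_one]
      rw [← this]; group

/-- The arc start of the `i`-th triple. -/
def st (i : ℕ) : ℕ := i - W.f

/-- The triple at the start. -/
def base (i : ℕ) : ℕ := if i < W.f then 0 else W.f

/-- The images of the consecutive 3-cycles. -/
def u (i : ℕ) : P := W.c ^ W.st i * W.Φ (tri W.e (W.base i)) * (W.c ^ W.st i)⁻¹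

theorem tri_eq {i : ℕ} (hi : i + 3 ≤ W.n) :
    tri W.e i = W.c0 ^ W.st i * tri W.e (W.base i) * (W.c0 ^ W.st i)⁻¹ := by
  rcases Nat.lt_or_ge i W.f with h | h
  · have := W.hf
    obtain rfl : i = 0 := by omega
    simp [st, base, h]
  · rw [W.tri_conj _ _ (by simp [base, not_lt.2 h]) (by simp [base, st, not_lt.2 h]; omega)]
    congr 1
    simp [base, st, not_lt.2 h]; omega

theorem base_add_le (i : ℕ) : W.base i + 3 ≤ W.f + 3 := by
  unfold base; split_ifs <;> omega

theorem u_pair {i j : ℕ} (hij : i ≤ j) (hj : j + 3 ≤ W.n) :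
    ∃ k : ℕ, ∃ g ∈ W.seg W.N, ∃ h ∈ W.seg W.N,
      W.u i = W.c ^ k * W.Φ g * (W.c ^ k)⁻¹ ∧ W.u j = W.c ^ k * W.Φ h * (W.c ^ k)⁻¹ ∧
      tri W.e i = W.c0 ^ k * g * (W.c0 ^ k)⁻¹ ∧ tri W.e j = W.c0 ^ k * h * (W.c0 ^ k)⁻¹ := by
  have hN := W.hN5
  have hn := W.hNn
  have hf := W.hf
  have hr := W.hrange
  have hb1 := W.base_add_le i
  have hb2 := W.base_add_le j
  obtain ⟨k, g, hg, h, hh, e1, e2, e3, e4⟩ := W.pair (W.st i) (W.st j) (W.base i + 3)
    (W.base j + 3) _ _ (W.tri_mem_seg le_rfl (by omega)) (W.tri_mem_seg le_rfl (by omega))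
    (by omega) (by omega) (by simp [st]; omega) (by simp [st]; omega)
    (by simp only [st, base]; split_ifs <;> omega)
  exact ⟨k, g, hg, h, hh, e1, e2, (W.tri_eq (by omega)).trans e3, (W.tri_eq hj).trans e4⟩

theorem u_low {i : ℕ} (hi : i + 3 ≤ W.N) : W.Φ (tri W.e i) = W.u i := by
  have hn := W.hNn
  have hf := W.hf
  rw [W.tri_eq (by omega)]
  refine (W.shift_pow (W.st i) (W.base i + 3) ?_ _ (W.tri_mem_seg le_rfl ?_)).2
  · simp only [st, base]; split_ifs <;> omega
  · simp only [base]; split_ifs <;> omega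

/-- The homomorphism on all even permutations. -/
theorem exists_hom : ∃ Ψ : Perm Ω → P, HomOn (evenIn ((Finset.range W.n).image W.e)) Ψ ∧
    (∀ i, i + 3 ≤ W.n → Ψ (tri W.e i) = W.u i) ∧
    ∀ g ∈ evenIn ((Finset.range W.N).image W.e), Ψ g = W.Φ g := by
  have hΦ : HomOn (evenIn ((Finset.range W.N).image W.e)) W.Φ :=
    W.hΦ.mono (W.evenIn_le_seg W.N)
  refine linear_hom W.n W.e W.he W.N W.hN5 W.hNn W.u W.Φ hΦ (fun i hi => W.u_low hi) ?_ ?_ ?_
  · intro i hi
    have hb := W.base_add_le i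
    have := W.hN5
    have := W.hNn
    have := W.hf
    rw [u, conj_pow, ← W.hΦ.map_pow (W.tri_mem_seg (by omega) (W.hNn)),
      tri_cube W.he (by omega), W.hΦ.map_one]
    simp
  · intro i hi
    obtain ⟨k, g, hg, h, hh, e1, e2, e3, e4⟩ := W.u_pair (i := i) (j := i + 1) (by omega) (by omega)
    have h1 := tri_sq W.he hi
    rw [e3, e4, conj_mul, conj_pow, conj_eq_one_iff] at h1
    rw [e1, e2, conj_mul, conj_pow, ← W.hΦ g hg h hh, ← W.hΦ.map_pow (mul_mem hg hh), h1,
      W.hΦ.map_one]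
    simp
  · intro i j hij hj
    obtain ⟨k, g, hg, h, hh, e1, e2, e3, e4⟩ := W.u_pair (i := i) (j := j) (by omega) hj
    have h1 : Commute g h := by
      have := tri_commute W.he hij hj
      rw [e3, e4] at this
      exact (Commute.conj_iff _).1 this
    rw [e1, e2, Commute.conj_iff]
    rw [commute_iff_eq, ← W.hΦ g hg h hh, ← W.hΦ h hh g hg, h1.eq]

section Extend

variable (Ψ : Perm Ω → P) (hΨ : HomOn (evenIn ((Finset.range W.n).image W.e)) Ψ)
  (hu : ∀ i, i + 3 ≤ W.n → Ψ (tri W.e i) = W.u i)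
  (h0 : ∀ g ∈ evenIn ((Finset.range W.N).image W.e), Ψ g = W.Φ g)

theorem conj_evenIn_range {k r : ℕ} (hr : r + k ≤ W.n) {g : Perm Ω}
    (hg : g ∈ evenIn ((Finset.range r).image W.e)) :
    W.c0 ^ k * g * (W.c0 ^ k)⁻¹ ∈ evenIn ((Finset.range (r + k)).image W.e) := by
  refine conj_mem_evenIn hg ?_
  intro x hx
  obtain ⟨i, hi, rfl⟩ := Finset.mem_image.1 hx
  rw [Finset.mem_range] at hi
  rcases Nat.lt_or_ge i W.f with h | h
  · have hfx : (W.c0 ^ k) (W.e i) = W.e i := Perm.pow_apply_eq_self_of_apply_eq_self (W.hfix i h) k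
    rw [hfx]; exact Finset.mem_image_of_mem _ (Finset.mem_range.2 (by omega))
  · rw [W.step_pow k i h (by omega)]; exact Finset.mem_image_of_mem _ (Finset.mem_range.2 (by omega))

include hΨ hu h0 in
/-- A window that does not wrap around. -/
theorem slide : ∀ k, k + W.N ≤ W.n → ∀ g ∈ evenIn ((Finset.range W.N).image W.e),
    W.c ^ k * W.Φ g * (W.c ^ k)⁻¹ = Ψ (W.c0 ^ k * g * (W.c0 ^ k)⁻¹) := by
  intro k
  induction k with
  | zero => intro _ g hg; simp [h0 g hg]
  | succ k ih =>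
    intro hk g hg
    have hN := W.hN5
    have hf := W.hf
    set T := Subgroup.closure (tri W.e '' {i | i + 3 ≤ W.N})
    have hT : T ≤ evenIn ((Finset.range W.N).image W.e) := by
      refine (Subgroup.closure_le _).2 ?_
      rintro _ ⟨i, hi, rfl⟩
      exact tri_mem_evenIn W.he hi W.hNn
    have hgT : g ∈ T := evenIn_le_tri W.n W.e W.he W.N (by omega) W.hNn hg
    let A : Perm Ω → P := fun g => W.c ^ (k + 1) * W.Φ g * (W.c ^ (k + 1))⁻¹
    let B : Perm Ω → P := fun g => Ψ (W.c0 ^ (k + 1) * g * (W.c0 ^ (k + 1))⁻¹)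
    have hA : HomOn T A := fun x hx y hy => by
      simp only [A]; rw [(W.hΦ.mono (W.evenIn_le_seg W.N)) x (hT hx) y (hT hy)]; group
    have hsub : ∀ x ∈ T, W.c0 ^ (k + 1) * x * (W.c0 ^ (k + 1))⁻¹ ∈
        evenIn ((Finset.range W.n).image W.e) := fun x hx =>
      evenIn_mono (Finset.image_subset_image (Finset.range_subset_range.2 (by omega)))
        (W.conj_evenIn_range (k := k + 1) (r := W.N) (by omega) (hT hx))
    have hB : HomOn T B := fun x hx y hy => by
      simp only [B]; rw [← hΨ _ (hsub x hx) _ (hsub y hy)]; congr 1; group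
    refine HomOn.eq_of_closure _ hA hB ?_ g hgT
    rintro _ ⟨i, hi, rfl⟩
    simp only [Set.mem_ofPred_eq] at hi
    simp only [A, B]
    rcases Nat.lt_or_ge i W.f with h | h
    · obtain rfl : i = 0 := by omega
      have hm : W.c0 * tri W.e 0 * W.c0⁻¹ ∈ evenIn ((Finset.range W.N).image W.e) := by
        have := W.conj_evenIn_range (k := 1) (r := 3) (by omega)
          (tri_mem_evenIn W.he (i := 0) le_rfl (by omega))
        rw [pow_one] at this
        exact evenIn_mono (Finset.image_subset_image (Finset.range_subset_range.2 (by omega))) this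
      have h2 := ih (by omega) _ hm
      rw [W.hshift _ (W.tri_mem_seg (by omega) (by omega))] at h2
      rw [pow_succ W.c, pow_succ W.c0]
      convert h2 using 1
      · group
      · congr 1
    · rw [W.tri_conj _ _ h (by omega), hu _ (by omega), W.u_low hi, u, u]
      have hb : W.base (i + (k + 1)) = W.base i := by
        simp [base, not_lt.2 h, not_lt.2 (show W.f ≤ i + (k + 1) by omega)]
      have hs : W.st (i + (k + 1)) = k + 1 + W.st i := by simp [st]; omega
      rw [hb, hs, pow_add]; group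

include hΨ hu h0 in
theorem conj_tri_zero {i : ℕ} (hi : i + 3 ≤ W.n) :
    W.c ^ i * W.Φ (tri W.e 0) * (W.c ^ i)⁻¹ = Ψ (W.c0 ^ i * tri W.e 0 * (W.c0 ^ i)⁻¹) := by
  have hN := W.hN5
  have hn := W.hNn
  set k := min i (W.n - W.N)
  have ht0 : tri W.e 0 ∈ evenIn ((Finset.range 3).image W.e) := tri_mem_evenIn W.he le_rfl (by omega)
  obtain ⟨h1, h2⟩ := W.shift_pow (i - k) 3 (by omega) _ (W.evenIn_le_seg 3 ht0)
  have h3 := W.conj_evenIn_range (k := i - k) (r := 3) (by omega) ht0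
  have h4 := W.slide Ψ hΨ hu h0 k (by omega) _
    (evenIn_mono (Finset.image_subset_image (Finset.range_subset_range.2 (by omega))) h3)
  rw [h2] at h4
  nth_rewrite 1 2 3 4 [show i = k + (i - k) by omega]
  rw [pow_add, pow_add]
  convert h4 using 1
  · group
  · congr 1

include hΨ hu h0 in
/-- With no fixed point, the first transposition normalises the image. -/
theorem swap_conj (hf0 : W.f = 0) (hσ : swap (W.e 0) (W.e 1) ∈ W.L) {i : ℕ} (hi : i + 3 ≤ W.n) :
    W.Φ (swap (W.e 0) (W.e 1)) * W.u i * (W.Φ (swap (W.e 0) (W.e 1)))⁻¹ =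
      Ψ (swap (W.e 0) (W.e 1) * tri W.e i * (swap (W.e 0) (W.e 1))⁻¹) := by
  have hN := W.hN5
  have hn := W.hNn
  have hr := W.hrange
  set σ := swap (W.e 0) (W.e 1) with hσdef
  have hσs : ∀ r, 2 ≤ r → σ ∈ W.seg r := by
    intro r hr2
    refine ⟨fun x hx => swap_apply_of_ne_of_ne ?_ ?_, hσ⟩
    · rintro rfl; exact hx (Finset.mem_image_of_mem _ (Finset.mem_range.2 (by omega)))
    · rintro rfl; exact hx (Finset.mem_image_of_mem _ (Finset.mem_range.2 (by omega)))
  rcases Nat.lt_or_ge i 2 with h | h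
  · have ht : tri W.e i ∈ W.seg W.N := W.tri_mem_seg (by omega) hn
    have hs := hσs W.N (by omega)
    rw [← W.u_low (by omega), ← W.hΦ.map_inv hs, ← W.hΦ _ hs _ ht,
      ← W.hΦ _ (mul_mem hs ht) _ (inv_mem hs), h0]
    refine conj_mem_evenIn (tri_mem_evenIn W.he (i := i) (l := W.N) (by omega) hn) ?_
    intro x hx
    by_cases hx1 : x = W.e 0
    · rw [hx1, hσdef, swap_apply_left]; exact Finset.mem_image_of_mem _ (Finset.mem_range.2 (by omega))
    by_cases hx2 : x = W.e 1
    · rw [hx2, hσdef, swap_apply_right]; exact Finset.mem_image_of_mem _ (Finset.mem_range.2 (by omega))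
    rwa [hσdef, swap_apply_of_ne_of_ne hx1 hx2]
  · have hne : ∀ i j, i < W.n → j < W.n → i ≠ j → W.e i ≠ W.e j :=
      fun i j hi hj h hc => h (W.he hi hj hc)
    have hcomm : σ * tri W.e i * σ⁻¹ = tri W.e i := by
      rw [tri, cyc_conj, swap_apply_of_ne_of_ne (hne _ _ (by omega) (by omega) (by omega))
        (hne _ _ (by omega) (by omega) (by omega)),
        swap_apply_of_ne_of_ne (hne _ _ (by omega) (by omega) (by omega))
        (hne _ _ (by omega) (by omega) (by omega)),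
        swap_apply_of_ne_of_ne (hne _ _ (by omega) (by omega) (by omega))
        (hne _ _ (by omega) (by omega) (by omega))]
    have hb := W.base_add_le i
    have hi' := W.tri_eq hi
    obtain ⟨k, g, hg, h', hh, e1, e2, e3, e4⟩ := W.pair 0 (W.st i) 2 (W.base i + 3) σ _
      (hσs 2 le_rfl) (W.tri_mem_seg le_rfl (by omega)) (by omega) (by omega) (by omega)
      (by simp [st]; omega) (by simp only [st, base]; split_ifs <;> omega)
    simp only [pow_zero, one_mul, inv_one, mul_one] at e1 e3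
    rw [hu i hi |>.symm] at *
    rw [hcomm, hu i hi, e1, u, e2, conj_inv, conj_mul, conj_mul]
    have h1 : g * h' * g⁻¹ = h' := by
      have := hcomm
      rw [hi', e4, e3, conj_inv, conj_mul, conj_mul] at this
      exact mul_left_cancel (mul_right_cancel this)
    rw [← W.hΦ.map_inv hg, ← W.hΦ g hg h' hh, ← W.hΦ _ (mul_mem hg hh) _ (inv_mem hg), h1]

end Extend

end WinSys

end H24.AltPres
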