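import Cfsg.Agent.H24.Constituent
import Cfsg.Agent.H20.OrthConv
import Cfsg.Agent.H20.DefectApps
import Cfsg.Agent.H20.Knorr
import Cfsg.Agent.H25.ValueCongr
import Cfsg.Agent.H12.Products
import Cfsg.Agent.H13.Correspondence
import Cfsg.Prelude.Def_BlockRank

/-!
Orthogonality consequences for sums over parts of blocks.
-/

set_option autoImplicit false
set_option linter.unusedSectionVars false
set_option linter.style.haveILetI false

open Cfsg Module
open scoped ComplexConjugate

namespace H24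

universe u

variable {G : Type u} [Group G] [Fintype G] {p : ℕ} {M : Ideal AlgInt} [M.IsPrime]

open scoped Classical in
/-- The block part of a class function vanishing on the `p`-singular elements also vanishes there. -/
theorem blockPart_singular_eq_zero (hM : IsPModular p M) {B : Set (IrrCharacter G)}
    (hB : IsPBlock M B) {f : G → ℂ} (hf : ∀ x, p ∣ orderOf x → f x = 0) {g : G} (hg : p ∣ orderOf g) :
    ∑ χ : IrrCharacter G, (if χ ∈ B then classInner f (χ : G → ℂ) * (χ : G → ℂ) g else 0) = 0 := by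
  have h : ∀ x : G, ∑ χ : IrrCharacter G,
      (if χ ∈ B then f x * conj ((χ : G → ℂ) x) * (χ : G → ℂ) g else 0) = 0 := by
    intro x
    by_cases hx : p ∣ orderOf x
    · refine Finset.sum_eq_zero fun χ _ => ?_
      rw [hf x hx, zero_mul, zero_mul, ite_self]
    · have h0 := congrArg conj (H20.weak_orthogonality hM hB hx hg)
      rw [H20.finsum_mem_eq_sum_ite, map_sum, map_zero] at h0
      calc _ = f x * ∑ χ : IrrCharacter G,
            conj (if χ ∈ B then (χ : G → ℂ) x * conj ((χ : G → ℂ) g) else 0) := by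
            rw [Finset.mul_sum]
            refine Finset.sum_congr rfl fun χ _ => ?_
            split_ifs
            · rw [map_mul, Complex.conj_conj, mul_assoc]
            · simp
        _ = 0 := by rw [h0, mul_zero]
  have h2 : ∀ χ : IrrCharacter G, (if χ ∈ B then classInner f (χ : G → ℂ) * (χ : G → ℂ) g else 0) =
      (Nat.card G : ℂ)⁻¹ * ∑ x : G,
        (if χ ∈ B then f x * conj ((χ : G → ℂ) x) * (χ : G → ℂ) g else 0) := by
    intro χ
    split_ifs
    · rw [H12.classInner_def, mul_assoc, Finset.sum_mul]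
    · simp
  simp only [h2, ← Finset.mul_sum]
  rw [Finset.sum_comm, Finset.sum_eq_zero fun x _ => h x, mul_zero]

open scoped Classical in
theorem intersection_sum_dvd (hM : IsPModular p M) {q : ℕ} [Fact q.Prime] (hpq : p ≠ q)
    {M' : Ideal AlgInt} [M'.IsPrime] (hM' : IsPModular q M') (hno : ∀ g : G, orderOf g ≠ p * q)
    {B B' : Set (IrrCharacter G)} (hB : IsPBlock M B) (hB' : IsPBlock M' B') {y : G}
    (hy : p ∣ orderOf y) :
    ∃ z : ℂ, IsIntegral ℤ z ∧ ∑ᶠ χ ∈ B ∩ B', (charDegree (χ : G → ℂ) : ℂ) * (χ : G → ℂ) y =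
      ((q ^ (Nat.card G).factorization q : ℕ) : ℂ) * z := by
  have hns : ∀ g : G, q ∣ orderOf g → ¬ p ∣ orderOf g := by
    intro g hq hp
    have hd : p * q ∣ orderOf g :=
      ((Nat.coprime_primes hM.1 Fact.out).2 hpq).mul_dvd_of_dvd_of_dvd hp hq
    exact hno (g ^ (orderOf g / (p * q))) (orderOf_pow_orderOf_div (orderOf_pos g).ne' hd)
  let f : G → ℂ := fun g => ∑ χ : IrrCharacter G, (if χ ∈ B then (χ : G → ℂ) y else 0) * (χ : G → ℂ) g
  have hf : ∀ g, q ∣ orderOf g → f g = 0 := by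
    intro g hg
    have h0 := H20.weak_orthogonality hM hB (x := g) (y := y⁻¹) (hns g hg) (by rwa [orderOf_inv])
    rw [H20.finsum_mem_eq_sum_ite] at h0
    refine Eq.trans ?_ h0
    refine Finset.sum_congr rfl fun χ _ => ?_
    split_ifs
    · rw [H12.irr_inv, Complex.conj_conj, mul_comm]
    · simp
  have hinner : ∀ χ : IrrCharacter G, classInner f (χ : G → ℂ) = if χ ∈ B then (χ : G → ℂ) y else 0 := by
    intro χ
    rw [show f = ∑ φ : IrrCharacter G, (if φ ∈ B then (φ : G → ℂ) y else 0) • (φ : G → ℂ) from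
      funext fun g => by rw [Finset.sum_apply]; rfl,
      H12.classInner_sum_smul_irr]
  obtain ⟨Q⟩ := (inferInstance : Nonempty (Sylow q G))
  obtain ⟨z, hz, hz'⟩ := H20.exists_integral_mul_card (Q : Subgroup G)
    (fun χ => if χ ∈ B ∩ B' then (χ : G → ℂ) y else 0) (fun χ => by
      split_ifs
      · exact H12.IsCharacter.isIntegral (H12.isCharacter_irr χ) y
      · exact isIntegral_zero)
    (fun w hw h1 => by
      refine Eq.trans ?_ (blockPart_singular_eq_zero hM' hB' hf
        (H20.dvd_orderOf_of_mem_pGroup Q.isPGroup' hw h1))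
      refine Finset.sum_congr rfl fun χ _ => ?_
      rw [hinner]
      by_cases hb : χ ∈ B <;> by_cases hb' : χ ∈ B' <;> simp [hb, hb'])
  refine ⟨z, hz, ?_⟩
  rw [Q.card_eq_multiplicity] at hz'
  rw [← hz', H20.finsum_mem_eq_sum_ite]
  refine Finset.sum_congr rfl fun χ _ => ?_
  by_cases h : χ ∈ B ∩ B'
  · rw [if_pos h, if_pos h, irr_one, mul_comm]
  · rw [if_neg h, if_neg h, zero_mul]

/-- Products of values over a block vanish at pairs which multiply to `p`-singular elements only. -/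
theorem block_sum_mul_eq_zero (hM : IsPModular p M) {B : Set (IrrCharacter G)} (hB : IsPBlock M B)
    (x z : G) (h : ∀ a : G, p ∣ orderOf (x * (a * z * a⁻¹))) :
    ∑ᶠ χ ∈ B, (χ : G → ℂ) x * (χ : G → ℂ) z = 0 := by
  classical
  have h1 : ∀ a : G, ∑ᶠ χ ∈ B, (χ : G → ℂ) 1 * (χ : G → ℂ) (x * (a * z * a⁻¹)) = 0 := by
    intro a
    have h0 := H20.weak_orthogonality hM hB (x := (1 : G)) (y := (x * (a * z * a⁻¹))⁻¹)
      (by rw [orderOf_one]; exact hM.1.not_dvd_one) (by rw [orderOf_inv]; exact h a)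
    rw [H20.finsum_mem_eq_sum_ite] at h0 ⊢
    refine Eq.trans ?_ h0
    refine Finset.sum_congr rfl fun χ _ => ?_
    split_ifs
    · rw [H12.irr_inv, Complex.conj_conj]
    · rfl
  have hG : (Nat.card G : ℂ) ≠ 0 := H12.card_ne_zero'
  refine mul_left_cancel₀ hG ?_
  rw [mul_zero, H20.finsum_mem_eq_sum_ite, Finset.mul_sum]
  calc _ = ∑ χ : IrrCharacter G, ∑ a : G,
        (if χ ∈ B then (χ : G → ℂ) 1 * (χ : G → ℂ) (x * (a * z * a⁻¹)) else 0) := by
        refine Finset.sum_congr rfl fun χ _ => ?_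
        split_ifs
        · rw [← Finset.mul_sum, H12.irr_class_product]
          field_simp [H12.irr_apply_one_ne_zero χ]
        · simp
    _ = 0 := by
        rw [Finset.sum_comm]
        refine Finset.sum_eq_zero fun a _ => ?_
        rw [← H20.finsum_mem_eq_sum_ite]
        exact h1 a

/-- The squares of the multiplicities of a character of a normal subgroup in the `p'`-degree characters
of a block above it sum to a multiple of `p`. -/
theorem count_over_normal [Fact p.Prime] (hM : IsPModular p M) (P : Sylow p G)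
    {B : Set (IrrCharacter G)} (hB : IsPBlock M B) (N : Subgroup G) [N.Normal] [Fintype N]
    (hPN : ¬ (P : Subgroup G) ≤ N) (θ : IrrCharacter N) :
    ∃ (S : Finset (IrrCharacter G)) (m : IrrCharacter G → ℕ),
      (∀ χ, χ ∈ S ↔ (χ ∈ B ∧ ¬ p ∣ charDegree (χ : G → ℂ) ∧
        classInner (fun n : N => (χ : G → ℂ) n) (θ : N → ℂ) ≠ 0)) ∧
      (∀ χ ∈ S, ¬ p ∣ m χ) ∧ p ∣ ∑ χ ∈ S, m χ ^ 2 := by
  classical
  choose m hm using fun χ : IrrCharacter G => H12.IsCharacter.classInner_nat
    (H12.IsCharacter.res (H12.isCharacter_irr χ) N) (H12.isCharacter_irr θ)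
  obtain ⟨c, hc⟩ : ∃ c, c = (H13.inertia N (θ : N → ℂ)).index * charDegree (θ : N → ℂ) := ⟨_, rfl⟩
  have hdeg : ∀ χ : IrrCharacter G, m χ ≠ 0 → charDegree (χ : G → ℂ) = m χ * c := by
    intro χ hχ
    have h := H13.clifford_degree N χ.2 θ.2 (by rw [hm]; exact Nat.cast_ne_zero.2 hχ)
    rw [hm, irr_one θ, irr_one χ, mul_assoc] at h
    rw [hc]
    exact_mod_cast h
  refine ⟨Finset.univ.filter fun χ => χ ∈ B ∧ ¬ p ∣ charDegree (χ : G → ℂ) ∧ m χ ≠ 0, m,
    fun χ => by simp [hm], fun χ hχ hp => ?_, ?_⟩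
  · obtain ⟨-, hd, hm0⟩ := (Finset.mem_filter.1 hχ).2
    exact hd (by rw [hdeg χ hm0]; exact dvd_mul_of_dvd_left hp c)
  rcases Finset.eq_empty_or_nonempty
      (Finset.univ.filter fun χ : IrrCharacter G => χ ∈ B ∧ ¬ p ∣ charDegree (χ : G → ℂ) ∧ m χ ≠ 0) with he | hne
  · rw [he, Finset.sum_empty]; exact dvd_zero p
  obtain ⟨χ₀, hχ₀⟩ := hne
  obtain ⟨-, hd₀, hm₀⟩ := (Finset.mem_filter.1 hχ₀).2
  have hcp : ¬ p ∣ c := fun h => hd₀ (by rw [hdeg χ₀ hm₀]; exact dvd_mul_of_dvd_right h _)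
  obtain ⟨g, hgP, hgN⟩ := SetLike.not_le_iff_exists.1 hPN
  obtain ⟨k, hk⟩ := IsPGroup.iff_orderOf.1 P.isPGroup' ⟨g, hgP⟩
  rw [Subgroup.orderOf_mk] at hk
  obtain ⟨F, hF⟩ : ∃ F : G → ℂ, F = fun w => ∑ χ : IrrCharacter G,
      (if χ ∈ B then (m χ : ℂ) * (χ : G → ℂ) w else 0) := ⟨_, rfl⟩
  have himg : p ∣ orderOf (g : G ⧸ N) := by
    have hd : orderOf (g : G ⧸ N) ∣ p ^ k := hk ▸ orderOf_map_dvd (QuotientGroup.mk' N) g
    obtain ⟨j, -, hj⟩ := (Nat.dvd_prime_pow (Fact.out : p.Prime)).1 hd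
    rcases Nat.eq_zero_or_pos j with h0 | h0
    · rw [h0, pow_zero, orderOf_eq_one_iff, QuotientGroup.eq_one_iff] at hj
      exact absurd hj hgN
    · rw [hj]; exact dvd_pow_self p h0.ne'
  have hFg : F g = 0 := by
    have h1 : ∀ n : N, ∑ χ : IrrCharacter G,
        (if χ ∈ B then (χ : G → ℂ) g * (χ : G → ℂ) (n : G) else 0) = 0 := by
      intro n
      rw [← H20.finsum_mem_eq_sum_ite]
      refine block_sum_mul_eq_zero hM hB g n fun a => ?_
      have h2 : QuotientGroup.mk' N (g * (a * n * a⁻¹)) = (g : G ⧸ N) := by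
        rw [QuotientGroup.mk'_apply, QuotientGroup.mk_mul_of_mem g
          (Subgroup.Normal.conj_mem inferInstance (n : G) n.2 a)]
      exact himg.trans (h2 ▸ orderOf_map_dvd (QuotientGroup.mk' N) _)
    have h3 : ∀ χ : IrrCharacter G, (if χ ∈ B then (m χ : ℂ) * (χ : G → ℂ) g else 0) =
        (Nat.card N : ℂ)⁻¹ * ∑ n : N, conj ((θ : N → ℂ) n) *
          (if χ ∈ B then (χ : G → ℂ) g * (χ : G → ℂ) (n : G) else 0) := by
      intro χ
      split_ifs
      · rw [← hm, H12.classInner_def, mul_assoc, Finset.sum_mul]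
        congr 1
        refine Finset.sum_congr rfl fun n _ => ?_
        ring
      · simp
    rw [hF]
    simp only [h3, ← Finset.mul_sum]
    rw [Finset.sum_comm]
    simp only [← Finset.mul_sum, h1, mul_zero, Finset.sum_const_zero]
  have hdiff : MemLocalIdeal M (F g - F 1) := by
    have hq : H20.qPart p g = 1 := by
      have h1 := H20.pPart_mul_qPart (p := p) g
      rw [H20.pPart_eq_self ⟨k, hk⟩] at h1
      exact mul_left_cancel (h1.trans (mul_one g).symm)
    have hzero : MemLocalIdeal M (0 : ℂ) := ⟨0, 1, M.zero_mem, H20.one_notMem, by simp⟩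
    rw [hF, ← Finset.sum_sub_distrib]
    refine Finset.sum_induction _ (MemLocalIdeal M) (fun a b => H20.memIdeal_add) hzero fun χ _ => ?_
    split_ifs
    · rw [← mul_sub]
      refine H20.memIdeal_mul (H20.memRing_natCast _) ?_
      have := H25.memIdeal_apply_sub_qPart (p := p) hM (H12.isCharacter_irr χ) g
      rwa [hq] at this
    · simpa using hzero
  rw [hFg, zero_sub] at hdiff
  obtain ⟨T, hT⟩ : ∃ T : Finset (IrrCharacter G), T = Finset.univ.filter (fun χ => χ ∈ B) := ⟨_, rfl⟩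
  have hF1 : F 1 = ((∑ χ ∈ T, m χ ^ 2 * c : ℕ) : ℂ) := by
    simp only [hF, hT]
    rw [Nat.cast_sum, ← Finset.sum_filter]
    refine Finset.sum_congr rfl fun χ _ => ?_
    rw [irr_one]
    rcases eq_or_ne (m χ) 0 with h0 | h0
    · simp [h0]
    · rw [hdeg χ h0]; push_cast; ring
  have h4 := H20.memIdeal_mul (H20.memRing_neg (H20.memRing_natCast (M := M) 1)) hdiff
  rw [hF1, show (-((1 : ℕ) : ℂ)) * -((∑ χ ∈ T, m χ ^ 2 * c : ℕ) : ℂ) =
    ((∑ χ ∈ T, m χ ^ 2 * c : ℕ) : ℂ) by push_cast; ring, H20.natCast_memIdeal_iff hM,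
    ← Finset.sum_mul] at h4
  have h5 := ((Fact.out : p.Prime).dvd_mul.1 h4).resolve_right hcp
  rw [hT, ← Finset.sum_filter_add_sum_filter_not _
    (fun χ : IrrCharacter G => ¬ p ∣ charDegree (χ : G → ℂ) ∧ m χ ≠ 0), Finset.filter_filter] at h5
  rw [Nat.dvd_add_left] at h5
  · exact h5
  · refine Finset.dvd_sum fun χ hχ => ?_
    obtain ⟨-, h6⟩ := Finset.mem_filter.1 hχ
    rcases eq_or_ne (m χ) 0 with h0 | h0
    · simp [h0]
    · have h7 : p ∣ charDegree (χ : G → ℂ) := not_not.1 fun h => h6 ⟨h, h0⟩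
      rw [hdeg χ h0] at h7
      exact dvd_pow (((Fact.out : p.Prime).dvd_mul.1 h7).resolve_right hcp) two_ne_zero

/-- A block whose members have independent `p`-regular parts has defect zero. -/
theorem defect_zero_of_independent (hM : IsPModular p M) {B : Set (IrrCharacter G)}
    (hB : IsPBlock M B)
    (hli : LinearIndependent ℂ fun χ : B => pRegularPart p ((χ : IrrCharacter G) : G → ℂ))
    {χ : IrrCharacter G} (hχ : χ ∈ B) :
    blockDefect p B = 0 := by
  classical
  have hvan : ∀ φ ∈ B, ∀ w : G, p ∣ orderOf w → (φ : G → ℂ) w = 0 := by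
    intro φ hφ w hw
    have h := Fintype.linearIndependent_iff.1 hli
      (fun ψ : B => conj (((ψ : IrrCharacter G) : G → ℂ) w)) ?_ ⟨φ, hφ⟩
    · simpa using h
    funext g
    simp only [Finset.sum_apply, Pi.smul_apply, smul_eq_mul, Pi.zero_apply]
    by_cases hg : p ∣ orderOf g
    · refine Finset.sum_eq_zero fun ψ _ => ?_
      have : pRegularPart p ((ψ : IrrCharacter G) : G → ℂ) g = 0 := if_neg fun h => h hg
      rw [this, mul_zero]
    · have h0 := H20.weak_orthogonality hM hB (x := g) (y := w) hg hw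
      rw [H20.finsum_mem_eq_sum_ite, ← Finset.sum_filter,
        Finset.sum_subtype (p := (· ∈ B)) _ (fun ψ => by simp)] at h0
      rw [← h0]
      refine Finset.sum_congr rfl fun ψ _ => ?_
      have : pRegularPart p ((ψ : IrrCharacter G) : G → ℂ) g = ((ψ : IrrCharacter G) : G → ℂ) g :=
        if_pos hg
      rw [this, mul_comm]
  have hmin : ∀ φ ∈ B, (charDegree (φ : G → ℂ)).factorization p = (Nat.card G).factorization p :=
    fun φ hφ => H20.defect_zero_of_vanish hM φ fun w hw => hvan φ hφ w (by rw [hw])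
  rw [blockDefect, show (fun φ : IrrCharacter G => (charDegree (φ : G → ℂ)).factorization p) '' B =
    {(Nat.card G).factorization p} from Set.eq_singleton_iff_unique_mem.2
      ⟨⟨χ, hχ, hmin χ hχ⟩, by rintro _ ⟨φ, hφ, rfl⟩; exact hmin φ hφ⟩, csInf_singleton, Nat.sub_self]

end H24
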