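import Cfsg.Agent.H24.ClassTwoNeighbour
import Cfsg.Agent.S2007
import Cfsg.Agent.S3839

/-!
A normal 2-complement criterion for a Sylow 2-subgroup `S` of class at most two under a group of
automorphisms of odd order fixing `S`: it is enough that the odd-order elements normalizing an
invariant nontrivial normal subgroup of `S` centralize `S`.
-/

set_option autoImplicit false
set_option linter.unusedSectionVars false
set_option linter.style.haveILetI false

namespace H24.ClassTwo

open Subgroup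

variable {G : Type*} [Group G]

section Transport

variable (α : MulAut G) {U : Subgroup G}

theorem mem_map_aut {x : G} : x ∈ U.map α.toMonoidHom ↔ α⁻¹ x ∈ U := by
  constructor
  · rintro ⟨y, hy, rfl⟩
    rwa [show α⁻¹ (α.toMonoidHom y) = y from α.symm_apply_apply y]
  · exact fun h => ⟨α⁻¹ x, h, α.apply_symm_apply x⟩

theorem map_normalizer_aut {n : G} (hn : n ∈ normalizer (U : Set G)) :
    α n ∈ normalizer ((U.map α.toMonoidHom : Subgroup G) : Set G) := by
  refine mem_normalizer_iff.mpr fun h => ?_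
  rw [mem_map_aut, mem_map_aut, map_mul, map_mul, map_inv,
    show α⁻¹ (α n) = n from α.symm_apply_apply n]
  exact mem_normalizer_iff.mp hn _

theorem map_centralizer_aut {n : G} (hn : α n ∈ centralizer ((U.map α.toMonoidHom : Subgroup G) : Set G)) :
    n ∈ centralizer (U : Set G) := by
  refine mem_centralizer_iff.mpr fun u hu => α.injective ?_
  have h : α u ∈ (U.map α.toMonoidHom : Subgroup G) := ⟨u, hu, rfl⟩
  rw [map_mul, map_mul]
  exact mem_centralizer_iff.mp hn (α u) h

theorem bad_map_aut (h : Bad U) : Bad (U.map α.toMonoidHom) := by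
  obtain ⟨n, hn, hno, hnc⟩ := h
  exact ⟨α n, map_normalizer_aut α hn, by rwa [MulEquiv.orderOf_eq],
    fun hc => hnc (map_centralizer_aut α hc)⟩

theorem map_map_inv (V : Subgroup G) :
    (V.map (α⁻¹).toMonoidHom).map α.toMonoidHom = V := by
  ext x
  rw [mem_map_aut, mem_map_aut, inv_inv, show α (α⁻¹ x) = x from α.apply_symm_apply x]

theorem map_inv_map (V : Subgroup G) :
    (V.map α.toMonoidHom).map (α⁻¹).toMonoidHom = V := by
  simpa using map_map_inv α⁻¹ V

theorem qsub_map_le : (qsub U).map α.toMonoidHom ≤ qsub (U.map α.toMonoidHom) := by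
  rw [qsub, MonoidHom.map_closure, closure_le]
  rintro _ ⟨_, ⟨z, hz, n, hn, hno, rfl⟩, rfl⟩
  refine subset_closure ⟨α z, ?_, α n, map_normalizer_aut α hn, by rwa [MulEquiv.orderOf_eq],
    by simp⟩
  rw [mem_cen_iff] at hz ⊢
  refine ⟨⟨z, hz.1, rfl⟩, ?_⟩
  rintro _ ⟨u, hu, rfl⟩
  show α u * α z = α z * α u
  rw [← map_mul, hz.2 u hu, map_mul]

theorem qsub_map (U : Subgroup G) : (qsub U).map α.toMonoidHom = qsub (U.map α.toMonoidHom) := by
  refine le_antisymm (qsub_map_le α) ?_
  have h := map_mono (f := α.toMonoidHom) (qsub_map_le α⁻¹ (U := U.map α.toMonoidHom))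
  rwa [map_map_inv, map_inv_map] at h

theorem maxBad_map_aut {S : Sylow 2 G} (hS : (S : Subgroup G).map α.toMonoidHom = (S : Subgroup G))
    (hU : MaxBad S U) : MaxBad S (U.map α.toMonoidHom) := by
  have hS' : ∀ x : G, x ∈ S ↔ α⁻¹ x ∈ S := fun x => by
    show x ∈ (S : Subgroup G) ↔ _
    conv_lhs => rw [← hS]
    exact mem_map_aut α
  refine ⟨(map_mono hU.le).trans hS.le, ?_, bad_map_aut α hU.bad, ?_⟩
  · rintro x ⟨hxS, hxc⟩
    rw [mem_map_aut]
    refine hU.centr ⟨(hS' x).mp hxS, map_centralizer_aut α ?_⟩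
    rwa [show α (α⁻¹ x) = x from α.apply_symm_apply x]
  · intro V hV hVS hbad
    refine hU.max (V.map (α⁻¹).toMonoidHom) ?_ ?_ (bad_map_aut α⁻¹ hbad)
    · refine lt_of_le_of_ne ?_ fun e => hV.ne (by rw [e, map_map_inv])
      have h := map_mono (f := (α⁻¹).toMonoidHom) hV.le
      rwa [map_inv_map] at h
    · have h := map_mono (f := (α⁻¹).toMonoidHom) hVS
      have e := map_inv_map α (S : Subgroup G)
      rw [hS] at e
      exact h.trans e.le

end Transport

/-- The criterion. -/
theorem hasNormalPComplement [Finite G] {A : Type*} [Group A] (S : Sylow 2 G)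
    (hcl : ∀ a ∈ S, ∀ b ∈ S, ∀ c ∈ S, c * (a * b * a⁻¹ * b⁻¹) = a * b * a⁻¹ * b⁻¹ * c)
    (φ : A →* MulAut G) (hodd : ∀ a, Odd (orderOf (φ a)))
    (hSinv : ∀ a, ∀ s ∈ S, φ a s ∈ S)
    (hY : ∀ Y : Subgroup G, Y ≤ (S : Subgroup G) → Y ≠ ⊥ →
      (S : Subgroup G) ≤ normalizer (Y : Set G) → (∀ a, ∀ y ∈ Y, φ a y ∈ Y) →
      ∀ n ∈ normalizer (Y : Set G), Odd (orderOf n) → n ∈ centralizer ((S : Subgroup G) : Set G)) :
    Cfsg.HasNormalPComplement 2 G := by
  classical
  refine (Cfsg.Agent.S3839.result S (S : Subgroup G) ⟨le_rfl, fun _ _ _ hg => hg⟩).mpr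
    fun U hUS hcU => ?_
  have hSN : (S : Subgroup G) ≤ normalizer (U : Set G) := by
    intro s hsS
    refine mem_normalizer_fintype fun u hu => ?_
    have h1 : s * u * s⁻¹ * u⁻¹ ∈ (S : Subgroup G) ⊓ centralizer (U : Set G) := by
      refine ⟨?_, mem_centralizer_iff.mpr fun w hw => hcl s hsS u (hUS hu) w (hUS hw)⟩
      exact (S : Subgroup G).mul_mem ((S : Subgroup G).mul_mem ((S : Subgroup G).mul_mem hsS
        (hUS hu)) ((S : Subgroup G).inv_mem hsS)) ((S : Subgroup G).inv_mem (hUS hu))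
    have h := U.mul_mem (hcU h1) hu
    rwa [inv_mul_cancel_right] at h
  refine Cfsg.Agent.S2007.result S U hUS hSN hcU fun g hg hgo => ?_
  by_contra hgc
  by_cases hS1 : (S : Subgroup G) = ⊥
  · refine hgc (mem_centralizer_iff.mpr fun u hu => ?_)
    have := hUS hu
    rw [hS1, mem_bot] at this
    rw [this, one_mul, mul_one]
  have hs : Setup S := ⟨hcl, hY S le_rfl hS1 le_normalizer hSinv⟩
  obtain ⟨U0, hUU0, hmax⟩ := exists_maximal_ge_of_wellFoundedGT
    (fun V : Subgroup G => V ≤ (S : Subgroup G) ∧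
      (S : Subgroup G) ⊓ centralizer (V : Set G) ≤ V ∧ Bad V) U
    ⟨hUS, hcU, g, hg, Nat.coprime_two_right.mp hgo, hgc⟩
  have hU0 : MaxBad S U0 := ⟨hmax.prop.1, hmax.prop.2.1, hmax.prop.2.2, fun V hV hVS hbad =>
    hV.not_ge (hmax.le_of_ge ⟨hVS,
      le_trans (inf_le_inf_left _ (centralizer_le hV.le)) (hmax.prop.2.1.trans hV.le), hbad⟩ hV.le)⟩
  have hSmap : ∀ a, (S : Subgroup G).map (φ a).toMonoidHom = (S : Subgroup G) := fun a =>
    Subgroup.eq_of_le_of_card_ge (by rintro _ ⟨x, hx, rfl⟩; exact hSinv a x hx)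
      (le_of_eq (card_map_of_injective (φ a).injective).symm)
  set O : A → Subgroup G := fun a => U0.map (φ a).toMonoidHom with hO
  have hmb : ∀ a, MaxBad S (O a) := fun a => maxBad_map_aut (φ a) (hSmap a) hU0
  have hmul : ∀ a b, (O b).map (φ a).toMonoidHom = O (a * b) := fun a b => by
    simp only [hO, map_map, map_mul]
    rfl
  have hO1 : O 1 = U0 := by
    simp only [hO, map_one]
    exact map_id U0
  -- no two members of the orbit are adjacent
  have hind : ∀ a, qsub (O a) ≤ U0 := by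
    intro a
    by_contra hadj
    have hne : O a ≠ U0 := fun e => hadj (e ▸ (qsub_le_cen _).trans inf_le_left)
    have hadj2 : ¬ qsub (O (a * a)) ≤ O a := by
      intro hle
      rw [← hmul a a, ← qsub_map] at hle
      exact hadj ((map_le_map_iff_of_injective (φ a).injective).mp hle)
    have e := neighbour_unique hs (hmb a) hU0 (hmb (a * a)) (adj_symm hs hU0 (hmb a) hadj) hadj2
    -- the stabilizer of `U0` contains a square root of the identity of odd order
    have hstab : ∀ i : ℕ, O ((a * a) ^ i) = U0 := by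
      intro i
      induction i with
      | zero => simpa using hO1
      | succ i ih => rw [pow_succ', ← hmul, ih]; exact e.symm
    obtain ⟨k, hk⟩ := hodd a
    have hk' : φ ((a * a) ^ (k + 1)) = φ a := by
      rw [map_pow, map_mul, ← sq, ← pow_mul, show 2 * (k + 1) = orderOf (φ a) + 1 by omega,
        pow_succ, pow_orderOf_eq_one, one_mul]
    have e2 := hstab (k + 1)
    simp only [hO] at e2 hne
    rw [hk'] at e2
    exact hne e2
  have hindO : ∀ a b, qsub (O a) ≤ O b := by
    intro a b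
    have h := map_mono (f := (φ b).toMonoidHom) (hind (b⁻¹ * a))
    rwa [qsub_map, hmul, mul_inv_cancel_left] at h
  set Y : Subgroup G := ⨆ a, qsub (O a) with hYdef
  have hYU : Y ≤ U0 := iSup_le fun a => hO1 ▸ hindO a 1
  have hconj : ∀ (x : G), (∀ a, ∀ q ∈ qsub (O a), x * q * x⁻¹ ∈ Y) → x ∈ normalizer (Y : Set G) := by
    intro x hx
    refine mem_normalizer_fintype fun y hy => ?_
    suffices e : Y ≤ Y.comap (MulAut.conj x).toMonoidHom from e hy
    rw [hYdef]
    exact iSup_le fun a q hq => hx a q hq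
  have hYS : (S : Subgroup G) ≤ normalizer (Y : Set G) := fun x hx => hconj x fun a q hq =>
    (le_iSup (fun a => qsub (O a)) a) (conj_mem_qsub (le_normalizer_U hs (hmb a) hx) hq)
  have hYinv : ∀ a, ∀ y ∈ Y, φ a y ∈ Y := by
    intro a
    suffices e : Y.map (φ a).toMonoidHom ≤ Y from fun y hy => e ⟨y, hy, rfl⟩
    rw [hYdef, Subgroup.map_iSup]
    refine iSup_le fun b => ?_
    rw [qsub_map, hmul]
    exact le_iSup (fun a => qsub (O a)) (a * b)
  have hYne : Y ≠ ⊥ := fun h => qsub_ne_bot hs (hmb 1)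
    (le_bot_iff.mp (h ▸ le_iSup (fun a => qsub (O a)) 1))
  obtain ⟨n, hn, hno, hnc⟩ := hU0.bad
  have hnY : n ∈ normalizer (Y : Set G) := hconj n fun a q hq => by
    have hqU : q ∈ U0 := hO1 ▸ hindO a 1 hq
    have h1 := inv_mul_conj_mem_qsub hs hU0 hn hno hqU
    have h0 : qsub U0 ≤ Y := by
      conv_lhs => rw [← hO1]
      exact le_iSup (fun a => qsub (O a)) 1
    have h2 := Y.mul_mem ((le_iSup (fun a => qsub (O a)) a) hq) (h0 h1)
    rwa [show q * (q⁻¹ * (n * q * n⁻¹)) = n * q * n⁻¹ by group] at h2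
  exact hnc (centralizer_le hU0.le (hY Y (hYU.trans hU0.le) hYne hYS hYinv n hnY hno))

end H24.ClassTwo
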