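import Cfsg.Agent.H24.ClassTwoSylowFacts

/-!
For a Sylow 2-subgroup of class at most two, two maximal bad subgroups `U`, `W` are adjacent when
`[Z(W), N_G(W)]` is not contained in `U`.  A maximal bad subgroup has at most one neighbour.
-/

set_option autoImplicit false
set_option linter.unusedSectionVars false
set_option linter.style.haveILetI false

namespace H24.ClassTwo

open Subgroup

variable {G : Type*} [Group G]

/-- The commutator `a b a⁻¹ b⁻¹`. -/
def comm (a b : G) : G := a * b * a⁻¹ * b⁻¹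

theorem comm_eq_one_iff {a b : G} : comm a b = 1 ↔ a * b = b * a := by
  rw [comm, mul_inv_eq_one, mul_inv_eq_iff_eq_mul]

theorem comm_swap (a b : G) : comm b a = (comm a b)⁻¹ := by
  simp [comm, mul_assoc]

theorem mul_eq_comm_mul (a b : G) : a * b = comm a b * (b * a) := by
  simp [comm, mul_assoc]

/-- A proper subgroup and another proper subgroup do not cover a group. -/
theorem exists_not_mem_not_mem {Q A B : Subgroup G} (hA : ¬ Q ≤ A) (hB : ¬ Q ≤ B) :
    ∃ x ∈ Q, x ∉ A ∧ x ∉ B := by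
  obtain ⟨a, haQ, haA⟩ := SetLike.not_le_iff_exists.mp hA
  obtain ⟨b, hbQ, hbB⟩ := SetLike.not_le_iff_exists.mp hB
  by_cases haB : a ∈ B
  · by_cases hbA : b ∈ A
    · exact ⟨a * b, Q.mul_mem haQ hbQ, fun h => haA ((A.mul_mem_cancel_right hbA).mp h),
        fun h => hbB ((B.mul_mem_cancel_left haB).mp h)⟩
    · exact ⟨b, hbQ, hbA, hbB⟩
  · exact ⟨a, haQ, haA, haB⟩

section

variable [Finite G] {S : Sylow 2 G} {U W : Subgroup G}

theorem qsub_le_sylow (hU : MaxBad S U) : qsub U ≤ (S : Subgroup G) :=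
  (qsub_le_cen U).trans (inf_le_left.trans hU.le)

theorem comm_centralizes_S (hs : Setup S) {a b x : G} (ha : a ∈ S) (hb : b ∈ S) (hx : x ∈ S) :
    x * comm a b = comm a b * x :=
  hs.cl a ha b hb x hx

theorem comm_mul_right (hs : Setup S) {a b c : G} (ha : a ∈ S) (hb : b ∈ S) (hc : c ∈ S) :
    comm a (b * c) = comm a b * comm a c := by
  calc comm a (b * c) = (a * b * a⁻¹) * comm a c * b⁻¹ := by simp [comm, mul_assoc]
    _ = (a * b * a⁻¹) * (comm a c * b⁻¹) := mul_assoc _ _ _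
    _ = (a * b * a⁻¹) * (b⁻¹ * comm a c) := by
        rw [comm_centralizes_S hs ha hc ((S : Subgroup G).inv_mem hb)]
    _ = _ := by simp [comm, mul_assoc]

theorem comm_mul_left (hs : Setup S) {a b c : G} (ha : a ∈ S) (hb : b ∈ S) (hc : c ∈ S) :
    comm (b * c) a = comm b a * comm c a := by
  rw [comm_swap a (b * c), comm_mul_right hs ha hb hc, mul_inv_rev, ← comm_swap, ← comm_swap]
  exact comm_centralizes_S hs hb ha ((S : Subgroup G).mul_mem ((S : Subgroup G).mul_mem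
    ((S : Subgroup G).mul_mem hc ha) ((S : Subgroup G).inv_mem hc)) ((S : Subgroup G).inv_mem ha))

theorem comm_qsub_of_mem {q u : G} (hq : q ∈ qsub U) (hu : u ∈ U) : comm q u = 1 :=
  comm_eq_one_iff.mpr ((mem_cen_iff.mp (qsub_le_cen U hq)).2 u hu).symm

/-- Outside `U`, the commutator with an element of `[Z(U), N_G(U)]` is constant. -/
theorem comm_eq_of_not_mem (hs : Setup S) (hU : MaxBad S U) {q t t' : G} (hq : q ∈ qsub U)
    (ht : t ∈ S) (ht' : t' ∈ S) (htU : t ∉ U) (ht'U : t' ∉ U) : comm q t = comm q t' := by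
  have h := inv_mul_mem hs hU ht ht' htU ht'U
  rw [show t' = t * (t⁻¹ * t') by group,
    comm_mul_right hs (qsub_le_sylow hU hq) ht (hU.le h), comm_qsub_of_mem hq h, mul_one]

theorem adj_symm (hs : Setup S) (hU : MaxBad S U) (hW : MaxBad S W) (h : ¬ qsub W ≤ U) :
    ¬ qsub U ≤ W := fun hle => h fun r hr =>
  mem_of_centralizes hs hU (qsub_le_sylow hW hr) fun q hq =>
    ((mem_cen_iff.mp (qsub_le_cen W hr)).2 q (hle hq)).symm

/-- The common value of the commutators attached to two adjacent maximal bad subgroups. -/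
theorem exists_value (hs : Setup S) (hU : MaxBad S U) (hW : MaxBad S W) (h : ¬ qsub W ≤ U) :
    ∃ z : G, z ≠ 1 ∧ z * z = 1 ∧ z ∈ qsub U ∧ z ∈ qsub W ∧
      (∀ q ∈ qsub U, ∀ t ∈ S, t ∉ U → comm q t = 1 ∨ comm q t = z) ∧
      (∀ r ∈ qsub W, ∀ t ∈ S, t ∉ W → comm r t = 1 ∨ comm r t = z) := by
  obtain ⟨r0, hr0, hr0U⟩ := SetLike.not_le_iff_exists.mp h
  obtain ⟨q0, hq0, hq0W⟩ := SetLike.not_le_iff_exists.mp (adj_symm hs hU hW h)
  have hr0S := qsub_le_sylow hW hr0
  have hq0S := qsub_le_sylow hU hq0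
  set z := comm q0 r0 with hz
  have hcalcU : ∀ q ∈ qsub U, ∀ t ∈ S, t ∉ U → comm q t = 1 ∨ comm q t = z := by
    intro q hq t ht htU
    rw [comm_eq_of_not_mem hs hU hq ht hr0S htU hr0U]
    by_cases hqW : q ∈ W
    · left
      rw [comm_swap r0 q, comm_qsub_of_mem hr0 hqW, inv_one]
    · right
      rw [comm_swap r0 q, comm_eq_of_not_mem hs hW hr0 (qsub_le_sylow hU hq) hq0S hqW hq0W,
        ← comm_swap]
  have hz1 : z ≠ 1 := by
    intro e
    refine hr0U (mem_of_centralizes hs hU hr0S fun q hq => ?_)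
    have hc := hcalcU q hq r0 hr0S hr0U
    rw [e, or_self] at hc
    exact (comm_eq_one_iff.mp hc).symm
  have hz2 : z * z = 1 := by
    rw [hz, ← comm_mul_right hs hq0S hr0S hr0S]
    exact comm_qsub_of_mem hq0 (sq_mem hs hU hr0S)
  have hzU : z ∈ qsub U := by
    have h1 := conj_mem_qsub (le_normalizer_U hs hU hr0S) ((qsub U).inv_mem hq0)
    rw [hz, comm, show q0 * r0 * q0⁻¹ * r0⁻¹ = q0 * (r0 * q0⁻¹ * r0⁻¹) by group]
    exact (qsub U).mul_mem hq0 h1
  have hzW : z ∈ qsub W := by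
    have h1 := conj_mem_qsub (le_normalizer_U hs hW hq0S) hr0
    rw [hz, comm]
    exact (qsub W).mul_mem h1 ((qsub W).inv_mem hr0)
  refine ⟨z, hz1, hz2, hzU, hzW, hcalcU, fun r hr t ht htW => ?_⟩
  rw [comm_eq_of_not_mem hs hW hr ht hq0S htW hq0W]
  by_cases hrU : r ∈ U
  · left
    rw [comm_swap q0 r, comm_qsub_of_mem hq0 hrU, inv_one]
  · right
    rw [comm_swap q0 r, comm_eq_of_not_mem hs hU hq0 (qsub_le_sylow hW hr) hr0S hrU hr0U]
    exact inv_eq_of_mul_eq_one_right hz2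

/-- With commutators of order two, `[Z(U), N_G(U)]` has exponent two. -/
theorem qsub_sq (hs : Setup S) (hU : MaxBad S U) {t z : G} (ht : t ∈ S) (htU : t ∉ U)
    (hz : z * z = 1) (hval : ∀ q ∈ qsub U, comm q t = 1 ∨ comm q t = z) {q : G} (hq : q ∈ qsub U) :
    q * q = 1 := by
  set R := closure {x : G | ∃ y ∈ qsub U, x = y * y} with hR
  have hRQ : R ≤ qsub U := by
    rw [hR, closure_le]
    rintro _ ⟨y, hy, rfl⟩
    exact (qsub U).mul_mem hy hy
  have hRn : ∀ p ∈ normalizer (U : Set G), ∀ r ∈ R, p * r * p⁻¹ ∈ R := by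
    intro p hp
    suffices e : R ≤ R.comap (MulAut.conj p).toMonoidHom from fun r hr => e hr
    conv_lhs => rw [hR]
    rw [closure_le]
    rintro _ ⟨y, hy, rfl⟩
    exact subset_closure ⟨p * y * p⁻¹, conj_mem_qsub hp hy,
      show p * (y * y) * p⁻¹ = p * y * p⁻¹ * (p * y * p⁻¹) by group⟩
  have hRt : R ≤ centralizer ({t} : Set G) := by
    rw [hR, closure_le]
    rintro _ ⟨y, hy, rfl⟩
    refine mem_centralizer_iff.mpr fun x hx => ?_
    rw [Set.mem_singleton_iff.mp hx]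
    refine (comm_eq_one_iff.mp ?_).symm
    rw [comm_mul_left hs ht (qsub_le_sylow hU hy) (qsub_le_sylow hU hy)]
    rcases hval y hy with e | e <;> rw [e]
    · rw [one_mul]
    · exact hz
  have := eq_one_of_centralized hs hU ht htU hRQ hRn fun r hr =>
    mem_centralizer_iff.mp (hRt hr) t rfl
  rw [eq_bot_iff_forall] at this
  exact this _ (subset_closure ⟨q, hq, rfl⟩)

/-- A commutator of elements of `U` in `[Z(U), N_G(U)]` is trivial. -/
theorem comm_eq_one_of_mem_qsub (hs : Setup S) (hU : MaxBad S U) {u v : G} (hu : u ∈ U)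
    (hv : v ∈ U) (h : comm u v ∈ qsub U) : comm u v = 1 := by
  refine eq_one_of_odd_fixed hs hU h fun n hn hno => ?_
  obtain ⟨ζ, hζ, hnu⟩ : ∃ ζ ∈ cen U, n * u * n⁻¹ = u * ζ :=
    ⟨_, mod_cen hs hU hn hno hu, by group⟩
  obtain ⟨ξ, hξ, hnv⟩ : ∃ ξ ∈ cen U, n * v * n⁻¹ = v * ξ :=
    ⟨_, mod_cen hs hU hn hno hv, by group⟩
  have e1 : n * comm u v * n⁻¹ = comm (u * ζ) (v * ξ) := by
    rw [← hnu, ← hnv]
    simp [comm, mul_assoc]
  have hc : ∀ x ∈ cen U, ∀ y ∈ U, comm y x = 1 := fun x hx y hy =>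
    comm_eq_one_iff.mpr ((mem_cen_iff.mp hx).2 y hy)
  have hzS : ∀ x ∈ cen U, x ∈ S := fun x hx => hU.le (mem_cen_iff.mp hx).1
  rw [e1, comm_mul_left hs ((S : Subgroup G).mul_mem (hU.le hv) (hzS ξ hξ)) (hU.le hu) (hzS ζ hζ),
    comm_mul_right hs (hU.le hu) (hU.le hv) (hzS ξ hξ), hc ξ hξ u hu, mul_one,
    comm_swap (v * ξ) ζ, hc ζ hζ _ (U.mul_mem hv (mem_cen_iff.mp hξ).1), inv_one, mul_one]

/-- A square of an element of `U` in `[Z(U), N_G(U)]` is trivial, if the latter has exponent two. -/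
theorem sq_eq_one_of_mem_qsub (hs : Setup S) (hU : MaxBad S U)
    (hel : ∀ q ∈ qsub U, q * q = 1) {x : G} (hx : x ∈ U) (h : x * x ∈ qsub U) : x * x = 1 := by
  refine eq_one_of_odd_fixed hs hU h fun n hn hno => ?_
  have h1 := inv_mul_conj_mem_qsub hs hU hn hno hx
  set ζ := x⁻¹ * (n * x * n⁻¹) with hζ
  have h2 : x * ζ = ζ * x := (mem_cen_iff.mp (qsub_le_cen U h1)).2 x hx
  calc n * (x * x) * n⁻¹ = x * ζ * (x * ζ) := by rw [hζ]; group
    _ = x * (x * ζ) * ζ := by rw [mul_assoc x ζ, ← mul_assoc ζ, ← h2]; group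
    _ = x * x * (ζ * ζ) := by group
    _ = x * x := by rw [hel ζ h1, mul_one]

theorem not_le_of_ne (hs : Setup S) {W1 W2 : Subgroup G} (h1 : MaxBad S W1) (h2 : MaxBad S W2)
    (hne : W1 ≠ W2) : ¬ W1 ≤ W2 := by
  intro hle
  exact h1.max W2 (lt_of_le_of_ne hle hne) h2.le h2.bad

/-- A maximal bad subgroup has at most one neighbour. -/
theorem neighbour_unique (hs : Setup S) {W1 W2 : Subgroup G} (hU : MaxBad S U)
    (h1 : MaxBad S W1) (h2 : MaxBad S W2) (hUW1 : ¬ qsub W1 ≤ U) (hUW2 : ¬ qsub W2 ≤ U) :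
    W1 = W2 := by
  by_contra hne
  obtain ⟨z, hz1, hz2, hzU, hzW1, hvU, hvW1⟩ := exists_value hs hU h1 hUW1
  obtain ⟨z', hz'1, hz'2, hz'U, hz'W2, hvU', hvW2'⟩ := exists_value hs hU h2 hUW2
  obtain ⟨a0, ha0, ha0U⟩ := SetLike.not_le_iff_exists.mp hUW1
  have ha0S := qsub_le_sylow h1 ha0
  have hzz : z' = z := by
    obtain ⟨q, hq, hqz⟩ : ∃ q ∈ qsub U, comm q a0 ≠ 1 := by
      by_contra hcon
      push Not at hcon
      exact ha0U (mem_of_centralizes hs hU ha0S fun q hq => (comm_eq_one_iff.mp (hcon q hq)).symm)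
    exact ((hvU' q hq a0 ha0S ha0U).resolve_left hqz).symm.trans
      ((hvU q hq a0 ha0S ha0U).resolve_left hqz)
  subst hzz
  by_cases hR : qsub W2 ≤ W1
  · obtain ⟨s, hsW1, hsW2⟩ := SetLike.not_le_iff_exists.mp (not_le_of_ne hs h1 h2 hne)
    obtain ⟨b, hb, hbs⟩ : ∃ b ∈ qsub W2, comm b s ≠ 1 := by
      by_contra hcon
      push Not at hcon
      exact hsW2 (mem_of_centralizes hs h2 (h1.le hsW1) fun b hb =>
        (comm_eq_one_iff.mp (hcon b hb)).symm)
    have e := (hvW2' b hb s (h1.le hsW1) hsW2).resolve_left hbs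
    exact hz1 (e ▸ comm_eq_one_of_mem_qsub hs h1 (hR hb) hsW1 (e.symm ▸ hzW1))
  · have hR' := adj_symm hs h1 h2 hR
    obtain ⟨a, ha, haU, haW2⟩ := exists_not_mem_not_mem hUW1 hR'
    obtain ⟨b, hb, hbU, hbW1⟩ := exists_not_mem_not_mem hUW2 hR
    obtain ⟨c, hc, hcW1, hcW2⟩ :=
      exists_not_mem_not_mem (adj_symm hs hU h1 hUW1) (adj_symm hs hU h2 hUW2)
    have haS := qsub_le_sylow h1 ha
    have hbS := qsub_le_sylow h2 hb
    have hcS := qsub_le_sylow hU hc
    have hnz : ∀ {V : Subgroup G}, MaxBad S V → ∀ {q t : G}, q ∈ S → t ∈ qsub V → q ∉ V →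
        (∀ q' ∈ S, q' ∉ V → comm t q' = 1 ∨ comm t q' = z') →
        ∀ {V' : Subgroup G}, MaxBad S V' → q ∈ qsub V' → t ∉ V' → comm t q = z' := by
      intro V hV q t hqS ht hqV hval V' hV' hq' htV'
      refine (hval q hqS hqV).resolve_left fun e => htV' (mem_of_centralizes hs hV'
        (qsub_le_sylow hV ht) fun r hr => ?_)
      by_cases hrV : r ∈ V
      · exact ((mem_cen_iff.mp (qsub_le_cen V ht)).2 r hrV).symm
      · exact comm_eq_one_iff.mp
          ((comm_eq_of_not_mem hs hV ht (qsub_le_sylow hV' hr) hqS hrV hqV).trans e)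
    have kba : comm b a = z' := hnz h2 haS hb haW2 (fun q' => hvW2' b hb q') h1 ha hbW1
    have kca : comm c a = z' := hnz hU haS hc haU (fun q' => hvU c hc q') h1 ha hcW1
    have kcb : comm c b = z' := hnz hU hbS hc hbU (fun q' => hvU c hc q') h2 hb hcW2
    have hzc : ∀ x ∈ S, z' * x = x * z' := fun x hx => by
      rw [← kcb]; exact (comm_centralizes_S hs hcS hbS hx).symm
    have hxS : a * b * c ∈ S := (S : Subgroup G).mul_mem ((S : Subgroup G).mul_mem haS hbS) hcS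
    have hxW1 : a * b * c ∈ W1 := by
      refine mem_of_centralizes hs h1 hxS fun r hr => (comm_eq_one_iff.mp ?_).symm
      have hrS := qsub_le_sylow h1 hr
      rw [comm_mul_right hs hrS ((S : Subgroup G).mul_mem haS hbS) hcS,
        comm_mul_right hs hrS haS hbS,
        show comm r a = 1 from comm_eq_one_iff.mpr
          ((mem_cen_iff.mp (qsub_le_cen W1 ha)).2 r (mem_cen_iff.mp (qsub_le_cen W1 hr)).1),
        one_mul, comm_eq_of_not_mem hs h1 hr hbS hcS hbW1 hcW1]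
      rcases hvW1 r hr c hcS hcW1 with e | e <;> rw [e]
      · rw [one_mul]
      · exact hz2
    have hel1 : ∀ q ∈ qsub W1, q * q = 1 := fun q hq =>
      qsub_sq hs h1 hcS hcW1 hz2 (fun q' hq' => hvW1 q' hq' c hcS hcW1) hq
    have ea : a * a = 1 := hel1 a ha
    have eb : b * b = 1 :=
      qsub_sq hs h2 hcS hcW2 hz2 (fun q' hq' => hvW2' q' hq' c hcS hcW2) hb
    have ec : c * c = 1 := qsub_sq hs hU haS haU hz2 (fun q' hq' => hvU q' hq' a haS haU) hc
    have e1 : c * a = z' * (a * c) := by rw [← kca]; exact mul_eq_comm_mul c a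
    have e2 : c * b = z' * (b * c) := by rw [← kcb]; exact mul_eq_comm_mul c b
    have e3 : b * a = z' * (a * b) := by rw [← kba]; exact mul_eq_comm_mul b a
    have hsq : a * b * c * (a * b * c) = z' := by
      calc a * b * c * (a * b * c) = a * b * (c * a) * (b * c) := by group
        _ = a * b * z' * (a * c) * (b * c) := by rw [e1]; group
        _ = z' * (a * (b * a) * (c * b) * c) := by
            rw [← hzc _ ((S : Subgroup G).mul_mem haS hbS)]; group
        _ = z' * (a * (z' * (a * b)) * (z' * (b * c)) * c) := by rw [e2, e3]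
        _ = z' * (a * z' * a * b * z' * b * (c * c)) := by group
        _ = z' * (z' * (a * a) * (z' * (b * b))) := by
            rw [ec, mul_one, ← hzc a haS, mul_assoc (z' * a * a) b z', ← hzc b hbS]; group
        _ = z' := by rw [ea, eb, mul_one, hz2, mul_one]
    have hone := sq_eq_one_of_mem_qsub hs h1 hel1 hxW1 (hsq.symm ▸ hzW1)
    exact hz1 (hsq ▸ hone)

end

end H24.ClassTwo
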