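import Cfsg.Agent.H24.ClassTwoSylowCore

/-!
The structure of a maximal bad subgroup of a Sylow 2-subgroup of class at most two.
-/

set_option autoImplicit false
set_option linter.unusedSectionVars false
set_option linter.style.haveILetI false

namespace H24.ClassTwo

open Subgroup

variable {G : Type*} [Group G]

/-- The standing hypotheses: class at most two, and odd elements normalizing `S` centralize it. -/
structure Setup (S : Sylow 2 G) : Prop where
  cl : ∀ a ∈ S, ∀ b ∈ S, ∀ c ∈ S, c * (a * b * a⁻¹ * b⁻¹) = a * b * a⁻¹ * b⁻¹ * c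
  cent : ∀ n ∈ normalizer ((S : Subgroup G) : Set G), Odd (orderOf n) →
    n ∈ centralizer ((S : Subgroup G) : Set G)

/-- A maximal bad subgroup. -/
structure MaxBad (S : Sylow 2 G) (U : Subgroup G) : Prop where
  le : U ≤ (S : Subgroup G)
  centr : (S : Subgroup G) ⊓ centralizer (U : Set G) ≤ U
  bad : Bad U
  max : ∀ V : Subgroup G, U < V → V ≤ (S : Subgroup G) → ¬ Bad V

section

variable [Finite G] {S : Sylow 2 G} {U : Subgroup G}

theorem comm_mem_cen (hs : Setup S) (hU : MaxBad S U) {a b : G} (ha : a ∈ S) (hb : b ∈ S) :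
    a * b * a⁻¹ * b⁻¹ ∈ cen U := by
  have h1 : a * b * a⁻¹ * b⁻¹ ∈ (S : Subgroup G) ⊓ centralizer (U : Set G) := by
    refine ⟨?_, mem_centralizer_iff.mpr fun u hu => hs.cl a ha b hb u (hU.le hu)⟩
    exact (S : Subgroup G).mul_mem ((S : Subgroup G).mul_mem ((S : Subgroup G).mul_mem ha hb)
      ((S : Subgroup G).inv_mem ha)) ((S : Subgroup G).inv_mem hb)
  exact ⟨hU.centr h1, h1.2⟩

theorem le_normalizer_U (hs : Setup S) (hU : MaxBad S U) :
    (S : Subgroup G) ≤ normalizer (U : Set G) := by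
  intro s hsS
  refine mem_normalizer_fintype fun u hu => ?_
  have h := mul_mem (comm_mem_cen hs hU hsS (hU.le hu)).1 hu
  rwa [inv_mul_cancel_right] at h

/-- The subgroup of elements acting trivially on `U / Z(U)`. -/
def modCen (U : Subgroup G) : Subgroup (normalizer (U : Set G)) where
  carrier := {p | ∀ u ∈ U, u⁻¹ * ((p : G) * u * (p : G)⁻¹) ∈ cen U}
  one_mem' := by
    intro u _
    simp
  mul_mem' := by
    intro p q hp hq u hu
    have h := mul_mem (hp u hu) (conj_mem_cen p.2 (hq u hu))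
    convert h using 1
    push_cast
    group
  inv_mem' := by
    intro p hp u hu
    have hu' : (p : G)⁻¹ * u * p ∈ U := (mem_normalizer_iff''.mp p.2 u).mp hu
    have h := (cen U).inv_mem (hp _ hu')
    convert h using 1
    push_cast
    group

instance modCen_normal : (modCen U).Normal := by
  constructor
  intro p hp c u hu
  have hu' : (c : G)⁻¹ * u * c ∈ U := (mem_normalizer_iff''.mp c.2 u).mp hu
  have h := conj_mem_cen c.2 (hp _ hu')
  convert h using 1
  push_cast
  group

theorem mem_normalizer_of_sylow {m : normalizer (U : Set G)} {K : Subgroup (normalizer (U : Set G))}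
    (hK : ∀ x : normalizer (U : Set G), x ∈ K ↔ (x : G) ∈ S) (hSU : (S : Subgroup G) ≤ normalizer (U : Set G))
    (hm : m ∈ normalizer (K : Set (normalizer (U : Set G)))) :
    (m : G) ∈ normalizer ((S : Subgroup G) : Set G) := by
  refine mem_normalizer_fintype fun s hsS => ?_
  exact (hK _).mp (conj_mem_of_mem_normalizer hm ((hK ⟨s, hSU hsS⟩).mpr hsS))

theorem mod_cen (hs : Setup S) (hU : MaxBad S U) {n : G} (hn : n ∈ normalizer (U : Set G))
    (hno : Odd (orderOf n)) {u : G} (hu : u ∈ U) : u⁻¹ * (n * u * n⁻¹) ∈ cen U := by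
  classical
  have hSU := le_normalizer_U hs hU
  let S' := S.subtype hSU
  have hS'le : (S' : Subgroup _) ≤ modCen U := by
    intro s hsS v hv
    have hc := comm_mem_cen hs hU (show (s : G) ∈ S from hsS) (hU.le hv)
    have h2 := (mem_cen_iff.mp hc).2 v hv
    show v⁻¹ * ((s : G) * v * (s : G)⁻¹) ∈ cen U
    convert hc using 1
    calc v⁻¹ * ((s : G) * v * (s : G)⁻¹)
        = v⁻¹ * ((s : G) * v * (s : G)⁻¹ * v⁻¹ * v) := by group
      _ = v⁻¹ * (v * ((s : G) * v * (s : G)⁻¹ * v⁻¹)) := by rw [← h2]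
      _ = _ := by group
  have hf := H32.frattini_inf S' (modCen U)
  rw [inf_eq_left.mpr hS'le] at hf
  have hp : (⟨n, hn⟩ : normalizer (U : Set G)) ∈
      normalizer ((S' : Subgroup (normalizer (U : Set G))) : Set _) ⊔ modCen U := by
    rw [hf]; trivial
  obtain ⟨m, hm, x, hx, hmx⟩ := mem_sup_of_normal_right.mp hp
  have hmS : (m : G) ∈ normalizer ((S : Subgroup G) : Set G) :=
    mem_normalizer_of_sylow (fun _ => Iff.rfl) hSU hm
  obtain ⟨k, hk1, hk2, -⟩ := exists_odd_pow (m : G) hno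
  have hmc := hs.cent _ (pow_mem hmS _) hk1
  have hmod : m ^ 2 ^ k ∈ modCen U := by
    intro v hv
    rw [SubgroupClass.coe_pow]
    rw [← mem_centralizer_iff.mp hmc v (hU.le hv), mul_inv_cancel_right, inv_mul_cancel]
    exact one_mem _
  have h1 : ((⟨n, hn⟩ : normalizer (U : Set G)) : normalizer (U : Set G) ⧸ modCen U) = 1 := by
    have e : (⟨n, hn⟩ : normalizer (U : Set G)) ^ 2 ^ k = ⟨n, hn⟩ := by
      refine Subtype.ext ?_
      rw [SubgroupClass.coe_pow]
      exact (pow_eq_pow_iff_modEq.mpr hk2).trans (pow_one n)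
    rw [← e, QuotientGroup.mk_pow, ← hmx, QuotientGroup.mk_mul,
      (QuotientGroup.eq_one_iff x).mpr hx, mul_one, ← QuotientGroup.mk_pow]
    exact (QuotientGroup.eq_one_iff _).mpr hmod
  exact (QuotientGroup.eq_one_iff _).mp h1 u hu

/-! ### The action on the centre -/

/-- The action of `N_G(U)` on `Z(U)` by conjugation. -/
def rho (U : Subgroup G) : normalizer (U : Set G) →* MulAut (cen U) where
  toFun p :=
    { toFun := fun z => ⟨p * z * (p : G)⁻¹, conj_mem_cen p.2 z.2⟩
      invFun := fun z => ⟨(p : G)⁻¹ * z * ((p : G)⁻¹)⁻¹, conj_mem_cen (inv_mem p.2) z.2⟩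
      left_inv := fun z => Subtype.ext (by simp [mul_assoc])
      right_inv := fun z => Subtype.ext (by simp [mul_assoc])
      map_mul' := fun a b => Subtype.ext (by simp [mul_assoc]) }
  map_one' := MulEquiv.ext fun z => Subtype.ext (by simp)
  map_mul' p q := MulEquiv.ext fun z => Subtype.ext (by simp [mul_assoc])

theorem rho_apply (p : normalizer (U : Set G)) (z : cen U) :
    (rho U p z : G) = p * z * (p : G)⁻¹ := rfl

theorem rho_eq_one_iff (p : normalizer (U : Set G)) :
    rho U p = 1 ↔ ∀ z ∈ cen U, (p : G) * z = z * p := by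
  refine ⟨fun h z hz => ?_, fun h => MulEquiv.ext fun z => Subtype.ext ?_⟩
  · have h1 : (rho U p ⟨z, hz⟩ : G) = z := by rw [h]; rfl
    rw [rho_apply] at h1
    exact mul_inv_eq_iff_eq_mul.mp h1
  · show (p : G) * z * (p : G)⁻¹ = z
    rw [h z z.2, mul_inv_cancel_right]

theorem rho_of_mem_U {p : normalizer (U : Set G)} (hp : (p : G) ∈ U) : rho U p = 1 :=
  (rho_eq_one_iff p).mpr fun _ hz => (mem_cen_iff.mp hz).2 _ hp

theorem rho_comm (hs : Setup S) (hU : MaxBad S U) {s t : normalizer (U : Set G)}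
    (hsS : (s : G) ∈ S) (htS : (t : G) ∈ S) : Commute (rho U s) (rho U t) := by
  have hc := comm_mem_cen hs hU hsS htS
  have h1 : rho U (s * t * s⁻¹ * t⁻¹) = 1 := by
    refine rho_of_mem_U ?_
    push_cast
    exact hc.1
  rw [map_mul, map_mul, map_mul, map_inv, map_inv, mul_inv_eq_one, mul_inv_eq_iff_eq_mul] at h1
  exact h1

theorem exists_two_pow_orderOf {p : normalizer (U : Set G)} (hp : (p : G) ∈ S) :
    ∃ j : ℕ, orderOf (rho U p) = 2 ^ j := by
  obtain ⟨a, ha⟩ := IsPGroup.iff_orderOf.mp S.isPGroup' ⟨p, hp⟩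
  rw [← Subgroup.orderOf_coe, Subgroup.orderOf_coe p] at ha
  obtain ⟨j, -, hj⟩ := (Nat.dvd_prime_pow Nat.prime_two).mp
    (ha ▸ orderOf_map_dvd (rho U) p)
  exact ⟨j, hj⟩

/-- The group of automorphisms of odd order induced on `Z(U)`. -/
theorem exists_oddPart (hs : Setup S) (hU : MaxBad S U) :
    ∃ H : Subgroup (MulAut (cen U)), Odd (Nat.card H) ∧
      (∀ p : normalizer (U : Set G), Odd (orderOf p) → rho U p ∈ H) ∧
      (∀ h ∈ H, ∃ p : normalizer (U : Set G), Odd (orderOf p) ∧ rho U p = h) ∧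
      (∀ (p : normalizer (U : Set G)), ∀ h ∈ H, rho U p * h * (rho U p)⁻¹ ∈ H) := by
  classical
  have hSU := le_normalizer_U hs hU
  let f := (rho U).rangeRestrict
  let S' := S.subtype hSU
  let T : Sylow 2 (rho U).range := S'.mapSurjective (MonoidHom.rangeRestrict_surjective (rho U))
  have hTmem : ∀ t : (rho U).range, t ∈ T ↔ ∃ s : normalizer (U : Set G), (s : G) ∈ S ∧ f s = t := by
    intro t
    exact Iff.rfl
  have hN : normalizer ((T : Subgroup (rho U).range) : Set (rho U).range) ≤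
      centralizer ((T : Subgroup (rho U).range) : Set (rho U).range) := by
    intro g hg
    obtain ⟨p, rfl⟩ := MonoidHom.rangeRestrict_surjective (rho U) g
    set P2 := (normalizer ((T : Subgroup (rho U).range) : Set (rho U).range)).comap f with hP2
    have hS'P2 : (S' : Subgroup _) ≤ P2 := fun s hsS => le_normalizer ((hTmem _).mpr ⟨s, hsS, rfl⟩)
    let X := (((T : Subgroup (rho U).range)).comap f).subgroupOf P2
    have hXn : X.Normal := ⟨fun x hx c => by
      show f ((c : normalizer (U : Set G)) * x * (c : normalizer (U : Set G))⁻¹) ∈ T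
      rw [map_mul, map_mul, map_inv]
      exact conj_mem_of_mem_normalizer c.2 hx⟩
    let S'' := S'.subtype hS'P2
    have hle : (S'' : Subgroup P2) ≤ X := fun s hsS => (hTmem _).mpr ⟨_, hsS, rfl⟩
    have hf := H32.frattini_inf S'' X
    rw [inf_eq_left.mpr hle] at hf
    have hp : (⟨p, hg⟩ : P2) ∈ normalizer ((S'' : Subgroup P2) : Set P2) ⊔ X := by
      rw [hf]; trivial
    obtain ⟨m, hm, x, hx, hmx⟩ := mem_sup_of_normal_right.mp hp
    have hmS : ((m : normalizer (U : Set G)) : G) ∈ normalizer ((S : Subgroup G) : Set G) := by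
      refine mem_normalizer_fintype fun s hsS => ?_
      have h := conj_mem_of_mem_normalizer hm
        (show (⟨⟨s, hSU hsS⟩, hS'P2 hsS⟩ : P2) ∈ (S'' : Subgroup P2) from hsS)
      exact h
    set mG : G := ((m : normalizer (U : Set G)) : G) with hmG
    have hm2 : H20.pPart 2 mG ∈ S := by
      have hn2 : H20.pPart 2 mG ∈ normalizer ((S : Subgroup G) : Set G) := pow_mem hmS _
      obtain ⟨j, hj⟩ := H20.exists_orderOf_pPart (p := 2) mG
      have hp2 : IsPGroup 2 (zpowers (H20.pPart 2 mG)) :=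
        IsPGroup.of_card (n := j) (by rw [Nat.card_zpowers, hj])
      have h2 : IsPGroup 2 ((S : Subgroup G) ⊔ zpowers (H20.pPart 2 mG) : Subgroup G) :=
        IsPGroup.to_sup_of_normal_left' S.isPGroup' hp2 (zpowers_le.mpr hn2)
      have h3 := le_sup_right (a := (S : Subgroup G)) (mem_zpowers (H20.pPart 2 mG))
      rw [S.3 h2 le_sup_left] at h3
      exact h3
    have hmq : H20.qPart 2 mG ∈ centralizer ((S : Subgroup G) : Set G) := by
      refine hs.cent _ (pow_mem hmS _) ?_
      rw [Nat.odd_iff, ← Nat.two_dvd_ne_zero]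
      exact H20.not_dvd_orderOf_qPart mG
    have hfp : f p = f m * f x := by
      rw [← map_mul]
      exact congrArg f (congrArg Subtype.val hmx).symm
    obtain ⟨s', hs'S, hs'x⟩ := (hTmem _).mp hx
    refine mem_centralizer_iff.mpr fun t ht => ?_
    obtain ⟨s, hsS, rfl⟩ := (hTmem t).mp ht
    refine Subtype.ext ?_
    show rho U s * ((f p : (rho U).range) : MulAut (cen U)) =
      ((f p : (rho U).range) : MulAut (cen U)) * rho U s
    have hs'x' : f s' = f (x : normalizer (U : Set G)) := hs'x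
    rw [hfp, Subgroup.coe_mul, ← hs'x']
    show rho U s * (rho U m * rho U s') = rho U m * rho U s' * rho U s
    have hms : Commute (rho U m) (rho U s) := by
      have hc := comm_mem_cen hs hU hm2 hsS
      have hq := mem_centralizer_iff.mp hmq s hsS
      have h1 : rho U ((m : normalizer (U : Set G)) * s * (m : normalizer (U : Set G))⁻¹ * s⁻¹) = 1 := by
        refine rho_of_mem_U ?_
        push_cast
        rw [← hmG, ← H20.pPart_mul_qPart (p := 2) mG]
        have e : H20.pPart 2 mG * H20.qPart 2 mG * (s : G) * (H20.pPart 2 mG * H20.qPart 2 mG)⁻¹ *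
            (s : G)⁻¹ = H20.pPart 2 mG * (s : G) * (H20.pPart 2 mG)⁻¹ * (s : G)⁻¹ := by
          calc H20.pPart 2 mG * H20.qPart 2 mG * (s : G) * (H20.pPart 2 mG * H20.qPart 2 mG)⁻¹ * (s : G)⁻¹
              = H20.pPart 2 mG * (H20.qPart 2 mG * (s : G)) * (H20.qPart 2 mG)⁻¹ *
                (H20.pPart 2 mG)⁻¹ * (s : G)⁻¹ := by group
            _ = H20.pPart 2 mG * ((s : G) * H20.qPart 2 mG) * (H20.qPart 2 mG)⁻¹ *
                (H20.pPart 2 mG)⁻¹ * (s : G)⁻¹ := by rw [hq]
            _ = _ := by group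
        rw [e]
        exact hc.1
      rw [map_mul, map_mul, map_mul, map_inv, map_inv, mul_inv_eq_one, mul_inv_eq_iff_eq_mul] at h1
      exact h1
    exact ((hms.symm).mul_right (rho_comm hs hU hsS hs'S)).eq
  let τ := MonoidHom.transferSylow T hN
  have hcompl := MonoidHom.ker_transferSylow_isComplement' T hN
  set K := τ.ker with hK
  have hKodd : Odd (Nat.card K) := by
    rw [Nat.odd_iff, ← Nat.two_dvd_ne_zero, ← hcompl.index_eq_card]
    exact T.not_dvd_index
  have hKidx : ∃ j : ℕ, K.index = 2 ^ j := by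
    obtain ⟨j, hj⟩ := IsPGroup.iff_card.mp T.isPGroup'
    exact ⟨j, by rw [hcompl.symm.index_eq_card, hj]⟩
  refine ⟨K.map (rho U).range.subtype, ?_, ?_, ?_, ?_⟩
  · rwa [card_map_of_injective (rho U).range.subtype_injective]
  · intro p hp
    refine ⟨f p, ?_, rfl⟩
    rw [SetLike.mem_coe, ← QuotientGroup.eq_one_iff, ← orderOf_eq_one_iff]
    obtain ⟨j, hj⟩ := hKidx
    refine Nat.eq_one_of_dvd_coprimes ((Nat.coprime_two_left.mpr hp).pow_left j) ?_ ?_
    · rw [← hj, index]
      exact orderOf_dvd_natCard _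
    · exact (orderOf_map_dvd ((QuotientGroup.mk' K).comp f) p)
  · rintro _ ⟨k, hk, rfl⟩
    obtain ⟨p, rfl⟩ := MonoidHom.rangeRestrict_surjective (rho U) k
    have ho : Odd (orderOf (rho U p)) := by
      refine hKodd.of_dvd_nat ?_
      have h1 := K.orderOf_dvd_natCard hk
      rwa [← Subgroup.orderOf_coe] at h1
    obtain ⟨a, ha1, ha2⟩ := exists_odd_lift (rho U) (m := p) ho ⟨0, by simp⟩
      (Commute.one_right _) (mul_one _).symm
    exact ⟨_, ha1, ha2⟩
  · rintro p _ ⟨k, hk, rfl⟩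
    exact ⟨f p * k * (f p)⁻¹, (MonoidHom.normal_ker τ).conj_mem k hk (f p), rfl⟩

variable {H : Subgroup (MulAut (cen U))}

/-- An odd automorphism commuting with the image of an element of `S ∖ U` is trivial. -/
theorem fpf (hs : Setup S) (hU : MaxBad S U)
    (hlift : ∀ h ∈ H, ∃ p : normalizer (U : Set G), Odd (orderOf p) ∧ rho U p = h)
    {s : normalizer (U : Set G)} (hsS : (s : G) ∈ S) (hsU : (s : G) ∉ U) {h : MulAut (cen U)}
    (hh : h ∈ H) (hc : Commute (rho U s) h) : h = 1 := by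
  classical
  have hSU := le_normalizer_U hs hU
  obtain ⟨n, hno, rfl⟩ := hlift h hh
  set c := rho U s with hcdef
  set P1 := (centralizer ({c} : Set (MulAut (cen U)))).comap (rho U) with hP1
  let S' := S.subtype hSU
  have hS'P1 : (S' : Subgroup _) ≤ P1 := fun t htS =>
    mem_centralizer_iff.mpr fun y hy => by
      rw [Set.mem_singleton_iff.mp hy]
      exact (rho_comm hs hU hsS htS).eq
  let X := ((zpowers c).comap (rho U)).subgroupOf P1
  have hXn : X.Normal := ⟨fun x hx p => by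
    show rho U ((p : normalizer (U : Set G)) * x * (p : normalizer (U : Set G))⁻¹) ∈ zpowers c
    obtain ⟨i, hi⟩ := mem_zpowers_iff.mp (show rho U x ∈ zpowers c from hx)
    have hp : Commute c (rho U p) := mem_centralizer_iff.mp p.2 c rfl
    rw [map_mul, map_mul, map_inv, ← hi, ((hp.zpow_left i).symm).eq, mul_inv_cancel_right]
    exact zpow_mem (mem_zpowers c) i⟩
  let S'' := S'.subtype hS'P1
  have hf := H32.frattini_inf S'' X
  have hnP1 : n ∈ P1 := mem_centralizer_iff.mpr fun y hy => by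
    rw [Set.mem_singleton_iff.mp hy]
    exact hc.eq
  have hp : (⟨n, hnP1⟩ : P1) ∈
      normalizer (((S'' : Subgroup P1) ⊓ X : Subgroup P1) : Set P1) ⊔ X := by rw [hf]; trivial
  obtain ⟨m, hm, x, hx, hmx⟩ := mem_sup_of_normal_right.mp hp
  obtain ⟨i, hi⟩ := mem_zpowers_iff.mp (show rho U x ∈ zpowers c from hx)
  have hm' : ((rho U).comp P1.subtype) m = rho U n * c ^ (-i) := by
    have h1 : rho U n = rho U m * rho U x := by
      rw [← map_mul]
      exact congrArg (rho U) (congrArg Subtype.val hmx).symm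
    show rho U m = _
    rw [h1, ← hi, zpow_neg, mul_inv_cancel_right]
  have hc2 : ∃ j : ℕ, orderOf (c ^ (-i)) = 2 ^ j := by
    obtain ⟨a, ha⟩ := exists_two_pow_orderOf (U := U) hsS
    obtain ⟨j, -, hj⟩ := (Nat.dvd_prime_pow Nat.prime_two).mp
      (ha ▸ orderOf_dvd_of_mem_zpowers (zpow_mem (mem_zpowers c) (-i)))
    exact ⟨j, hj⟩
  have hho : Odd (orderOf (rho U n)) := hno.of_dvd_nat (orderOf_map_dvd _ _)
  obtain ⟨k, hk1, hk2⟩ := exists_odd_lift ((rho U).comp P1.subtype) hho hc2
    ((hc.symm).zpow_right (-i)) hm'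
  -- the subgroup `V`
  set V : Subgroup G :=
    (((S' : Subgroup _) ⊓ (zpowers c).comap (rho U))).map (normalizer (U : Set G)).subtype with hV
  have hVS : V ≤ S := by
    rintro _ ⟨y, hy, rfl⟩
    exact hy.1
  have hUV : U < V := by
    refine lt_of_le_of_ne (fun u hu => ⟨⟨u, le_normalizer hu⟩, ⟨hU.le hu, ?_⟩, rfl⟩) fun e => hsU ?_
    · show rho U ⟨u, le_normalizer hu⟩ ∈ zpowers c
      rw [rho_of_mem_U hu]
      exact one_mem _
    · exact (SetLike.ext_iff.mp e _).mpr ⟨s, ⟨hsS, mem_zpowers c⟩, rfl⟩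
  set m' := m ^ 2 ^ k with hm'def
  have hmem : ((m' : normalizer (U : Set G)) : G) ∈ normalizer (V : Set G) := by
    refine mem_normalizer_fintype ?_
    rintro _ ⟨y, hy, rfl⟩
    have hyP1 : y ∈ P1 := hS'P1 hy.1
    have h1 := conj_mem_of_mem_normalizer (pow_mem hm (2 ^ k))
      (show (⟨y, hyP1⟩ : P1) ∈ (S'' : Subgroup P1) ⊓ X from ⟨hy.1, hy.2⟩)
    exact ⟨_, ⟨h1.1, h1.2⟩, rfl⟩
  have hodd : Odd (orderOf ((m' : normalizer (U : Set G)) : G)) := by
    rw [Subgroup.orderOf_coe, Subgroup.orderOf_coe]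
    exact hk1
  have hcen : ((m' : normalizer (U : Set G)) : G) ∈ centralizer (V : Set G) := by
    by_contra hcon
    exact hU.max V hUV hVS ⟨_, hmem, hodd, hcon⟩
  have h3 : rho U (m' : normalizer (U : Set G)) = 1 :=
    (rho_eq_one_iff _).mpr fun z hz =>
      (mem_centralizer_iff.mp hcen z (hUV.le (mem_cen_iff.mp hz).1)).symm
  exact hk2.symm.trans h3

/-- An element of odd order centralizing `Z(U)` centralizes `U`. -/
theorem centralizes_of_rho_one (hs : Setup S) (hU : MaxBad S U) {n : normalizer (U : Set G)}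
    (hno : Odd (orderOf n)) (h1 : rho U n = 1) : (n : G) ∈ centralizer (U : Set G) := by
  refine mem_centralizer_iff.mpr fun u hu => ?_
  rw [rho_eq_one_iff] at h1
  set ζ := u⁻¹ * ((n : G) * u * (n : G)⁻¹) with hζ
  have hζc : ζ ∈ cen U := mod_cen hs hU n.2 (by rwa [Subgroup.orderOf_coe]) hu
  have hit : ∀ i : ℕ, (n : G) ^ i * u * ((n : G) ^ i)⁻¹ = u * ζ ^ i := by
    intro i
    induction i with
    | zero => simp
    | succ i ih =>
      have hz : Commute (n : G) (ζ ^ i) := (Commute.pow_right (h1 ζ hζc) i)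
      rw [pow_succ' (n : G), mul_inv_rev]
      calc (n : G) * (n : G) ^ i * u * (((n : G) ^ i)⁻¹ * (n : G)⁻¹)
          = (n : G) * ((n : G) ^ i * u * ((n : G) ^ i)⁻¹) * (n : G)⁻¹ := by group
        _ = (n : G) * u * (ζ ^ i * (n : G)⁻¹) := by rw [ih]; group
        _ = (n : G) * u * ((n : G)⁻¹ * ζ ^ i) := by rw [hz.inv_left.symm.eq]
        _ = u * ζ * ζ ^ i := by rw [hζ]; group
        _ = u * ζ ^ (i + 1) := by rw [pow_succ' ζ, mul_assoc]
  have h2 := hit (orderOf n)
  rw [← Subgroup.orderOf_coe, pow_orderOf_eq_one] at h2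
  have h3 : ζ ^ orderOf (n : G) = 1 := by simpa using h2.symm
  obtain ⟨j, hj⟩ := IsPGroup.iff_orderOf.mp S.isPGroup' ⟨ζ, hU.le hζc.1⟩
  have h4 : ζ = 1 := by
    rw [← orderOf_eq_one_iff]
    refine Nat.eq_one_of_dvd_coprimes
      ((Nat.coprime_two_left.mpr (by rwa [Subgroup.orderOf_coe])).pow_left j) ?_
      (orderOf_dvd_of_pow_eq_one h3)
    rw [← hj, ← Subgroup.orderOf_coe]
  have h5 : u⁻¹ * ((n : G) * u * (n : G)⁻¹) = 1 := h4
  exact (mul_inv_eq_iff_eq_mul.mp (inv_mul_eq_one.mp h5).symm).symm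

end

end H24.ClassTwo
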