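import Cfsg.Agent.H20.PPart
import Cfsg.Agent.H32.Sylow
import Mathlib.GroupTheory.Transfer
import Mathlib.GroupTheory.GroupAction.ConjAct

/-!
Sylow 2-subgroups of class at most two: the structure of a maximal subgroup `U ≤ S` containing
`C_S(U)` whose normalizer induces some nontrivial automorphism of odd order on it.

`U` has index two in `S`; `Z = Z(U)` splits off `Q = [Z, N_G(U)]`, with `C_S(Q) = U`, and every
odd-order element of `N_G(U)` moves each element of `U` only inside its `Q`-coset.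
-/

set_option autoImplicit false
set_option linter.unusedSectionVars false
set_option linter.style.haveILetI false

namespace H24.ClassTwo

open Subgroup

variable {G : Type*} [Group G]

/-- Some element of odd order normalizes `U` without centralizing it. -/
def Bad (U : Subgroup G) : Prop :=
  ∃ n ∈ normalizer (U : Set G), Odd (orderOf n) ∧ n ∉ centralizer (U : Set G)

/-- The centre of `U`, inside `G`. -/
def cen (U : Subgroup G) : Subgroup G := U ⊓ centralizer (U : Set G)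

/-- `[Z(U), n]` for the odd-order elements `n` normalizing `U`. -/
def qsub (U : Subgroup G) : Subgroup G :=
  closure {q | ∃ z ∈ cen U, ∃ n ∈ normalizer (U : Set G), Odd (orderOf n) ∧
    q = z⁻¹ * (n * z * n⁻¹)}

theorem mem_cen_iff {U : Subgroup G} {z : G} :
    z ∈ cen U ↔ z ∈ U ∧ ∀ u ∈ U, u * z = z * u := by
  rw [cen, mem_inf, mem_centralizer_iff]
  rfl

theorem conj_mem_of_mem_normalizer {U : Subgroup G} {n x : G}
    (hn : n ∈ normalizer (U : Set G)) (hx : x ∈ U) : n * x * n⁻¹ ∈ U :=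
  (mem_normalizer_iff.mp hn x).mp hx

theorem conj_mem_cen {U : Subgroup G} {n z : G} (hn : n ∈ normalizer (U : Set G))
    (hz : z ∈ cen U) : n * z * n⁻¹ ∈ cen U := by
  rw [mem_cen_iff] at hz ⊢
  refine ⟨conj_mem_of_mem_normalizer hn hz.1, fun u hu => ?_⟩
  have hu' : n⁻¹ * u * n ∈ U := (mem_normalizer_iff''.mp hn u).mp hu
  have h := hz.2 _ hu'
  calc u * (n * z * n⁻¹) = n * (n⁻¹ * u * n * z) * n⁻¹ := by group
    _ = n * (z * (n⁻¹ * u * n)) * n⁻¹ := by rw [h]
    _ = n * z * n⁻¹ * u := by group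

theorem qsub_le_cen (U : Subgroup G) : qsub U ≤ cen U := by
  rw [qsub, closure_le]
  rintro q ⟨z, hz, n, hn, -, rfl⟩
  exact (cen U).mul_mem ((cen U).inv_mem hz) (conj_mem_cen hn hz)

theorem conj_mem_qsub [Finite G] {U : Subgroup G} {p q : G} (hp : p ∈ normalizer (U : Set G))
    (hq : q ∈ qsub U) : p * q * p⁻¹ ∈ qsub U := by
  suffices h : qsub U ≤ (qsub U).comap (MulAut.conj p).toMonoidHom from h hq
  conv_lhs => rw [qsub]
  rw [closure_le]
  rintro _ ⟨z, hz, n, hn, hno, rfl⟩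
  show p * (z⁻¹ * (n * z * n⁻¹)) * p⁻¹ ∈ qsub U
  refine subset_closure ⟨p * z * p⁻¹, conj_mem_cen hp hz, p * n * p⁻¹,
    mul_mem (mul_mem hp hn) (inv_mem hp), ?_, by group⟩
  rwa [show p * n * p⁻¹ = MulAut.conj p n from rfl, MulEquiv.orderOf_eq]

/-- A power, by a power of two, of any element has odd order, and can be the identity on a given
odd order. -/
theorem exists_odd_pow [Finite G] (m : G) {D : ℕ} (hD : Odd D) :
    ∃ k : ℕ, Odd (orderOf (m ^ 2 ^ k)) ∧ 2 ^ k ≡ 1 [MOD D] ∧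
      ∀ x : G, (∃ j : ℕ, orderOf x = 2 ^ j) → x ^ 2 ^ k = 1 := by
  refine ⟨Nat.totient D * Nat.card G, ?_, ?_, ?_⟩
  · have hk : ordProj[2] (orderOf m) ∣ 2 ^ (Nat.totient D * Nat.card G) := by
      refine Nat.pow_dvd_pow 2 ((Nat.factorization_lt 2 (orderOf_pos m).ne').le.trans ?_)
      exact (_root_.orderOf_le_card).trans (Nat.le_mul_of_pos_left _ (Nat.totient_pos.mpr hD.pos))
    have h1 : (m ^ 2 ^ (Nat.totient D * Nat.card G)) ^ ordCompl[2] (orderOf m) = 1 := by
      rw [← pow_mul, ← orderOf_dvd_iff_pow_eq_one]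
      conv_lhs => rw [← Nat.ordProj_mul_ordCompl_eq_self (orderOf m) 2]
      exact Nat.mul_dvd_mul_right hk _
    rw [Nat.odd_iff, ← Nat.two_dvd_ne_zero]
    intro h2
    exact Nat.not_dvd_ordCompl Nat.prime_two (orderOf_pos m).ne'
      (h2.trans (orderOf_dvd_of_pow_eq_one h1))
  · rw [pow_mul]
    have := (Nat.ModEq.pow_totient (Nat.coprime_two_left.mpr hD)).pow (Nat.card G)
    rwa [one_pow] at this
  · rintro x ⟨j, hj⟩
    rw [← orderOf_dvd_iff_pow_eq_one, hj]
    refine Nat.pow_dvd_pow 2 (le_trans ?_ (Nat.le_mul_of_pos_left _ (Nat.totient_pos.mpr hD.pos)))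
    exact le_trans (Nat.lt_two_pow_self).le (hj ▸ _root_.orderOf_le_card)

/-- The odd part of a lift of an element of odd order is a lift. -/
theorem exists_odd_lift {K L : Type*} [Group K] [Finite K] [Group L] [Finite L] (f : K →* L)
    {m : K} {h c : L} (hh : Odd (orderOf h)) (hc : ∃ j : ℕ, orderOf c = 2 ^ j)
    (hcomm : Commute h c) (hm : f m = h * c) :
    ∃ k : ℕ, Odd (orderOf (m ^ 2 ^ k)) ∧ f (m ^ 2 ^ k) = h := by
  obtain ⟨j, hj⟩ := hc
  obtain ⟨a, ha⟩ := exists_odd_pow m hh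
  obtain ⟨b, hb, hb1, hb2⟩ := exists_odd_pow c (D := orderOf h * orderOf (m ^ 2 ^ a)) (hh.mul ha.1)
  refine ⟨a + b, ?_, ?_⟩
  · rw [pow_add, pow_mul]
    exact Odd.of_dvd_nat ha.1 (orderOf_pow_dvd _)
  · have e1 : 2 ^ (a + b) ≡ 1 [MOD orderOf h] := by
      rw [pow_add]
      exact (ha.2.1.mul (hb1.of_mul_right _)).trans (by rw [one_mul])
    have e2 : c ^ 2 ^ (a + b) = 1 := by
      rw [pow_add, mul_comm, pow_mul, hb2 c ⟨j, hj⟩, one_pow]
    rw [map_pow, hm, hcomm.mul_pow, e2, mul_one]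
    exact (pow_eq_pow_iff_modEq.mpr e1).trans (pow_one h)

/-! ### Coprime automorphisms of an abelian 2-group -/

section Fixed

variable {Z : Type*} [CommGroup Z] [Finite Z]

theorem pow_bijective_of_odd (hZ : IsPGroup 2 Z) {m : ℕ} (hm : Odd m) :
    Function.Bijective fun z : Z => z ^ m := by
  obtain ⟨n, hn⟩ := IsPGroup.iff_card.mp hZ
  exact (powCoprime (by rw [hn]; exact (Nat.coprime_two_left.mpr hm).pow_left n)).bijective

theorem mem_of_pow_mem (hZ : IsPGroup 2 Z) {m : ℕ} (hm : Odd m) {R : Subgroup Z} {z : Z}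
    (hz : z ^ m ∈ R) : z ∈ R := by
  obtain ⟨⟨y, hy⟩, h⟩ := (pow_bijective_of_odd (hZ.to_subgroup R) hm).2 ⟨z ^ m, hz⟩
  have h' : y ^ m = z ^ m := congrArg Subtype.val h
  exact (pow_bijective_of_odd hZ hm).1 h' ▸ hy

variable (H : Subgroup (MulAut Z))

/-- `∏_{h ∈ H} h z`. -/
noncomputable def avg : Z →* Z :=
  haveI := Fintype.ofFinite H
  { toFun := fun z => ∏ h : H, (h : MulAut Z) z
    map_one' := by simp
    map_mul' := fun a b => by simp [Finset.prod_mul_distrib] }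

theorem avg_apply [Fintype H] (z : Z) : avg H z = ∏ h : H, (h : MulAut Z) z := by
  show Finset.prod _ _ = _
  exact Finset.prod_congr (Finset.ext fun _ => by simp) fun _ _ => rfl

theorem avg_of_fixed {z : Z} (hz : ∀ h ∈ H, h z = z) : avg H z = z ^ Nat.card H := by
  classical
  haveI := Fintype.ofFinite H
  rw [avg_apply, Finset.prod_congr rfl fun h _ => hz _ h.2, Finset.prod_const, Finset.card_univ,
    Nat.card_eq_fintype_card]

theorem avg_apply_eq {h₀ : MulAut Z} (h₀H : h₀ ∈ H) (z : Z) : avg H (h₀ z) = avg H z := by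
  classical
  haveI := Fintype.ofFinite H
  rw [avg_apply, avg_apply]
  refine Fintype.prod_equiv (Equiv.mulRight ⟨h₀, h₀H⟩) _ _ fun h => ?_
  simp [MulAut.mul_apply]

theorem avg_fixed (z : Z) {h₀ : MulAut Z} (h₀H : h₀ ∈ H) : h₀ (avg H z) = avg H z := by
  classical
  haveI := Fintype.ofFinite H
  rw [avg_apply, map_prod]
  refine Fintype.prod_equiv (Equiv.mulLeft ⟨h₀, h₀H⟩) _ _ fun h => ?_
  simp [MulAut.mul_apply]

/-- The subgroup moved by `H` meets the fixed points trivially. -/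
theorem eq_one_of_fixed (hZ : IsPGroup 2 Z) (hH : Odd (Nat.card H)) {R : Subgroup Z}
    (hR : R ≤ closure {x | ∃ z : Z, ∃ h ∈ H, x = z⁻¹ * h z}) {z : Z} (hzR : z ∈ R)
    (hz : ∀ h ∈ H, h z = z) : z = 1 := by
  have hker : closure {x | ∃ z : Z, ∃ h ∈ H, x = z⁻¹ * h z} ≤ (avg H).ker := by
    rw [closure_le]
    rintro _ ⟨y, h, hh, rfl⟩
    simp [avg_apply_eq H hh]
  have h1 : avg H z = 1 := hker (hR hzR)
  rw [avg_of_fixed H hz, ← one_pow (Nat.card H)] at h1
  exact (pow_bijective_of_odd hZ hH).1 h1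

/-- An odd power of every element is fixed times moved. -/
theorem exists_fixed_mul (z : Z) : ∃ c q : Z, (∀ h ∈ H, h c = c) ∧
    q ∈ closure {x | ∃ z : Z, ∃ h ∈ H, x = z⁻¹ * h z} ∧ z ^ Nat.card H = c * q := by
  classical
  haveI := Fintype.ofFinite H
  refine ⟨avg H z, ∏ h : H, z * ((h : MulAut Z) z)⁻¹, fun h hh => avg_fixed H z hh,
    Subgroup.prod_mem _ fun h _ => ?_, ?_⟩
  · have : z * ((h : MulAut Z) z)⁻¹ = (z⁻¹ * (h : MulAut Z) z)⁻¹ := by
      rw [mul_inv_rev, inv_inv, mul_comm]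
    rw [this]
    exact inv_mem (subset_closure ⟨z, h, h.2, rfl⟩)
  · rw [avg_apply, ← Finset.prod_mul_distrib]
    simp [Nat.card_eq_fintype_card]

end Fixed

end H24.ClassTwo
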