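import Cfsg.Agent.H24.ClassTwoSylow

/-!
Consequences for a maximal bad subgroup `U` of a Sylow 2-subgroup of class at most two.
-/

set_option autoImplicit false
set_option linter.unusedSectionVars false
set_option linter.style.haveILetI false

namespace H24.ClassTwo

open Subgroup

variable {G : Type*} [Group G]

instance cenCommGroup (U : Subgroup G) : CommGroup (cen U) where
  mul_comm a b := Subtype.ext ((mem_cen_iff.mp b.2).2 a (mem_cen_iff.mp a.2).1)

/-- `[Z(U), H]`. -/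
abbrev moved (U : Subgroup G) (H : Subgroup (MulAut (cen U))) : Subgroup (cen U) :=
  closure {x | ∃ z : cen U, ∃ h ∈ H, x = z⁻¹ * h z}

/-- The properties of the odd part of the automorphism group induced on `Z(U)`. -/
structure OddPart (U : Subgroup G) (H : Subgroup (MulAut (cen U))) : Prop where
  odd : Odd (Nat.card H)
  mem : ∀ p : normalizer (U : Set G), Odd (orderOf p) → rho U p ∈ H
  lift : ∀ h ∈ H, ∃ p : normalizer (U : Set G), Odd (orderOf p) ∧ rho U p = h
  conj : ∀ (p : normalizer (U : Set G)), ∀ h ∈ H, rho U p * h * (rho U p)⁻¹ ∈ H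

section

variable [Finite G] {S : Sylow 2 G} {U : Subgroup G} {H : Subgroup (MulAut (cen U))}

theorem oddPart_exists (hs : Setup S) (hU : MaxBad S U) : ∃ H, OddPart U H := by
  obtain ⟨H, h1, h2, h3, h4⟩ := exists_oddPart hs hU
  exact ⟨H, ⟨h1, h2, h3, h4⟩⟩

theorem isPGroup_cen (hU : MaxBad S U) : IsPGroup 2 (cen U) :=
  S.isPGroup'.to_le (inf_le_left.trans hU.le)

theorem map_moved (hH : OddPart U H) : (moved U H).map (cen U).subtype = qsub U := by
  rw [moved, MonoidHom.map_closure, qsub]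
  congr 1
  ext x
  constructor
  · rintro ⟨_, ⟨z, h, hh, rfl⟩, rfl⟩
    obtain ⟨p, hp, rfl⟩ := hH.lift h hh
    exact ⟨z, z.2, p, p.2, by rwa [Subgroup.orderOf_coe], rfl⟩
  · rintro ⟨z, hz, n, hn, hno, rfl⟩
    exact ⟨_, ⟨⟨z, hz⟩, _, hH.mem ⟨n, hn⟩ (by rwa [← Subgroup.orderOf_coe]), rfl⟩, rfl⟩

theorem mem_moved_iff (hH : OddPart U H) {x : cen U} : x ∈ moved U H ↔ (x : G) ∈ qsub U := by
  rw [← map_moved hH]
  exact (mem_map_iff_mem (cen U).subtype_injective).symm

theorem rho_mem_moved (hH : OddPart U H) (p : normalizer (U : Set G)) {x : cen U}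
    (hx : x ∈ moved U H) : rho U p x ∈ moved U H := by
  rw [mem_moved_iff hH] at hx ⊢
  exact conj_mem_qsub p.2 hx

theorem exists_ne_one (hs : Setup S) (hU : MaxBad S U) (hH : OddPart U H) :
    ∃ h ∈ H, h ≠ 1 := by
  obtain ⟨n, hn, hno, hnc⟩ := hU.bad
  refine ⟨_, hH.mem ⟨n, hn⟩ (by rwa [← Subgroup.orderOf_coe]), fun h => hnc ?_⟩
  exact centralizes_of_rho_one hs hU (n := ⟨n, hn⟩) (by rwa [← Subgroup.orderOf_coe]) h

/-- An element of `S` centralizing `[Z(U), N_G(U)]` lies in `U`. -/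
theorem mem_of_centralizes (hs : Setup S) (hU : MaxBad S U) {s : G} (hsS : s ∈ S)
    (hc : ∀ q ∈ qsub U, s * q = q * s) : s ∈ U := by
  obtain ⟨H, hH⟩ := oddPart_exists hs hU
  obtain ⟨h, hh, hne⟩ := exists_ne_one hs hU hH
  by_contra hsU
  set σ : normalizer (U : Set G) := ⟨s, le_normalizer_U hs hU hsS⟩ with hσ
  refine hne (fpf hs hU hH.lift (s := σ) hsS hsU hh ?_)
  have hsq : ∀ x ∈ moved U H, rho U σ x = x := fun x hx =>
    Subtype.ext (by
      rw [rho_apply]
      show s * (x : G) * s⁻¹ = x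
      rw [hc x ((mem_moved_iff hH).mp hx), mul_inv_cancel_right])
  refine MulEquiv.ext fun z => (pow_bijective_of_odd (isPGroup_cen hU) hH.odd).1 ?_
  obtain ⟨c, q, hc', hq, hz⟩ := exists_fixed_mul H z
  show (rho U σ (h z)) ^ Nat.card H = (h (rho U σ z)) ^ Nat.card H
  rw [← map_pow, ← map_pow, ← map_pow, ← map_pow, hz, map_mul, map_mul, map_mul, map_mul, hc' h hh]
  have hhq : h q ∈ moved U H := by
    obtain ⟨p, -, rfl⟩ := hH.lift h hh
    exact rho_mem_moved hH p hq
  rw [hsq q hq, hsq _ hhq]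
  congr 1
  -- the image of a fixed point is fixed
  obtain ⟨p, hp, hpe⟩ := hH.lift h hh
  have h2 := hc' _ (hH.conj σ⁻¹ h hh)
  rw [map_inv, inv_inv, MulAut.mul_apply, MulAut.mul_apply] at h2
  have h3 := congrArg (rho U σ) h2
  rw [MulAut.apply_inv_self] at h3
  exact h3.symm

/-- An odd element moves every element of `U` inside its `[Z(U), N_G(U)]`-coset. -/
theorem inv_mul_conj_mem_qsub (hs : Setup S) (hU : MaxBad S U) {n : G}
    (hn : n ∈ normalizer (U : Set G)) (hno : Odd (orderOf n)) {u : G} (hu : u ∈ U) :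
    u⁻¹ * (n * u * n⁻¹) ∈ qsub U := by
  obtain ⟨H, hH⟩ := oddPart_exists hs hU
  set ν : normalizer (U : Set G) := ⟨n, hn⟩ with hν
  have hνo : Odd (orderOf ν) := by rwa [← Subgroup.orderOf_coe]
  set ζ : cen U := ⟨u⁻¹ * (n * u * n⁻¹), mod_cen hs hU hn hno hu⟩ with hζ
  set w : ℕ → cen U := fun j => rho U (ν ^ j) ζ with hw
  have hit : ∀ i : ℕ, n ^ i * u * (n ^ i)⁻¹ = u * ((∏ j ∈ Finset.range i, w j : cen U) : G) := by
    intro i
    induction i with
    | zero => simp
    | succ i ih =>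
      rw [Finset.prod_range_succ, Subgroup.coe_mul, ← mul_assoc, ← ih, hw]
      simp only [rho_apply, SubgroupClass.coe_pow, hν, hζ]
      rw [pow_succ n]
      group
  have h1 := hit (orderOf n)
  rw [pow_orderOf_eq_one, one_mul, inv_one, mul_one] at h1
  have h2 : (∏ j ∈ Finset.range (orderOf n), w j : cen U) = 1 :=
    Subtype.ext (mul_left_cancel (a := u) (by rw [← h1, Subgroup.coe_one, mul_one]))
  have h3 : ζ ^ orderOf n ∈ moved U H := by
    have e : ζ ^ orderOf n = ∏ j ∈ Finset.range (orderOf n), (ζ⁻¹ * w j)⁻¹ := by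
      simp only [mul_inv_rev, inv_inv, Finset.prod_mul_distrib, Finset.prod_inv_distrib, h2,
        inv_one, one_mul, Finset.prod_const, Finset.card_range]
    rw [e]
    refine Subgroup.prod_mem _ fun j _ => inv_mem (subset_closure ⟨ζ, _, hH.mem _ ?_, rfl⟩)
    exact hνo.of_dvd_nat (orderOf_pow_dvd j)
  exact (mem_moved_iff hH).mp (mem_of_pow_mem (isPGroup_cen hU) hno h3)

/-- The only element of `[Z(U), N_G(U)]` fixed by all odd elements of `N_G(U)` is `1`. -/
theorem eq_one_of_odd_fixed (hs : Setup S) (hU : MaxBad S U) {q : G} (hq : q ∈ qsub U)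
    (hfix : ∀ n ∈ normalizer (U : Set G), Odd (orderOf n) → n * q * n⁻¹ = q) : q = 1 := by
  obtain ⟨H, hH⟩ := oddPart_exists hs hU
  have h := eq_one_of_fixed H (isPGroup_cen hU) hH.odd (R := moved U H) le_rfl
    (z := ⟨q, qsub_le_cen U hq⟩) ((mem_moved_iff hH).mpr hq) fun h hh => ?_
  · exact congrArg Subtype.val h
  · obtain ⟨p, hp, rfl⟩ := hH.lift h hh
    exact Subtype.ext (hfix p p.2 (by rwa [Subgroup.orderOf_coe]))

theorem qsub_ne_bot (hs : Setup S) (hU : MaxBad S U) : qsub U ≠ ⊥ := by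
  intro h
  obtain ⟨n, hn, hno, hnc⟩ := hU.bad
  refine hnc (mem_centralizer_iff.mpr fun u hu => ?_)
  have h1 := inv_mul_conj_mem_qsub hs hU hn hno hu
  rw [h, mem_bot] at h1
  exact (mul_inv_eq_iff_eq_mul.mp (inv_mul_eq_one.mp h1).symm).symm

/-- An automorphism inverting `H` whose square is trivial. -/
theorem inverts (hs : Setup S) (hU : MaxBad S U) (hH : OddPart U H)
    {t : normalizer (U : Set G)} (htS : (t : G) ∈ S) (htU : (t : G) ∉ U)
    (ht2 : rho U t * rho U t = 1) {h : MulAut (cen U)} (hh : h ∈ H) :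
    rho U t * h * rho U t = h⁻¹ := by
  set τ := rho U t with hτ
  have hinv : τ⁻¹ = τ := inv_eq_of_mul_eq_one_right ht2
  have hconj : ∀ k ∈ H, τ * k * τ ∈ H := fun k hk => by
    have := hH.conj t k hk
    rwa [← hτ, hinv] at this
  let F : H → H := fun k => ⟨(k : MulAut (cen U))⁻¹ * (τ * k * τ), H.mul_mem (H.inv_mem k.2) (hconj k k.2)⟩
  have hFinj : Function.Injective F := by
    intro a b hab
    have e : (a : MulAut (cen U))⁻¹ * (τ * a * τ) = (b : MulAut (cen U))⁻¹ * (τ * b * τ) :=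
      congrArg Subtype.val hab
    have e2 : Commute τ ((b : MulAut (cen U)) * (a : MulAut (cen U))⁻¹) := by
      show τ * ((b : MulAut (cen U)) * (a : MulAut (cen U))⁻¹) = _
      calc τ * ((b : MulAut (cen U)) * (a : MulAut (cen U))⁻¹)
          = τ * ((b : MulAut (cen U)) * ((a : MulAut (cen U))⁻¹ * (τ * a * τ))) * (τ⁻¹ * (a : MulAut (cen U))⁻¹ * τ⁻¹) := by group
        _ = τ * ((b : MulAut (cen U)) * ((b : MulAut (cen U))⁻¹ * (τ * b * τ))) * (τ⁻¹ * (a : MulAut (cen U))⁻¹ * τ⁻¹) := by rw [e]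
        _ = (τ * τ) * ((b : MulAut (cen U)) * (a : MulAut (cen U))⁻¹) * τ⁻¹ := by group
        _ = _ := by rw [ht2, one_mul, hinv]
    exact Subtype.ext (mul_inv_eq_one.mp (fpf hs hU hH.lift htS htU (H.mul_mem b.2 (H.inv_mem a.2)) e2)).symm
  obtain ⟨k, hk⟩ := (Finite.injective_iff_surjective.mp hFinj) ⟨h, hh⟩
  have hk' : h = (k : MulAut (cen U))⁻¹ * (τ * k * τ) := (congrArg Subtype.val hk).symm
  rw [hk', mul_inv_rev, mul_inv_rev, mul_inv_rev, inv_inv, hinv]
  calc τ * ((k : MulAut (cen U))⁻¹ * (τ * k * τ)) * τ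
      = τ * (k : MulAut (cen U))⁻¹ * τ * k * (τ * τ) := by group
    _ = _ := by rw [ht2]; group

theorem sq_pow_eq_one {x : cen U} (hU : MaxBad S U) : ∃ k : ℕ, x ^ 2 ^ k = 1 := by
  obtain ⟨k, hk⟩ := isPGroup_cen hU x
  exact ⟨k, hk⟩

/-- `S/U` has exponent two. -/
theorem sq_mem (hs : Setup S) (hU : MaxBad S U) {s : G} (hsS : s ∈ S) : s * s ∈ U := by
  classical
  obtain ⟨H, hH⟩ := oddPart_exists hs hU
  by_contra hsU
  obtain ⟨a, ha⟩ := IsPGroup.iff_orderOf.mp S.isPGroup' ⟨s, hsS⟩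
  have hex : ∃ i : ℕ, s ^ 2 ^ i ∈ U := ⟨a, by
    rw [← Subgroup.orderOf_coe] at ha
    rw [show s ^ 2 ^ a = 1 by rw [← ha]; exact pow_orderOf_eq_one s]
    exact U.one_mem⟩
  obtain ⟨j, hj⟩ : ∃ j, Nat.find hex = j + 2 := by
    refine ⟨Nat.find hex - 2, ?_⟩
    have h0 : Nat.find hex ≠ 0 := fun e => hsU (by
      have := Nat.find_spec hex
      rw [e, pow_zero, pow_one] at this
      exact U.mul_mem this this)
    have h1 : Nat.find hex ≠ 1 := fun e => hsU (by
      have := Nat.find_spec hex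
      rw [e, pow_one, sq] at this
      exact this)
    omega
  set σ : normalizer (U : Set G) := ⟨s ^ 2 ^ j, le_normalizer_U hs hU ((S : Subgroup G).pow_mem hsS _)⟩ with hσ
  have hσS : (σ : G) ∈ S := (S : Subgroup G).pow_mem hsS _
  have hσ2 : ((σ * σ : normalizer (U : Set G)) : G) = s ^ 2 ^ (j + 1) := by
    rw [Subgroup.coe_mul, hσ, ← pow_add, ← two_mul, ← pow_succ']
  have hτU : ((σ * σ : normalizer (U : Set G)) : G) ∉ U := by
    rw [hσ2]
    exact Nat.find_min hex (by omega)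
  set τ := rho U (σ * σ) with hτ
  have hτ2 : τ * τ = 1 := by
    rw [hτ, ← map_mul]
    refine rho_of_mem_U ?_
    rw [Subgroup.coe_mul, hσ2, ← pow_add, ← two_mul, ← pow_succ', show j + 1 + 1 = Nat.find hex by omega]
    exact Nat.find_spec hex
  -- squares in `[Z, H]`
  set Q := moved U H with hQ
  set Q2 := Q.map (powMonoidHom 2) with hQ2
  have hquad : ∀ q ∈ Q, (τ q) * q⁻¹ ∈ Q2 := by
    intro q hq
    refine ⟨rho U σ q * q⁻¹, Q.mul_mem (rho_mem_moved hH σ hq) (Q.inv_mem hq), ?_⟩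
    have hd : rho U σ (rho U σ q * q⁻¹) = rho U σ q * q⁻¹ := by
      refine Subtype.ext ?_
      rw [rho_apply, Subgroup.coe_mul, rho_apply, InvMemClass.coe_inv]
      have hc := hs.cl σ hσS q (hU.le (mem_cen_iff.mp q.2).1) σ hσS
      rw [mul_inv_eq_iff_eq_mul]
      exact hc
    rw [powMonoidHom_apply, sq, hτ, map_mul (rho U), MulAut.mul_apply]
    have hd' : rho U σ (rho U σ q) = (rho U σ q * q⁻¹) * rho U σ q := by
      conv_lhs => rw [show rho U σ q = (rho U σ q * q⁻¹) * q by rw [inv_mul_cancel_right]]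
      rw [map_mul, hd]
    rw [hd']
    simp only [mul_assoc]
  have hQ2inv : ∀ (p : normalizer (U : Set G)), ∀ x ∈ Q2, rho U p x ∈ Q2 := by
    rintro p _ ⟨y, hy, rfl⟩
    exact ⟨rho U p y, rho_mem_moved hH p hy, by simp⟩
  -- every odd automorphism is trivial modulo squares
  have htriv : ∀ h ∈ H, ∀ q ∈ Q, h q * q⁻¹ ∈ Q2 := by
    intro h hh q hq
    have hhH : ∀ k ∈ H, ∀ x ∈ Q, k x ∈ Q := fun k hk x hx => by
      obtain ⟨p, -, rfl⟩ := hH.lift k hk
      exact rho_mem_moved hH p hx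
    have hsqr : ∀ x ∈ Q, h (h x) * x⁻¹ ∈ Q2 := by
      intro x hx
      have hinv := inverts hs hU hH (t := σ * σ) ((S : Subgroup G).mul_mem hσS hσS) hτU hτ2 hh
      have e1 : τ (h x) = h⁻¹ (τ x) := by
        rw [← hinv, ← hτ, MulAut.mul_apply, MulAut.mul_apply, ← show (τ * τ) x = τ (τ x) from rfl, hτ2,
          MulAut.one_apply]
      have a1 := hquad _ (hhH h hh x hx)
      rw [e1] at a1
      have hh' : ∀ y ∈ Q2, h y ∈ Q2 := by
        obtain ⟨p, -, rfl⟩ := hH.lift h hh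
        exact hQ2inv p
      have a2 := hh' _ a1
      rw [map_mul, MulAut.apply_inv_self, map_inv] at a2
      have a3 := Q2.mul_mem (Q2.inv_mem a2) (hquad x hx)
      convert a3 using 1
      rw [mul_inv_rev, inv_inv, mul_assoc, inv_mul_cancel_left]
    have hit : ∀ i : ℕ, ∀ x ∈ Q, ((h * h) ^ i : MulAut (cen U)) x * x⁻¹ ∈ Q2 := by
      intro i
      induction i with
      | zero => intro x _; simp
      | succ i ih =>
        intro x hx
        have hx' : h (h x) ∈ Q := hhH h hh _ (hhH h hh x hx)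
        have := Q2.mul_mem (ih _ hx') (hsqr x hx)
        convert this using 1
        rw [pow_succ, MulAut.mul_apply, MulAut.mul_apply, mul_assoc, inv_mul_cancel_left]
    obtain ⟨e, he⟩ := (hH.odd : Odd (Nat.card H))
    have hpow : (h * h) ^ (e + 1) = h := by
      have h1 : h ^ Nat.card H = 1 :=
        congrArg Subtype.val (pow_card_eq_one' (x := (⟨h, hh⟩ : H)))
      rw [← sq, ← pow_mul, show 2 * (e + 1) = Nat.card H + 1 by omega, pow_succ, h1, one_mul]
    have := hit (e + 1) q hq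
    rwa [hpow] at this
  have hle : Q ≤ Q2 := by
    refine (closure_le _).mpr ?_
    rintro _ ⟨z, h, hh, rfl⟩
    refine mem_of_pow_mem (isPGroup_cen hU) hH.odd ?_
    obtain ⟨c, q, hc, hq, hz⟩ := exists_fixed_mul H z
    rw [mul_pow, inv_pow, ← map_pow, hz, map_mul, hc h hh, mul_inv_rev, mul_assoc,
      inv_mul_cancel_left, mul_comm]
    exact htriv h hh q hq
  have hroot : ∀ k : ℕ, ∀ x ∈ Q, ∃ y ∈ Q, x = y ^ 2 ^ k := by
    intro k
    induction k with
    | zero => intro x hx; exact ⟨x, hx, by simp⟩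
    | succ k ih =>
      intro x hx
      obtain ⟨y, hy, rfl⟩ := ih x hx
      obtain ⟨w, hw, rfl⟩ := hle hy
      exact ⟨w, hw, by rw [powMonoidHom_apply, ← pow_mul, pow_succ']⟩
  refine qsub_ne_bot hs hU ((eq_bot_iff_forall _).mpr fun x hx => ?_)
  obtain ⟨a', ha'⟩ := IsPGroup.iff_card.mp (isPGroup_cen hU)
  obtain ⟨y, -, hy⟩ := hroot a' ⟨x, qsub_le_cen U hx⟩ ((mem_moved_iff hH).mpr hx)
  rw [← ha', pow_card_eq_one'] at hy
  exact congrArg Subtype.val hy

/-- `U` has index two in `S`. -/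
theorem inv_mul_mem (hs : Setup S) (hU : MaxBad S U) {s t : G} (hsS : s ∈ S) (htS : t ∈ S)
    (hsU : s ∉ U) (htU : t ∉ U) : s⁻¹ * t ∈ U := by
  obtain ⟨H, hH⟩ := oddPart_exists hs hU
  obtain ⟨h, hh, hne⟩ := exists_ne_one hs hU hH
  by_contra hst
  have hSU := le_normalizer_U hs hU
  set σ : normalizer (U : Set G) := ⟨s, hSU hsS⟩ with hσ
  set θ : normalizer (U : Set G) := ⟨t, hSU htS⟩ with hθ
  have h2 : ∀ x : normalizer (U : Set G), (x : G) ∈ S → rho U x * rho U x = 1 := fun x hx => by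
    rw [← map_mul]
    exact rho_of_mem_U (sq_mem hs hU hx)
  have hi : ∀ x : normalizer (U : Set G), (x : G) ∈ S → rho U x⁻¹ = rho U x := fun x hx => by
    rw [map_inv]
    exact inv_eq_of_mul_eq_one_right (h2 x hx)
  refine hne (fpf hs hU hH.lift (s := σ⁻¹ * θ) ((S : Subgroup G).mul_mem ((S : Subgroup G).inv_mem hsS) htS)
    hst hh ?_)
  have i1 := inverts hs hU hH (t := σ) hsS hsU (h2 σ hsS) hh
  have i2 := inverts hs hU hH (t := θ) htS htU (h2 θ htS) hh
  rw [map_mul, hi σ hsS]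
  show rho U σ * rho U θ * h = h * (rho U σ * rho U θ)
  calc rho U σ * rho U θ * h
      = rho U σ * (rho U θ * h * rho U θ) * (rho U θ)⁻¹ := by group
    _ = rho U σ * h⁻¹ * (rho U θ)⁻¹ := by rw [i2]
    _ = rho U σ * (rho U σ * h * rho U σ) * (rho U θ)⁻¹ := by rw [i1]
    _ = (rho U σ * rho U σ) * h * (rho U σ * (rho U θ)⁻¹) := by group
    _ = h * (rho U σ * rho U θ) := by
        rw [h2 σ hsS, one_mul, inv_eq_of_mul_eq_one_right (h2 θ htS)]

/-- A subgroup of `[Z(U), N_G(U)]` normalized by `N_G(U)` and centralized by an element of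
`S ∖ U` is trivial. -/
theorem eq_one_of_centralized (hs : Setup S) (hU : MaxBad S U) {t : G} (htS : t ∈ S) (htU : t ∉ U)
    {R : Subgroup G} (hR : R ≤ qsub U)
    (hRn : ∀ p ∈ normalizer (U : Set G), ∀ r ∈ R, p * r * p⁻¹ ∈ R)
    (ht : ∀ r ∈ R, t * r = r * t) : R = ⊥ := by
  obtain ⟨H, hH⟩ := oddPart_exists hs hU
  rw [eq_bot_iff_forall]
  intro r hr
  set θ : normalizer (U : Set G) := ⟨t, le_normalizer_U hs hU htS⟩ with hθ
  have h2 : rho U θ * rho U θ = 1 := by
    rw [← map_mul]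
    exact rho_of_mem_U (sq_mem hs hU htS)
  refine eq_one_of_odd_fixed hs hU (hR hr) fun n hn hno => ?_
  set ν : normalizer (U : Set G) := ⟨n, hn⟩ with hν
  set x : cen U := ⟨r, qsub_le_cen U (hR hr)⟩ with hx
  have hh := hH.mem ν (by rwa [← Subgroup.orderOf_coe])
  set h := rho U ν with hh'
  have hinv := inverts hs hU hH (t := θ) htS htU h2 hh
  have hfix : ∀ y : cen U, (y : G) ∈ R → rho U θ y = y := fun y hy => Subtype.ext (by
    rw [rho_apply]
    show t * (y : G) * t⁻¹ = y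
    rw [ht _ hy, mul_inv_cancel_right])
  have e1 : (h⁻¹) x = h x := by
    rw [← hinv, MulAut.mul_apply, MulAut.mul_apply, hfix x hr, hfix _ (hRn n hn r hr)]
  have e2 : (h * h) x = x := by
    rw [MulAut.mul_apply, ← e1, MulAut.apply_inv_self]
  obtain ⟨e, he⟩ := (show Odd (orderOf h) from hno.of_dvd_nat
    ((orderOf_map_dvd (rho U) ν).trans (by rw [← Subgroup.orderOf_coe])))
  have e3 : ∀ i : ℕ, ((h * h) ^ i : MulAut (cen U)) x = x := by
    intro i
    induction i with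
    | zero => rfl
    | succ i ih => rw [pow_succ, MulAut.mul_apply, e2, ih]
  have e4 := e3 (e + 1)
  rw [← sq, ← pow_mul, show 2 * (e + 1) = orderOf h + 1 by omega, pow_succ, pow_orderOf_eq_one,
    one_mul] at e4
  exact congrArg Subtype.val e4

end

end H24.ClassTwo
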