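import Cfsg.Agent.H24.Arith

/-!
Constituents of characters.
-/

set_option autoImplicit false
set_option linter.unusedSectionVars false
set_option linter.style.haveILetI false

open Cfsg Module

namespace H24

universe u

variable {G : Type u} [Group G] [Fintype G]

theorem exists_mult_classInner {φ : G → ℂ} (hφ : IsCharacter G φ) :
    ∃ m : IrrCharacter G → ℕ, φ = (∑ χ, (m χ : ℂ) • (χ : G → ℂ)) ∧
      (∀ χ : IrrCharacter G, classInner φ (χ : G → ℂ) = m χ) ∧
      H12.degree φ = ∑ χ, m χ * charDegree (χ : G → ℂ) := by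
  obtain ⟨m, hm⟩ := H12.IsCharacter.exists_mult hφ
  refine ⟨m, hm, fun χ => by rw [hm, H12.classInner_sum_smul_irr], ?_⟩
  have h := congrFun hm 1
  rw [H12.IsCharacter.apply_one_eq_degree hφ] at h
  simp only [Finset.sum_apply, Pi.smul_apply, smul_eq_mul, irr_one] at h
  exact_mod_cast h

/-- A character having an irreducible constituent of at least its degree equals it. -/
theorem constituent_degree {φ : G → ℂ} (hφ : IsCharacter G φ) (χ : IrrCharacter G)
    (h : classInner φ (χ : G → ℂ) ≠ 0) :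
    charDegree (χ : G → ℂ) ≤ charDegree φ ∧
      (charDegree φ ≤ charDegree (χ : G → ℂ) → φ = (χ : G → ℂ)) := by
  classical
  obtain ⟨m, hm, hmi, hdeg⟩ := exists_mult_classInner hφ
  have h1 : 1 ≤ m χ := Nat.one_le_iff_ne_zero.2 fun h0 => h (by rw [hmi, h0, Nat.cast_zero])
  rw [← Finset.add_sum_erase _ _ (Finset.mem_univ χ)] at hdeg
  have hle : charDegree (χ : G → ℂ) ≤ m χ * charDegree (χ : G → ℂ) := Nat.le_mul_of_pos_left _ h1
  have hd : charDegree φ = H12.degree φ := rfl
  refine ⟨by omega, fun hge => ?_⟩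
  have hz : ∑ ψ ∈ Finset.univ.erase χ, m ψ * charDegree (ψ : G → ℂ) = 0 := by omega
  have hm1 : m χ = 1 := by
    have h2 : m χ * charDegree (χ : G → ℂ) ≤ 1 * charDegree (χ : G → ℂ) := by omega
    exact le_antisymm (Nat.le_of_mul_le_mul_right h2 (irr_pos χ)) h1
  rw [hm, Finset.sum_eq_single χ (fun ψ _ hψ => ?_) (by simp), hm1, Nat.cast_one, one_smul]
  have := (Finset.sum_eq_zero_iff.1 hz) ψ (Finset.mem_erase.2 ⟨hψ, Finset.mem_univ ψ⟩)
  rw [mul_eq_zero] at this
  rw [this.resolve_right (irr_pos ψ).ne', Nat.cast_zero, zero_smul]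

/-- If `φ + φ'` is irreducible and `φ ≠ 0`, then `φ'` vanishes: a nonzero summand has the full degree. -/
theorem degree_eq_of_le_irr {φ ψ : G → ℂ} (hφ : IsCharacter G φ) (hψ : IsCharacter G ψ)
    (χ : IrrCharacter G) (hsum : φ + ψ = (χ : G → ℂ)) (h0 : 0 < charDegree φ) :
    charDegree φ = charDegree (χ : G → ℂ) := by
  classical
  obtain ⟨m, hm, hmi, hdeg⟩ := exists_mult_classInner hφ
  obtain ⟨l, hl, hli, hldeg⟩ := exists_mult_classInner hψ
  have hdd : charDegree φ = H12.degree φ := rfl
  obtain ⟨μ, hμ⟩ : ∃ μ : IrrCharacter G, m μ ≠ 0 := by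
    by_contra! h
    simp only [h, zero_mul, Finset.sum_const_zero] at hdeg
    omega
  have hμχ : μ = χ := by
    by_contra hne
    have h1 := congrArg (fun f => classInner f (μ : G → ℂ)) hsum
    simp only [H12.classInner_add_left, hmi, hli, H12.classInner_irr, if_neg (Ne.symm hne)] at h1
    have : m μ + l μ = 0 := by exact_mod_cast h1
    omega
  subst hμχ
  have hge := (constituent_degree hφ μ (by rw [hmi]; exact Nat.cast_ne_zero.2 hμ)).1
  have h2 : charDegree φ + H12.degree ψ = charDegree (μ : G → ℂ) := by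
    have h3 := congrFun hsum 1
    rw [Pi.add_apply, H12.IsCharacter.apply_one_eq_degree hφ,
      H12.IsCharacter.apply_one_eq_degree hψ, irr_one] at h3
    exact_mod_cast h3
  omega

end H24
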