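import Cfsg.Agent.H24.CharBasic
import Cfsg.Agent.H20.SecondMainApps
import Cfsg.Agent.H20.DefectApps
import Cfsg.Agent.H20.FirstMain
import Cfsg.Agent.H12.Induction
import Cfsg.Agent.H12.Transport

/-!
A height zero character fixed by a `p`-group stabilising a block.
-/

set_option autoImplicit false
set_option linter.unusedSectionVars false
set_option linter.style.haveILetI false

open Cfsg H20
open scoped ComplexConjugate

namespace H24

universe u v

variable {p : ℕ} {K : Type u} [Group K] [Fintype K] {M : Ideal AlgInt} [M.IsPrime]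

/-- The `B`-part of an induced function at the identity. -/
theorem blockPart_indFun_one (B : Set (IrrCharacter K)) (A : Subgroup K) [Fintype A] (θ : A → ℂ) :
    blockPart B (indFun A θ) 1 = (A.index : ℂ) * ∑ a : A, blockCoeff B (a : K) * θ a := by
  classical
  rw [← sum_blockCoeff_mul B (H12.indFun_isClassFunction A θ) 1]
  let e : K → ℂ := fun g => conj (blockCoeff B g)
  have he : IsClassFunction K e := fun g c => by
    simp only [e]
    rw [blockCoeff_of_isConj B (isConj_iff.2 ⟨c, rfl⟩ : IsConj g (c * g * c⁻¹))]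
  have h := H12.classInner_indFun A θ he
  have hK : (Nat.card K : ℂ) ≠ 0 := Nat.cast_ne_zero.2 Nat.card_pos.ne'
  have hA : (Nat.card A : ℂ) ≠ 0 := Nat.cast_ne_zero.2 Nat.card_pos.ne'
  rw [H12.classInner_def, H12.classInner_def] at h
  simp only [e, Complex.conj_conj] at h
  have hc : (Nat.card K : ℂ) = (Nat.card A : ℂ) * (A.index : ℂ) := by
    rw [← Nat.cast_mul, A.card_mul_index]
  simp only [mul_one, mul_comm (blockCoeff B _)]
  field_simp at h
  refine mul_left_cancel₀ hA ?_
  rw [hc] at h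
  linear_combination h

theorem IsSylC.exists_conj_centralizer [Fact p.Prime] {g : K} {Q R : Subgroup K}
    (hQ : IsSylC p g Q) (hR : IsSylC p g R) :
    ∃ x ∈ Subgroup.centralizer ({g} : Set K), conjSub x Q = R := by
  obtain ⟨S, rfl⟩ := hQ
  obtain ⟨T, rfl⟩ := hR
  obtain ⟨c, hc⟩ := MulAction.exists_smul_eq (Subgroup.centralizer ({g} : Set K)) S T
  refine ⟨(c : K), c.2, ?_⟩
  rw [← hc, Sylow.coe_subgroup_smul, conjSub, Subgroup.map_map]
  ext z
  simp only [Subgroup.mem_map]
  constructor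
  · rintro ⟨w, hw, rfl⟩
    exact ⟨c * w * c⁻¹, by
      rw [Subgroup.mem_pointwise_smul_iff_inv_smul_mem]
      simpa [MulAut.smul_def, mul_assoc] using hw, by simp⟩
  · rintro ⟨w, hw, rfl⟩
    rw [Subgroup.mem_pointwise_smul_iff_inv_smul_mem] at hw
    exact ⟨_, hw, by simp [MulAut.smul_def, mul_assoc]⟩

theorem card_centralizer_mulAut (σ : K ≃* K) (g : K) :
    Nat.card (Subgroup.centralizer ({σ g} : Set K)) =
      Nat.card (Subgroup.centralizer ({g} : Set K)) := by
  have : Subgroup.centralizer ({σ g} : Set K) =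
      (Subgroup.centralizer ({g} : Set K)).map σ.toMonoidHom := by
    ext z
    rw [Subgroup.mem_map_equiv, Subgroup.mem_centralizer_singleton_iff,
      Subgroup.mem_centralizer_singleton_iff, ← σ.injective.eq_iff (a := σ.symm z * g)]
    simp
  rw [this]
  exact Subgroup.card_map_of_injective σ.injective

theorem centralChar_comp_mulAut (σ : K ≃* K) (ξ : IrrCharacter K) (g : K) :
    centralChar (H12.irrCongr σ ξ : K → ℂ) g = centralChar (ξ : K → ℂ) (σ g) := by
  rw [centralChar, centralChar, H12.irrCongr_apply, H12.irrCongr_apply, map_one]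
  congr 3
  have h := (Subgroup.centralizer ({g} : Set K)).card_mul_index
  rw [← (Subgroup.centralizer ({σ g} : Set K)).card_mul_index, card_centralizer_mulAut] at h
  exact Nat.eq_of_mul_eq_mul_left Nat.card_pos h

/-- A `p`-group stabilising a block fixes one of its height zero characters. -/
theorem exists_fixed_height_zero (hM : IsPModular p M) {S : Type v} [Group S] [Finite S]
    (hS : IsPGroup p S) (φ : S →* MulAut K) {b : Set (IrrCharacter K)} (hb : IsPBlock M b)
    (hstab : ∀ s : S, ∀ θ ∈ b, H12.irrCongr (φ s) θ ∈ b) :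
    ∃ θ ∈ b, blockHeight p b (θ : K → ℂ) = 0 ∧ ∀ s : S, H12.irrCongr (φ s) θ = θ := by
  classical
  haveI : Fact p.Prime := ⟨hM.1⟩
  haveI := k_charP hM
  haveI : Fintype S := Fintype.ofFinite S
  have hinv : ∀ (s : S) (θ : IrrCharacter K), H12.irrCongr (φ s) θ ∈ b ↔ θ ∈ b := by
    intro s θ
    refine ⟨fun h => ?_, hstab s θ⟩
    have h2 := hstab s⁻¹ _ h
    have : H12.irrCongr (φ s⁻¹) (H12.irrCongr (φ s) θ) = θ := Subtype.ext (funext fun k => by
      rw [H12.irrCongr_apply, H12.irrCongr_apply]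
      simp)
    rwa [this] at h2
  have hcoef : ∀ (s : S) (g : K), blockCoeff b (φ s g) = blockCoeff b g := by
    intro s g
    rw [blockCoeff_eq_sum, blockCoeff_eq_sum]
    congr 1
    rw [← Equiv.sum_comp (H12.irrCongr (φ s))
      (fun θ : IrrCharacter K => if θ ∈ b then (θ : K → ℂ) 1 * conj ((θ : K → ℂ) g) else 0)]
    refine Finset.sum_congr rfl fun θ _ => ?_
    simp only [hinv s θ, H12.irrCongr_apply, map_one]
  obtain ⟨ξ, hξ⟩ := block_nonempty hb
  have hom : ∀ (s : S) (g : K),
      redC M (centralChar (ξ : K → ℂ) (φ s g)) = redC M (centralChar (ξ : K → ℂ) g) := by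
    intro s g
    rw [← centralChar_comp_mulAut, ← lam_clSum, ← lam_clSum]
    exact lam_single_block_eq hb hξ _ (hstab s ξ hξ) (a := clSum (k M) g)
  -- a fixed class on which the idempotent and the central character do not vanish
  letI act : MulAction S (ConjClasses K) :=
    { smul := fun s C => ConjClasses.map (φ s).toMonoidHom C
      one_smul := fun C => by
        induction C using Quotient.inductionOn with
        | h a => show ConjClasses.mk (φ 1 a) = ConjClasses.mk a; simp
      mul_smul := fun s t C => by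
        induction C using Quotient.inductionOn with
        | h a => show ConjClasses.mk (φ (s * t) a) = ConjClasses.mk (φ s (φ t a)); simp }
  let F : ConjClasses K → k M := fun C =>
    (eRed M b).coeff C.out * redC M (centralChar (ξ : K → ℂ) C.out)
  have hF : ∀ g : K, F (ConjClasses.mk g) =
      (eRed M b).coeff g * redC M (centralChar (ξ : K → ℂ) g) := by
    intro g
    have h : IsConj (ConjClasses.mk g).out g :=
      ConjClasses.mk_eq_mk_iff_isConj.1 (Quotient.out_eq _)
    simp only [F]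
    rw [(isCl_eRed b).of_isConj h, ← lam_clSum, ← lam_clSum, clSum_eq_of_isConj (k M) h]
  have hFinv : ∀ (s : S) (C : ConjClasses K), F (s • C) = F C := by
    intro s C
    induction C using Quotient.inductionOn with
    | h a =>
      show F (ConjClasses.mk (φ s a)) = F (ConjClasses.mk a)
      rw [hF, hF, hom s a, coeff_eRed, coeff_eRed, hcoef s a]
  haveI := Fintype.ofFinite (ConjClasses K)
  have hsum : ∑ C : ConjClasses K, F C = 1 := by
    rw [← if_pos hξ (t := (1 : k M)) (e := (0 : k M)), ← lam_eRed hb ξ, lam_eq_sum]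
  obtain ⟨C, hCfix, hC⟩ : ∃ C : ConjClasses K, (∀ s : S, s • C = C) ∧ F C ≠ 0 := by
    by_contra hne
    simp only [not_exists, not_and, not_not] at hne
    refine one_ne_zero (α := k M) ?_
    rw [← hsum, sum_eq_sum_fixedPoints hS
      (fun r => by rw [nsmul_eq_mul, CharP.cast_eq_zero, zero_mul]) F hFinv]
    exact Finset.sum_eq_zero fun C hC => hne C (fun s => (Finset.mem_filter.1 hC).2 s)
  obtain ⟨x, rfl⟩ := ConjClasses.exists_rep C
  rw [hF, ← lam_clSum] at hC
  have hne : (eRed M b).coeff x ≠ 0 := left_ne_zero_of_mul hC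
  have hdef : IsDefectClass M b x := (isDefectClass_iff hb x).2 ⟨hne, fun η hη => by
    rw [lam_single_block_eq hb hξ η hη]; exact right_ne_zero_of_mul hC⟩
  have hxreg : ¬ p ∣ orderOf x := regular_of_coeff_ne_zero hM hb hne
  obtain ⟨D, hD⟩ := exists_isSylC p x
  have hbD : Cfsg.IsDefectGroup p M b D := ⟨x, hdef, hD⟩
  -- the subgroup `A = D <x>`
  set Z := Subgroup.zpowers x with hZ
  have hxN : x ∈ Subgroup.normalizer (D : Set K) :=
    Subgroup.centralizer_le_normalizer _ hD.mem_centralizer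
  have hZN : Z ≤ Subgroup.normalizer (D : Set K) := Subgroup.zpowers_le.2 hxN
  set A := D ⊔ Z with hA
  have hDA : D ≤ A := le_sup_left
  have hAN : A ≤ Subgroup.normalizer (D : Set K) := sup_le Subgroup.le_normalizer hZN
  haveI : Fintype A := Fintype.ofFinite A
  set DA := D.subgroupOf A with hDA'
  haveI : DA.Normal := (Subgroup.normal_subgroupOf_iff_le_normalizer hDA).2 hAN
  haveI : Fintype (A ⧸ DA) := Fintype.ofFinite _
  let xA : A := ⟨x, (le_sup_right : Z ≤ A) (Subgroup.mem_zpowers x)⟩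
  have hgen : ∀ a : A, ∃ d ∈ D, ∃ j : ℤ, (a : K) = d * x ^ j := by
    intro a
    have ha : (a : K) ∈ (↑(D ⊔ Z) : Set K) := a.2
    rw [Subgroup.coe_mul_of_right_le_normalizer_left D Z hZN] at ha
    obtain ⟨d, hd, z, hz, heq⟩ := ha
    obtain ⟨j, rfl⟩ := Subgroup.mem_zpowers_iff.1 hz
    exact ⟨d, hd, j, heq.symm⟩
  have hquot : ∀ q : A ⧸ DA, ∃ j : ℤ, q = (QuotientGroup.mk' DA xA) ^ j := by
    intro q
    obtain ⟨a, rfl⟩ := QuotientGroup.mk'_surjective DA q
    obtain ⟨d, hd, j, hj⟩ := hgen a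
    refine ⟨j, ?_⟩
    have : a = ⟨d, hDA hd⟩ * xA ^ j := Subtype.ext (by simpa [xA] using hj)
    rw [this, map_mul, map_zpow]
    rw [(QuotientGroup.eq_one_iff _).2 (show (⟨d, hDA hd⟩ : A) ∈ DA from hd) |> (fun h =>
      show QuotientGroup.mk' DA ⟨d, hDA hd⟩ = 1 from h), one_mul]
  have hqp : ¬ p ∣ Nat.card (A ⧸ DA) := by
    intro hd
    have hle : Subgroup.zpowers (QuotientGroup.mk' DA xA) = ⊤ := eq_top_iff.2 fun q _ => by
      obtain ⟨j, rfl⟩ := hquot q; exact ⟨j, rfl⟩
    have hcard : Nat.card (A ⧸ DA) = orderOf (QuotientGroup.mk' DA xA) := by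
      rw [← Nat.card_zpowers, hle, Subgroup.card_top]
    refine hxreg ((hd.trans (hcard ▸ orderOf_map_dvd _ xA)).trans ?_)
    rw [← Subgroup.orderOf_coe]
  -- the character on the quotient
  set T : IrrCharacter (A ⧸ DA) → ℂ := fun μ =>
    ∑ a : A, blockCoeff b (a : K) * (μ : A ⧸ DA → ℂ) (QuotientGroup.mk' DA a) with hT
  have hTmem : ∀ μ, MemLocalRing M (T μ) := fun μ => memRing_sum _ _ fun a _ =>
    memRing_mul (memRing_blockCoeff hb _) (memRing_of_isIntegral (isIntegral_irr μ _))
  obtain ⟨μ, hμ⟩ : ∃ μ, ¬ MemLocalIdeal M (T μ) := by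
    by_contra hall
    simp only [not_exists, not_not] at hall
    set xq := QuotientGroup.mk' DA xA with hxq
    set W : ℂ := ∑ μ : IrrCharacter (A ⧸ DA), conj ((μ : A ⧸ DA → ℂ) xq) * T μ with hW
    have h0 : redC M W = 0 := by
      rw [hW, redC_sum _ _ (fun μ _ => memRing_mul (memRing_of_isIntegral
        (isIntegral_conj_irr μ _)) (hTmem μ))]
      refine Finset.sum_eq_zero fun μ _ => ?_
      rw [redC_mul (memRing_of_isIntegral (isIntegral_conj_irr μ _)) (hTmem μ),
        (redC_eq_zero_iff (hTmem μ)).2 (hall μ), mul_zero]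
    have hc : ∀ q q' : A ⧸ DA, q * q' = q' * q := fun q q' => by
      obtain ⟨i, rfl⟩ := hquot q
      obtain ⟨j, rfl⟩ := hquot q'
      exact (Commute.refl _).zpow_zpow i j
    have hW2 : W = (Nat.card (A ⧸ DA) : ℂ) *
        ∑ a : A, if QuotientGroup.mk' DA a = xq then blockCoeff b (a : K) else 0 := by
      rw [hW]
      simp only [hT, Finset.mul_sum]
      rw [Finset.sum_comm]
      refine Finset.sum_congr rfl fun a _ => ?_
      simp only [mul_left_comm _ (blockCoeff b (a : K))]
      rw [← Finset.mul_sum]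
      simp only [mul_comm (conj _)]
      rw [H12.column_orthogonality]
      have hiff : IsConj (QuotientGroup.mk' DA a) xq ↔ QuotientGroup.mk' DA a = xq := by
        refine ⟨fun h => ?_, fun h => h ▸ IsConj.refl _⟩
        obtain ⟨c, hcc⟩ := isConj_iff.1 h
        rwa [hc c, mul_inv_cancel_right] at hcc
      have htop : Subgroup.centralizer ({QuotientGroup.mk' DA a} : Set (A ⧸ DA)) = ⊤ :=
        eq_top_iff.2 fun q _ => Subgroup.mem_centralizer_singleton_iff.2 (hc _ _)
      simp only [hiff, htop, Subgroup.card_top]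
      split_ifs <;> ring
    have hmem : ∀ a : A, MemLocalRing M
        (if QuotientGroup.mk' DA a = xq then blockCoeff b (a : K) else 0) := fun a => by
      split_ifs
      · exact memRing_blockCoeff hb _
      · exact (O M).zero_mem
    rw [hW2, redC_mul (memRing_natCast _) (memRing_sum _ _ fun a _ => hmem a), redC_natCast,
      redC_sum _ _ (fun a _ => hmem a), Finset.sum_eq_single xA ?_ (by simp)] at h0
    · rw [if_pos rfl, ← coeff_eRed, mul_eq_zero, CharP.cast_eq_zero_iff (k M) p] at h0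
      rcases h0 with h0 | h0
      · exact hqp h0
      · exact hne h0
    · intro a _ hax
      split_ifs with hq
      · rw [← coeff_eRed]
        by_contra hna
        obtain ⟨hd, hreg⟩ : (a : K) * x⁻¹ ∈ D ∧ ¬ p ∣ orderOf (a : K) := by
          refine ⟨?_, regular_of_coeff_ne_zero hM hb hna⟩
          have h1 := (QuotientGroup.eq (s := DA)).1 hq.symm
          rw [Subgroup.mem_subgroupOf] at h1
          have h2 := (Subgroup.mem_normalizer_iff.1 hxN _).1 h1
          simpa [xA, mul_assoc] using h2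
        have hd1 : (a : K) * x⁻¹ = 1 := by
          refine eq_one_of_regular_mul_pGroup hM hD.isPGroup hd hD.mem_centralizer hxreg ?_
          rwa [← hD.mem_centralizer _ hd, inv_mul_cancel_right]
        exact hax (Subtype.ext (show (a : K) = x from mul_inv_eq_one.1 hd1))
      · exact redC_zero
  -- the induced character and its invariance
  set lamA : A → ℂ := fun a => (μ : A ⧸ DA → ℂ) (QuotientGroup.mk' DA a) with hlamA
  set Ψ := indFun A lamA with hΨ
  have hΨinv : ∀ (s : S) (w : K), Ψ (φ s w) = Ψ w := by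
    intro s w
    obtain ⟨c, hc⟩ : ∃ c : K, c * x * c⁻¹ = φ s x := by
      have := hCfix s
      exact isConj_iff.1 (ConjClasses.mk_eq_mk_iff_isConj.1 this).symm
    set σ : K ≃* K := (φ s : K ≃* K).trans (MulAut.conj c⁻¹) with hσ
    have hσx : σ x = x := by
      simp only [hσ, MulEquiv.trans_apply, MulAut.conj_apply, inv_inv, ← hc]
      group
    have hσD : IsSylC p x (D.map σ.toMonoidHom) := by
      refine isSylC_of_card (hD.isPGroup.map _) (fun z hz => ?_) ?_
      · obtain ⟨d, hd, rfl⟩ := Subgroup.mem_map.1 hz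
        show σ d * x = x * σ d
        rw [← hσx, ← map_mul, hD.mem_centralizer d hd, map_mul]
      · rw [Subgroup.card_map_of_injective σ.injective, hD.card]
    obtain ⟨c', hc'x, hc'D⟩ := IsSylC.exists_conj_centralizer hσD hD
    set τ : K ≃* K := σ.trans (MulAut.conj c') with hτ
    have hτx : τ x = x := by
      simp only [hτ, MulEquiv.trans_apply, hσx, MulAut.conj_apply]
      rw [Subgroup.mem_centralizer_singleton_iff.1 hc'x, mul_inv_cancel_right]
    have hτD : ∀ d ∈ D, τ d ∈ D := fun d hd => by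
      rw [← hc'D]
      exact Subgroup.mem_map.2 ⟨σ d, Subgroup.mem_map_of_mem _ hd, rfl⟩
    have hτA : ∀ a ∈ A, τ a ∈ A := by
      intro a ha
      obtain ⟨d, hd, j, hj⟩ := hgen ⟨a, ha⟩
      rw [show a = d * x ^ j from hj, map_mul, map_zpow, hτx]
      exact mul_mem (hDA (hτD d hd)) ((le_sup_right : Z ≤ A) ⟨j, rfl⟩)
    have hτA' : ∀ a, τ a ∈ A → a ∈ A := by
      intro a ha
      have heq : A.map τ.toMonoidHom = A := Subgroup.eq_of_le_of_card_ge
        (by rintro _ ⟨z, hz, rfl⟩; exact hτA z hz)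
        (Subgroup.card_map_of_injective τ.injective).ge
      rw [← heq] at ha
      obtain ⟨z, hz, hza⟩ := Subgroup.mem_map.1 ha
      rwa [← τ.injective hza]
    have hval : ∀ (a : K) (ha : a ∈ A), lamA ⟨τ a, hτA a ha⟩ = lamA ⟨a, ha⟩ := by
      intro a ha
      simp only [hlamA]
      refine congrArg _ ?_
      obtain ⟨d, hd, j, hj⟩ := hgen ⟨a, ha⟩
      have hj' : a = d * x ^ j := hj
      rw [QuotientGroup.mk'_apply, QuotientGroup.mk'_apply, QuotientGroup.eq, Subgroup.mem_subgroupOf]
      simp only [Subgroup.coe_mul, Subgroup.coe_inv]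
      rw [hj', map_mul, map_zpow, hτx, mul_inv_rev]
      have hxj : x ^ j ∈ Subgroup.centralizer (D : Set K) :=
        Subgroup.zpow_mem _ hD.mem_centralizer j
      rw [mul_assoc, ← mul_assoc (τ d)⁻¹, hxj _ (D.mul_mem (D.inv_mem (hτD d hd)) hd),
        inv_mul_cancel_left]
      exact D.mul_mem (D.inv_mem (hτD d hd)) hd
    have hΨτ : Ψ (φ s w) = Ψ (τ w) := by
      have : τ w = (c' * c⁻¹) * φ s w * (c' * c⁻¹)⁻¹ := by
        simp [hτ, hσ, MulAut.conj_apply, mul_assoc]
      rw [this]
      exact (H12.indFun_isClassFunction A lamA _ _).symm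
    rw [hΨτ]
    simp only [hΨ, H12.indFun_apply]
    congr 1
    refine (Fintype.sum_equiv τ.toEquiv _ _ fun y => ?_).symm
    have hy : (τ.toEquiv y)⁻¹ * τ w * τ.toEquiv y = τ (y⁻¹ * w * y) := by simp
    rw [hy]
    by_cases hz : y⁻¹ * w * y ∈ A
    · rw [H12.extendByZero_mk A _ hz, H12.extendByZero_mk A _ (hτA _ hz), hval]
    · rw [H12.extendByZero_of_notMem A _ hz, H12.extendByZero_of_notMem A _ fun h => hz (hτA' _ h)]
  have hΨchar : IsCharacter K Ψ :=
    H12.IsCharacter.indFun (H12.IsCharacter.comp (H12.isCharacter_irr μ) (QuotientGroup.mk' DA))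
  choose a ha using fun θ : IrrCharacter K =>
    H12.IsCharacter.classInner_nat hΨchar (H12.isCharacter_irr θ)
  have hainv : ∀ (s : S) θ, a (H12.irrCongr (φ s) θ) = a θ := by
    intro s θ
    have h1 := H12.classInner_comp_equiv (φ s : K ≃* K) Ψ (θ : K → ℂ)
    rw [show Ψ ∘ (φ s : K ≃* K) = Ψ from funext (hΨinv s)] at h1
    have h2 : classInner Ψ (H12.irrCongr (φ s) θ : K → ℂ) = classInner Ψ (θ : K → ℂ) := h1
    rw [ha, ha, Nat.cast_inj] at h2
    exact h2
  -- valuations
  set sb := sInf ((fun θ : IrrCharacter K => (charDegree (θ : K → ℂ)).factorization p) '' b)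
    with hsb
  have hle : ∀ θ ∈ b, sb ≤ (charDegree (θ : K → ℂ)).factorization p := fun θ hθ =>
    Nat.sInf_le (Set.mem_image_of_mem _ hθ)
  have hsbK : sb ≤ (Nat.card K).factorization p := by
    refine (hle ξ hξ).trans ?_
    have h := charDegree_dvd_card ξ
    exact (Nat.factorization_le_iff_dvd
      (fun h0 => Nat.card_pos.ne' (Nat.eq_zero_of_zero_dvd (h0 ▸ h))) Nat.card_pos.ne').2 h p
  have hidx : A.index.factorization p = sb := by
    have hDcard := card_defectGroup hM hb hbD
    simp only [blockDefect, ← hsb] at hDcard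
    have hAcard : Nat.card A = Nat.card D * Nat.card (A ⧸ DA) := by
      rw [Subgroup.card_eq_card_quotient_mul_card_subgroup DA, mul_comm,
        Nat.card_congr (Subgroup.subgroupOfEquivOfLe hDA).toEquiv]
    have h1 := congrArg (fun n : ℕ => n.factorization p) A.card_mul_index
    rw [Nat.factorization_mul Nat.card_pos.ne' Subgroup.index_ne_zero_of_finite, Finsupp.add_apply,
      hAcard, Nat.factorization_mul Nat.card_pos.ne' Nat.card_pos.ne', Finsupp.add_apply,
      Nat.factorization_eq_zero_of_not_dvd hqp, hDcard, hM.1.factorization_pow,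
      Finsupp.single_eq_same] at h1
    omega
  set N := ∑ θ : IrrCharacter K, if θ ∈ b then a θ * (charDegree (θ : K → ℂ) / p ^ sb) else 0
    with hN
  have hdiv : ∀ θ ∈ b, p ^ sb * (charDegree (θ : K → ℂ) / p ^ sb) = charDegree (θ : K → ℂ) :=
    fun θ hθ => Nat.mul_div_cancel' ((Nat.pow_dvd_pow p (hle θ hθ)).trans (Nat.ordProj_dvd _ _))
  have hNeq : ((p : ℂ) ^ sb) * (N : ℂ) = (A.index : ℂ) * T μ := by
    rw [show T μ = ∑ x : A, blockCoeff b (x : K) * lamA x from rfl, ← blockPart_indFun_one,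
      blockPart_eq_sum, hN, Nat.cast_sum, Finset.mul_sum]
    refine Finset.sum_congr rfl fun θ _ => ?_
    split_ifs with hθ
    · rw [← hΨ, ha θ, H12.irr_apply_one, ← charDegree_eq_degree, ← Nat.cast_pow, ← Nat.cast_mul,
        ← Nat.cast_mul, Nat.mul_left_comm, hdiv θ hθ]
    · simp
  have hNp : ¬ p ∣ N := by
    intro hd
    apply hμ
    obtain ⟨N', hN'⟩ : p ^ sb ∣ A.index := hidx ▸ Nat.ordProj_dvd _ _
    have hN'p : ¬ p ∣ N' := by
      intro h
      refine Nat.pow_succ_factorization_not_dvd Subgroup.index_ne_zero_of_finite hM.1 ?_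
        (n := A.index)
      rw [hidx, pow_succ, hN']
      exact mul_dvd_mul_left _ h
    obtain ⟨K', hK'⟩ := hd
    have hN'0 : (N' : ℂ) ≠ 0 := Nat.cast_ne_zero.2 fun h => hN'p (h ▸ dvd_zero p)
    have hT2 : T μ = (K' : ℂ) * (N' : ℂ)⁻¹ * (p : ℂ) := by
      rw [hK', hN'] at hNeq
      push_cast at hNeq
      have hp0 : (p : ℂ) ^ sb ≠ 0 := pow_ne_zero _ (Nat.cast_ne_zero.2 hM.1.ne_zero)
      field_simp
      refine mul_left_cancel₀ hp0 ?_
      linear_combination -hNeq
    rw [hT2]
    exact memIdeal_mul (memRing_mul (memRing_natCast K') (inv_natCast_memRing hM hN'p))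
      (memIdeal_p hM)
  -- the fixed point
  letI actI : MulAction S (IrrCharacter K) :=
    { smul := fun s θ => H12.irrCongr (φ s⁻¹) θ
      one_smul := fun θ => Subtype.ext (funext fun g => by
        show (θ : K → ℂ) (φ 1⁻¹ g) = _; simp)
      mul_smul := fun s t θ => Subtype.ext (funext fun g => by
        show (θ : K → ℂ) (φ (s * t)⁻¹ g) = (θ : K → ℂ) (φ t⁻¹ (φ s⁻¹ g)); simp) }
  let f : IrrCharacter K → ZMod p := fun θ =>
    ((if θ ∈ b then a θ * (charDegree (θ : K → ℂ) / p ^ sb) else 0 : ℕ) : ZMod p)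
  have hf : ∀ (s : S) θ, f (s • θ) = f θ := by
    intro s θ
    show f (H12.irrCongr (φ s⁻¹) θ) = f θ
    have hd : charDegree (H12.irrCongr (φ s⁻¹) θ : K → ℂ) = charDegree (θ : K → ℂ) := by
      unfold charDegree
      rw [H12.irrCongr_apply, map_one]
    simp only [f, hinv s⁻¹ θ, hainv s⁻¹ θ, hd]
  have hsum2 : ∑ θ, f θ = (N : ZMod p) := by rw [hN, Nat.cast_sum]
  have hNz : (N : ZMod p) ≠ 0 := mt (CharP.cast_eq_zero_iff (ZMod p) p N).1 hNp
  rw [← hsum2, sum_eq_sum_fixedPoints hS
    (fun r => by rw [nsmul_eq_mul, ZMod.natCast_self, zero_mul]) f hf] at hNz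
  obtain ⟨θ, hθfix, hθ⟩ := Finset.exists_ne_zero_of_sum_ne_zero hNz
  simp only [f, Ne] at hθ
  by_cases hθb : θ ∈ b
  swap
  · simp [hθb] at hθ
  rw [if_pos hθb, CharP.cast_eq_zero_iff (ZMod p) p] at hθ
  refine ⟨θ, hθb, ?_, fun s => ?_⟩
  · simp only [blockHeight, ← hsb]
    refine Nat.sub_eq_zero_of_le ?_
    by_contra hgt
    push Not at hgt
    refine hθ (Dvd.dvd.mul_left ?_ _)
    refine (Nat.dvd_div_iff_mul_dvd ((Nat.pow_dvd_pow p (hle θ hθb)).trans
      (Nat.ordProj_dvd _ _))).2 ?_
    rw [← pow_succ]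
    exact (Nat.pow_dvd_pow p hgt).trans (Nat.ordProj_dvd _ _)
  · have := (Finset.mem_filter.1 hθfix).2 s⁻¹
    rwa [show s⁻¹ • θ = H12.irrCongr (φ s⁻¹⁻¹) θ from rfl, inv_inv] at this

end H24
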