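import Cfsg.Agent.H20.FirstMain
import Cfsg.Agent.H20.SecondMainApps
import Cfsg.Agent.H23.DefectPair
import Cfsg.Agent.H23.LocalPairs
import Cfsg.Agent.H23.Correspondence

/-!
Blocks whose defect group centraliser lies in the subgroup: induction and defect groups.
-/

set_option autoImplicit false
set_option linter.unusedSectionVars false
set_option linter.style.haveILetI false

open Cfsg H20

namespace H24

universe u

variable {p : ℕ} {G : Type u} [Group G] [Fintype G] {M : Ideal AlgInt} [M.IsPrime]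

theorem Br_eq_br (P : Subgroup G) (a : MonoidAlgebra (H20.k M) G) : H23.Br P a = br P a := by
  ext g
  by_cases hg : g ∈ Subgroup.centralizer (P : Set G)
  · rw [H23.coeff_Br_of_mem _ hg, coeff_br_of_mem _ hg]
  · rw [H23.coeff_Br_of_notMem _ hg, coeff_br_of_notMem _ hg]

theorem res_eq_resAlg (H : Subgroup G) [Fintype H] (a : MonoidAlgebra (H20.k M) G) :
    H23.res H a = resAlg H a := by
  ext g
  rw [H23.coeff_res, coeff_resAlg]

/-- A block `b` of `H` with `C(D₀) ≤ H` induces a block `B` having a maximal pair above one at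
`D₀` which is maximal for `b`. -/
theorem induced_defined [Fact p.Prime] (hM : IsPModular p M) {H : Subgroup G} [Fintype H]
    {b : Set (IrrCharacter H)} (hb : IsPBlock M b) {D₀ : Subgroup H}
    (hD₀ : Cfsg.IsDefectGroup p M b D₀)
    (hC : Subgroup.centralizer ((D₀.map H.subtype : Subgroup G) : Set G) ≤ H) :
    ∃ B : Set (IrrCharacter G), IsInducedBlock M H b B ∧
      ∃ P : Subgroup G, Cfsg.IsDefectGroup p M B P ∧ D₀.map H.subtype ≤ P ∧
        P ⊓ Subgroup.centralizer (P : Set G) ≤ D₀.map H.subtype := by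
  classical
  haveI := k_charP hM
  haveI := H23.isAlgClosed_k hM.2.1
  obtain ⟨ξ, hξ⟩ := block_nonempty hb
  have hDp : IsPGroup p D₀ := H20.IsDefectGroup.isPGroup hD₀
  set Q : Subgroup G := D₀.map H.subtype with hQdef
  have hQ : IsPGroup p Q := hDp.map _
  have hQH : Q ≤ H := Subgroup.map_subtype_le _
  have hQD : Q.subgroupOf H = D₀ := Subgroup.comap_map_eq_self_of_injective H.subtype_injective _
  set K' := Subgroup.normalizer (D₀ : Set H) with hK'
  haveI : Fintype K' := Fintype.ofFinite _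
  obtain ⟨e'', he'', -, hind''⟩ := first_main_exists hM hDp hb hD₀
  obtain ⟨-, -, hlam''⟩ := (inducedBlock_iff _).1 hind''
  obtain ⟨η, hη⟩ := block_nonempty he''
  have hCN : Subgroup.centralizer (Q : Set G) ≤ Subgroup.normalizer (Q : Set G) :=
    Subgroup.centralizer_le_normalizer _
  have hK'G : ∀ n : H, n ∈ K' → (n : G) ∈ Subgroup.normalizer (Q : Set G) := fun n hn =>
    Subgroup.le_normalizer_map (H := D₀) H.subtype (Subgroup.mem_map_of_mem _ hn)
  have hCK' : ∀ n : H, (n : G) ∈ Subgroup.centralizer (Q : Set G) → n ∈ K' := fun n hn =>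
    Subgroup.centralizer_le_normalizer (D₀ : Set H) fun u hu =>
      Subtype.ext (hn (u : G) (Subgroup.mem_map_of_mem _ hu))
  let Φ : MonoidAlgebra (H20.k M) G → H20.k M := fun a => lam M η (resAlg K' (resAlg H a))
  have hkey : ∀ a : MonoidAlgebra (H20.k M) G, IsCl (resAlg H a) →
      Φ (br Q a) = lam M ξ (resAlg H a) := by
    intro a ha
    simp only [Φ]
    rw [← br_subgroupOf_resAlg hQH a, hQD, lam_res_br hM hDp Subgroup.le_normalizer le_rfl η ha]
    exact hlam'' η hη ξ hξ _ ha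
  have hmul : ∀ a a' : MonoidAlgebra (H20.k M) G,
      IsInv (H ⊓ Subgroup.normalizer (Q : Set G)) a →
      IsInv (H ⊓ Subgroup.normalizer (Q : Set G)) a' →
      Φ (br Q a * br Q a') = Φ (br Q a) * Φ (br Q a') := by
    intro a a' ha ha'
    have hcl : ∀ x : MonoidAlgebra (H20.k M) G,
        IsInv (H ⊓ Subgroup.normalizer (Q : Set G)) x →
        IsCl (resAlg K' (resAlg H (br Q x))) := fun x hx g c => by
      have h := br_isInv (P := Q)
        (inf_le_right : H ⊓ Subgroup.normalizer (Q : Set G) ≤ Subgroup.normalizer (Q : Set G)) hx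
        ((g : H) : G) ((c : H) : G) ⟨c.1.2, hK'G _ c.2⟩
      simp only [coeff_resAlg, Subgroup.coe_mul, Subgroup.coe_inv]
      exact h
    simp only [Φ]
    rw [resAlg_mul H (fun g hg => coeff_br_of_notMem _ fun h => hg (hC h)),
      resAlg_mul K' (fun n hn => by
        rw [coeff_resAlg]; exact coeff_br_of_notMem _ fun h => hn (hCK' n h)),
      lam_mul η (hcl _ ha) (hcl _ ha')]
  have hinvG : ∀ {a : MonoidAlgebra (H20.k M) G}, IsCl a →
      IsInv (H ⊓ Subgroup.normalizer (Q : Set G)) a := fun ha => ha.isInv _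
  have hPQ : Q ≤ H ⊓ Subgroup.normalizer (Q : Set G) := le_inf hQH Subgroup.le_normalizer
  obtain ⟨χ, hχ⟩ := exists_lam_eq (fun a => Φ (br Q a))
    (by simp [Φ, br_one, resAlg_one, lam_one]) (by simp [Φ, br_zero, resAlg_zero, lam_zero])
    (fun a a' ha ha' => by
      rw [br_mul hQ (ha.isInv Q) (ha'.isInv Q)]
      exact hmul a a' (hinvG ha) (hinvG ha'))
    (fun a c _ => by
      simp [Φ, br_sub, br_smul, br_one, resAlg_sub, resAlg_smul, resAlg_one, lam_sub, lam_smul,
        lam_one])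
  set B := blockOf M (χ : G → ℂ) with hBdef
  have hB : IsPBlock M B := isPBlock_blockOf χ
  have hind : IsInducedBlock M H b B := (inducedBlock_iff H).2 ⟨hb, hB, fun ξ' hξ' φ hφ a ha => by
    rw [lam_single_block_eq hb hξ ξ' hξ', lam_single_block_eq hB (mem_blockOf_self χ) φ hφ,
      ← hχ a ha, hkey a (ha.res H)]⟩
  refine ⟨B, hind, ?_⟩
  -- the pair at `Q` of `b`
  set Eb := H23.eG M H b with hEb
  have hEbB : H23.IsBlk H Eb := H23.isBlk_eG hb
  have hEbfix : H23.IsFix Q Eb := hEbB.cidem.fix.mono hQH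
  set v := H23.Br Q Eb with hv
  have hvC : H23.CIdem (Subgroup.centralizer (Q : Set G)) v := hEbB.cidem.Br hQ hC hEbfix
  have hresEb : resAlg H Eb = eRed M b := by rw [← res_eq_resAlg, H23.res_eG]
  have hΦv : Φ v = 1 := by
    rw [hv, Br_eq_br, hkey Eb (by rw [hresEb]; exact isCl_eRed b), hresEb, lam_eRed hb, if_pos hξ]
  have hv0 : v ≠ 0 := fun h => one_ne_zero (α := H20.k M) (by
    rw [← hΦv, h]
    simp [Φ, resAlg_zero, lam_zero])
  obtain ⟨h, hh, hhv⟩ := hvC.exists_blk_le hv0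
  have hhpair : H23.IsPair p Q h := ⟨hQ, hh⟩
  have hin : H23.InBlk Eb Q h := hhv
  have hmax : H23.IsMaxIn p H Eb Q h := by
    refine ⟨hhpair, hQH, hin, fun R g hg hRH hBR hle => ?_⟩
    have hQR : Q ≤ R := hle.le p
    obtain ⟨x, hxC, hne⟩ := H23.InBlk.exists_coeff hBR hg.2.ne_zero
    have hxH : x ∈ H := by_contra fun hxH => hne (hEbB.cidem.supp x hxH)
    have hne' : (eRed M b).coeff ⟨x, hxH⟩ ≠ 0 := by rwa [← hresEb, coeff_resAlg]
    obtain ⟨c, hc⟩ := sylC_le_defectGroup hM hb hD₀ hne' (R := R.subgroupOf H)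
      hg.1.comap_subtype (fun u hu => Subtype.ext (hxC (u : G) (Subgroup.mem_subgroupOf.1 hu)))
    have h1 := Subgroup.card_le_of_le hc
    rw [card_conjSub, Nat.card_congr (Subgroup.subgroupOfEquivOfLe hRH).toEquiv] at h1
    exact (Subgroup.eq_of_le_of_card_ge hQR (h1.trans (H20.card_map_subtype D₀).ge)).symm
  set w := H23.Br Q (H23.eB M B) with hw
  have hwC : H23.CIdem (Subgroup.centralizer (Q : Set G)) w :=
    (H23.cidem_eB hB).Br hQ le_top ((H23.cidem_eB hB).fix.mono le_top)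
  have hinB : H23.InBlk (H23.eB M B) Q h := by
    refine (hh.prim w hwC).resolve_left fun h0 => ?_
    have hvw : v * w = 0 := by
      by_contra hne
      obtain ⟨f, hf, hfm⟩ := (hvC.mul hwC).exists_blk_le hne
      have hfv : f * v = f := by
        refine (hf.prim v hvC).resolve_left fun h1 => hf.ne_zero ?_
        rw [← hfm, ← mul_assoc, h1, zero_mul]
      obtain ⟨n, hn, hnf⟩ := (hmax.exists_orbit p hEbB hC).2 f hf hfv
      have hwn : H23.cj n w = w :=
        H23.isFix_iff_cj.1 (H23.isFix_Br (Q := Q) (H23.cidem_eB hB).fix) n ⟨trivial, hn.2⟩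
      apply hf.ne_zero
      rw [← hfm, ← mul_assoc, hfv, ← hnf, ← hwn, ← map_mul, h0, map_zero]
    have hclB : IsCl (H23.eB M B) := isCl_eRed B
    have hΦw : Φ w = 1 := by
      rw [hw, Br_eq_br]
      refine (hχ _ hclB).trans ?_
      exact (lam_eRed hB χ).trans (if_pos (mem_blockOf_self χ))
    refine one_ne_zero (α := H20.k M) ?_
    calc (1 : H20.k M) = Φ v * Φ w := by rw [hΦv, hΦw, mul_one]
      _ = Φ (v * w) := by
        rw [hv, hw, Br_eq_br, Br_eq_br]
        exact (hmul _ _ (fun g c hc => hEbB.cidem.fix c hc.1 g) (hinvG hclB)).symm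
      _ = 0 := by
        rw [hvw]
        simp [Φ, resAlg_zero, lam_zero]
  obtain ⟨P, e, hPmax, hle⟩ := H23.exists_max p (H23.cidem_eB hB) hhpair hinB
  have hQP : Q ≤ P := hle.le p
  refine ⟨P, H23.isDefectGroup_of_isMax hB hPmax, hQP, ?_⟩
  set Z := P ⊓ Subgroup.centralizer (P : Set G) with hZ
  have hS : Q ⊔ Z ≤ P := sup_le hQP inf_le_left
  have hZH : Z ≤ H := (inf_le_right.trans (Subgroup.centralizer_le hQP)).trans hC
  obtain ⟨g, hg, hQg, -⟩ := hle.mid p hPmax.1 (S := Q ⊔ Z) le_sup_left hS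
  have hBS : H23.InBlk Eb (Q ⊔ Z) g :=
    (H23.Le.inBlk_rel p hQg (sup_le hQH hZH) hC hEbB.cidem).2 hin
  have := hmax.2.2.2 _ g hg (sup_le hQH hZH) hBS hQg
  exact le_sup_right.trans this.le

end H24
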