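import Cfsg.Agent.H2.UniqueSubgroup
import Cfsg.Agent.H2.FPFSylow
import Cfsg.Agent.H1.Cores
import Cfsg.Agent.H1.Fitting
import Cfsg.Agent.H58.Zass.Perfect
import Cfsg.Prelude.Def_Transfer
import Mathlib

/-!
Solvable linear groups, transitive on the non-zero vectors, whose point stabilisers are `p`-groups
for the characteristic `p` have a normal `p`-complement and abelian Sylow `p`-subgroups.
-/

set_option autoImplicit false
set_option linter.unusedSectionVars false
set_option linter.style.haveILetI false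

open Cfsg

namespace H24

universe u v

theorem card_le_nine {M : Type u} [AddCommGroup M] [Finite M] (h3 : ∀ w : M, (3 : ℤ) • w = 0)
    (I J : M →+ M) (hII : ∀ w, I (I w) = -w) (hJJ : ∀ w, J (J w) = -w)
    (hJI : ∀ w, J (I w) = -I (J w))
    (hgen : ∀ w : M, w ≠ 0 → ∃ a b : ℤ, J w = a • w + b • I w) :
    Nat.card M ≤ 9 := by
  classical
  let K : ℤ → ℤ → AddSubgroup M := fun a b =>
    (J - a • AddMonoidHom.id M - b • I).ker
  have hK : ∀ a b w, w ∈ K a b ↔ J w = a • w + b • I w := by
    intro a b w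
    simp [K, AddMonoidHom.mem_ker, sub_eq_zero, sub_sub]
  have htwo : ∀ w : M, w + w = 0 → w = 0 := by
    intro w hw
    have h := h3 w
    rw [show (3 : ℤ) = 1 + 1 + 1 from rfl, add_zsmul, add_zsmul, one_zsmul, hw, zero_add] at h
    exact h
  have hred : ∀ (a : ℤ) (w : M), a • w = (a % 3) • w := by
    intro a w
    conv_lhs => rw [← Int.emod_add_mul_ediv a 3, add_zsmul, mul_zsmul', h3, zsmul_zero, add_zero]
  have hsign : ∀ w : M, w ≠ 0 → w ∈ K 1 1 ∨ w ∈ K 1 (-1) ∨ w ∈ K (-1) 1 ∨ w ∈ K (-1) (-1) := by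
    intro w hw
    obtain ⟨a, b, hab⟩ := hgen w hw
    have hc : J (J w) = (a * a + b * b) • w := by
      rw [hab, map_add, map_zsmul, map_zsmul, hJI, hab, map_add, map_zsmul, map_zsmul, hII]
      module
    rw [hJJ, hred] at hc
    have hc' : ((a * a + b * b) % 3 + 1) • w = 0 := by
      rw [add_zsmul, one_zsmul, ← hc, neg_add_cancel]
    have key : a % 3 ≠ 0 ∧ b % 3 ≠ 0 := by
      by_contra hcon
      have h0 : (a * a + b * b) % 3 = 0 ∨ (a * a + b * b) % 3 = 1 := by
        rw [Int.add_emod, Int.mul_emod, Int.mul_emod b]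
        rcases (by omega : a % 3 = 0 ∨ a % 3 = 1 ∨ a % 3 = 2) with h | h | h <;>
        rcases (by omega : b % 3 = 0 ∨ b % 3 = 1 ∨ b % 3 = 2) with h' | h' | h' <;>
        simp [h, h'] at hcon ⊢
      rcases h0 with h | h
      · rw [h, zero_add, one_zsmul] at hc'
        exact hw hc'
      · rw [h, show (1 : ℤ) + 1 = 2 from rfl, two_zsmul] at hc'
        exact hw (htwo w hc')
    have hpm : ∀ x : ℤ, x % 3 ≠ 0 → (∀ u : M, x • u = (1 : ℤ) • u) ∨ ∀ u : M, x • u = (-1 : ℤ) • u := by
      intro x hx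
      rcases (by omega : x % 3 = 1 ∨ x % 3 = 2) with h | h
      · exact Or.inl fun u => by rw [hred, h]
      · refine Or.inr fun u => ?_
        rw [hred, h, neg_one_zsmul, eq_neg_iff_add_eq_zero]
        rw [show (2 : ℤ) • u + u = (3 : ℤ) • u by module, h3]
    simp only [hK]
    rcases hpm a key.1 with ha | ha <;> rcases hpm b key.2 with hb | hb <;>
      rw [hab, ha, hb] <;> tauto
  have hswap : ∀ a b w, w ∈ K a b → I w ∈ K (-a) (-b) := by
    intro a b w hw
    rw [hK] at hw ⊢
    rw [hJI, hw, map_add, map_zsmul, map_zsmul]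
    module
  have hdisj : ∀ a b : ℤ, (a = 1 ∨ a = -1) → (b = 1 ∨ b = -1) →
      ∀ w, w ∈ K a b → w ∈ K (-a) (-b) → w = 0 := by
    intro a b ha hb w h1 h2
    rw [hK] at h1 h2
    have hJ : J w + J w = 0 := by
      nth_rewrite 1 [h1]
      rw [h2]
      module
    have hJ0 := htwo _ hJ
    have := hJJ w
    rw [hJ0, map_zero] at this
    exact neg_eq_zero.1 this.symm
  have hsq : ∀ a b : ℤ, (a = 1 ∨ a = -1) → (b = 1 ∨ b = -1) →
      Nat.card (K a b) * Nat.card (K a b) ≤ Nat.card M := by
    intro a b ha hb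
    rw [← Nat.card_prod]
    refine Nat.card_le_card_of_injective (fun x => (x.1 : M) + I (x.2 : M)) ?_
    rintro ⟨x, y⟩ ⟨x', y'⟩ h
    simp only at h
    have h0 : ((x : M) - x') = I ((y' : M) - y) := by
      rw [map_sub, sub_eq_sub_iff_add_eq_add, h, add_comm]
    have hm : ((x : M) - x') ∈ K a b := sub_mem x.2 x'.2
    have hz := hdisj a b ha hb _ hm (h0 ▸ hswap a b _ (sub_mem y'.2 y.2))
    have hy : I ((y' : M) - y) = 0 := h0.symm.trans hz
    have hy' : ((y' : M) - y) = 0 := by
      have := hII ((y' : M) - y)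
      rw [hy, map_zero] at this
      exact neg_eq_zero.1 this.symm
    exact Prod.ext (Subtype.ext (sub_eq_zero.1 hz)) (Subtype.ext (sub_eq_zero.1 hy').symm)
  have hcover : Nat.card M + 3 ≤
      Nat.card (K 1 1) + Nat.card (K 1 (-1)) + Nat.card (K (-1) 1) + Nat.card (K (-1) (-1)) := by
    haveI := Fintype.ofFinite M
    let S : AddSubgroup M → Finset M := fun A => (Finset.univ.filter (· ∈ A)).erase 0
    have hS : ∀ A : AddSubgroup M, (S A).card + 1 = Nat.card A := by
      intro A
      rw [Finset.card_erase_add_one (by simp [zero_mem]), ← Nat.card_eq_finsetCard]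
      exact Nat.card_congr (Equiv.subtypeEquivRight (by simp))
    have hsub : Finset.univ.erase (0 : M) ⊆
        S (K 1 1) ∪ S (K 1 (-1)) ∪ S (K (-1) 1) ∪ S (K (-1) (-1)) := by
      intro w hw
      have hw0 := Finset.ne_of_mem_erase hw
      simp only [S, Finset.mem_union, Finset.mem_erase, Finset.mem_filter, Finset.mem_univ, true_and]
      rcases hsign w hw0 with h | h | h | h <;> tauto
    have h1 := Finset.card_le_card hsub
    rw [Finset.card_erase_of_mem (Finset.mem_univ _), Finset.card_univ, ← Nat.card_eq_fintype_card] at h1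
    have h2 := Finset.card_union_le (S (K 1 1) ∪ S (K 1 (-1)) ∪ S (K (-1) 1)) (S (K (-1) (-1)))
    have h3' := Finset.card_union_le (S (K 1 1) ∪ S (K 1 (-1))) (S (K (-1) 1))
    have h4 := Finset.card_union_le (S (K 1 1)) (S (K 1 (-1)))
    have := hS (K 1 1)
    have := hS (K 1 (-1))
    have := hS (K (-1) 1)
    have := hS (K (-1) (-1))
    have : 0 < Nat.card M := Nat.card_pos
    omega
  have q1 := hsq 1 1 (Or.inl rfl) (Or.inl rfl)
  have q2 := hsq 1 (-1) (Or.inl rfl) (Or.inr rfl)
  have q3 := hsq (-1) 1 (Or.inr rfl) (Or.inl rfl)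
  have q4 := hsq (-1) (-1) (Or.inr rfl) (Or.inr rfl)
  by_contra hgt
  push Not at hgt
  have hb : ∀ a b c d n : ℤ, n + 3 ≤ a + b + c + d → a * a ≤ n → b * b ≤ n → c * c ≤ n →
      d * d ≤ n → 0 ≤ n → n ≤ 9 := by
    intro a b c d n h1 h2 h3 h4 h5 h0
    have h6 : (n + 3) * (n + 3) ≤ (a + b + c + d) * (a + b + c + d) :=
      mul_self_le_mul_self (by omega) h1
    have h7 : (a + b + c + d) * (a + b + c + d) ≤ 16 * n := by
      linarith [mul_self_nonneg (a - b), mul_self_nonneg (a - c), mul_self_nonneg (a - d),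
        mul_self_nonneg (b - c), mul_self_nonneg (b - d), mul_self_nonneg (c - d)]
    by_contra hlt
    have h8 : 0 < (n - 1) * (n - 9) := mul_pos (by omega) (by omega)
    linarith
  have := hb (Nat.card (K 1 1)) (Nat.card (K 1 (-1))) (Nat.card (K (-1) 1))
    (Nat.card (K (-1) (-1))) (Nat.card M) (by exact_mod_cast hcover) (by exact_mod_cast q1)
    (by exact_mod_cast q2) (by exact_mod_cast q3) (by exact_mod_cast q4) (by positivity)
  omega

theorem quat_aut_trivial {n k : ℕ} [NeZero n] (hn : n = 2 ^ k) (hk : 2 ≤ k)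
    (α : MulAut (QuaternionGroup n)) {m : ℕ} (hm : Odd m) (hα : α ^ m = 1) : α = 1 := by
  haveI : NeZero (2 * n) := ⟨mul_ne_zero two_ne_zero (NeZero.ne n)⟩
  have hn4 : 4 ≤ n := hn ▸ le_trans (by norm_num) (Nat.pow_le_pow_right two_pos hk)
  have hmu : IsUnit (m : ZMod (2 * n)) := by
    rw [ZMod.isUnit_iff_coprime]
    rw [show 2 * n = 2 ^ (k + 1) by rw [hn, pow_succ']]
    exact Nat.Coprime.pow_right _ (Nat.Coprime.symm ((Nat.Prime.coprime_iff_not_dvd Nat.prime_two).2
      hm.not_two_dvd_nat))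
  obtain ⟨r, hr⟩ : ∃ r, α (QuaternionGroup.a 1) = QuaternionGroup.a r := by
    cases h : α (QuaternionGroup.a 1) with
    | a r => exact ⟨r, rfl⟩
    | xa r =>
      exfalso
      have h1 := MulEquiv.orderOf_eq α (QuaternionGroup.a 1 : QuaternionGroup n)
      rw [h, QuaternionGroup.orderOf_xa, QuaternionGroup.orderOf_a_one] at h1
      omega
  have ha : ∀ i : ZMod (2 * n), α (QuaternionGroup.a i) = QuaternionGroup.a (r * i) := by
    intro i
    have h : ∀ j : ℕ, α (QuaternionGroup.a (j : ZMod (2 * n))) = QuaternionGroup.a (r * (j : ZMod (2 * n))) := by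
      intro j
      induction j with
      | zero => simp [← QuaternionGroup.one_def]
      | succ j ih =>
        rw [Nat.cast_succ, ← QuaternionGroup.a_mul_a, map_mul, ih, hr, QuaternionGroup.a_mul_a]
        ring_nf
    have := h i.val
    rwa [ZMod.natCast_zmod_val] at this
  have hr1 : r = 1 := by
    have hiter : ∀ j : ℕ, (α ^ j) (QuaternionGroup.a 1) = QuaternionGroup.a (r ^ j) := by
      intro j
      induction j with
      | zero => simp
      | succ j ih => rw [pow_succ', MulAut.mul_apply, ih, ha, pow_succ']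
    have h1 := hiter m
    rw [hα, MulAut.one_apply, QuaternionGroup.a.injEq] at h1
    have hru : IsUnit r := IsUnit.of_pow_eq_one h1.symm (by rcases hm with ⟨t, rfl⟩; omega)
    obtain ⟨u, hu⟩ := hru
    rw [← hu, ← Units.val_pow_eq_pow_val] at h1
    have h2 : orderOf u ∣ m := orderOf_dvd_of_pow_eq_one (Units.val_eq_one.1 h1.symm)
    have h3 : orderOf u ∣ 2 ^ k := by
      have : Fintype.card (ZMod (2 * n))ˣ = 2 ^ k := by
        rw [ZMod.card_units_eq_totient, show 2 * n = 2 ^ (k + 1) by rw [hn, pow_succ'],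
          Nat.totient_prime_pow_succ Nat.prime_two]
        simp
      exact this ▸ orderOf_dvd_card
    have h4 : orderOf u = 1 := Nat.eq_one_of_dvd_coprimes
      (Nat.Coprime.pow_right _ (Nat.Coprime.symm ((Nat.Prime.coprime_iff_not_dvd Nat.prime_two).2
      hm.not_two_dvd_nat))) h2 h3
    rw [← hu, orderOf_eq_one_iff.1 h4, Units.val_one]
  have hafix : ∀ i, α (QuaternionGroup.a i) = QuaternionGroup.a i := fun i => by
    rw [ha, hr1, one_mul]
  obtain ⟨d, hd⟩ : ∃ d, α (QuaternionGroup.xa 0) = QuaternionGroup.xa d := by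
    cases h : α (QuaternionGroup.xa 0) with
    | a d =>
      exfalso
      nomatch α.injective (h.trans (hafix d).symm)
    | xa d => exact ⟨d, rfl⟩
  have hxa : ∀ i, α (QuaternionGroup.xa i) = QuaternionGroup.xa (d + i) := by
    intro i
    have : (QuaternionGroup.xa i : QuaternionGroup n) = QuaternionGroup.xa 0 * QuaternionGroup.a i := by
      rw [QuaternionGroup.xa_mul_a, zero_add]
    rw [this, map_mul, hd, hafix, QuaternionGroup.xa_mul_a]
  have hd0 : d = 0 := by
    have hiter : ∀ j : ℕ, (α ^ j) (QuaternionGroup.xa 0) = QuaternionGroup.xa ((j : ZMod (2 * n)) * d) := by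
      intro j
      induction j with
      | zero => simp
      | succ j ih =>
        rw [pow_succ', MulAut.mul_apply, ih, hxa, Nat.cast_succ]
        ring_nf
    have h1 := hiter m
    rw [hα, MulAut.one_apply, QuaternionGroup.xa.injEq] at h1
    exact (hmu.mul_right_eq_zero).1 h1.symm
  refine MulEquiv.ext fun g => ?_
  cases g with
  | a i => simp [hafix]
  | xa i => simp [hxa, hd0]

/-- The map of `QuaternionGroup 2` with given images of the generators. -/
def q8Map (u w : QuaternionGroup 2) : QuaternionGroup 2 → QuaternionGroup 2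
  | .a i => u ^ i.val
  | .xa i => w * u ^ i.val

theorem q8Map_iter : ∀ u w : QuaternionGroup 2,
    (∀ g h, q8Map u w (g * h) = q8Map u w g * q8Map u w h) → Function.Injective (q8Map u w) →
    (q8Map u w)^[12] (.a 1) = .a 1 ∧ (q8Map u w)^[12] (.xa 0) = .xa 0 := by
  unfold Function.Injective
  decide +kernel

theorem q8_aut_pow (α : MulAut (QuaternionGroup 2)) : α ^ 12 = 1 := by
  have hf : (α : QuaternionGroup 2 → QuaternionGroup 2) =
      q8Map (α (.a 1)) (α (.xa 0)) := by
    funext g
    cases g with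
    | a i =>
      show α (.a i) = α (.a 1) ^ i.val
      rw [← map_pow, QuaternionGroup.a_one_pow, ZMod.natCast_zmod_val]
    | xa i =>
      show α (.xa i) = α (.xa 0) * α (.a 1) ^ i.val
      rw [← map_pow, ← map_mul, QuaternionGroup.a_one_pow, ZMod.natCast_zmod_val,
        QuaternionGroup.xa_mul_a, zero_add]
  obtain ⟨h1, h2⟩ := q8Map_iter _ _ (fun g h => by rw [← hf]; exact map_mul α g h)
    (hf ▸ α.injective)
  have hit : ∀ (j : ℕ) g, (α ^ j) g = (q8Map (α (.a 1)) (α (.xa 0)))^[j] g := by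
    intro j
    induction j with
    | zero => intro g; simp
    | succ j ih =>
      intro g
      rw [pow_succ, MulAut.mul_apply, ih, Function.iterate_succ_apply, ← hf]
  rw [← hit] at h1 h2
  set β := α ^ 12
  refine MulEquiv.ext fun g => ?_
  cases g with
  | a i =>
    rw [MulAut.one_apply, ← ZMod.natCast_zmod_val i, ← QuaternionGroup.a_one_pow, map_pow, h1]
  | xa i =>
    rw [MulAut.one_apply, show (QuaternionGroup.xa i : QuaternionGroup 2) =
        .xa 0 * (.a 1) ^ i.val by
      rw [QuaternionGroup.a_one_pow, ZMod.natCast_zmod_val, QuaternionGroup.xa_mul_a, zero_add],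
      map_mul, map_pow, h1, h2]

theorem isCyclic_quaternion_one : IsCyclic (QuaternionGroup (2 ^ 0)) :=
  isCyclic_of_orderOf_eq_card (QuaternionGroup.xa 0) (by
    rw [QuaternionGroup.orderOf_xa, Nat.card_eq_fintype_card, QuaternionGroup.card]; norm_num)

theorem q8_mem_closure : ∀ g : QuaternionGroup 2,
    ∃ i j : Fin 4, g = (.xa 0) ^ (i : ℕ) * (.a 1) ^ (j : ℕ) := by decide

end H24
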