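import Cfsg.Agent.H24.LinearPComplement
import Cfsg.Agent.H5.PResidual

/-!
Solvable linear groups, transitive on the non-zero vectors, whose point stabilisers are `p`-groups.
-/

set_option autoImplicit false
set_option linter.unusedSectionVars false
set_option linter.style.haveILetI false

open Cfsg

namespace H24

universe u v

variable {X : Type u} {V : Type v} [Group X] [Finite X] [CommGroup V] [Finite V]

/-- A faithful action, transitive on non-trivial elements, with `p`-groups as stabilisers. -/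
structure LinData (p : ℕ) (ρ : X →* MulAut V) : Prop where
  inj : Function.Injective ρ
  nontriv : Nontrivial V
  expo : ∀ v : V, v ^ p = 1
  fix : ∀ x : X, ∀ v : V, v ≠ 1 → ρ x v = v → ∃ t : ℕ, x ^ p ^ t = 1
  trans : ∀ v w : V, v ≠ 1 → w ≠ 1 → ∃ x, ρ x v = w
  core : Cfsg.pCore p X = ⊥

variable {p : ℕ} [hp : Fact p.Prime] {ρ : X →* MulAut V}

theorem eq_one_of_pow_coprime {G : Type*} [Group G] {x : G} {a b : ℕ} (ha : x ^ a = 1)
    (hb : x ^ b = 1) (h : a.Coprime b) : x = 1 :=
  orderOf_eq_one_iff.1 (Nat.eq_one_of_dvd_coprimes h (orderOf_dvd_of_pow_eq_one ha)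
    (orderOf_dvd_of_pow_eq_one hb))

theorem eq_one_of_not_dvd {N : Subgroup X} (hN : ¬ p ∣ Nat.card N) {x : X} (hx : x ∈ N) {t : ℕ}
    (ht : x ^ p ^ t = 1) : x = 1 := by
  refine eq_one_of_pow_coprime ht (b := Nat.card N) ?_
    ((hp.out.coprime_iff_not_dvd.2 hN).pow_left t)
  exact congrArg Subtype.val (pow_card_eq_one' (x := (⟨x, hx⟩ : N)))

/-- If the quotient by a normal `p'`-subgroup is abelian there is a normal `p`-complement. -/
theorem complement_of_commutator (K : Subgroup X) [K.Normal] (hK : ¬ p ∣ Nat.card K)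
    (hc : ∀ a b : X, a * b * a⁻¹ * b⁻¹ ∈ K) :
    HasNormalPComplement p X ∧ ∀ P : Sylow p X, IsMulCommutative (P : Subgroup X) := by
  refine ⟨?_, fun P => ⟨⟨fun a b => Subtype.ext ?_⟩⟩⟩
  · letI : CommGroup (X ⧸ K) :=
      { (inferInstance : Group (X ⧸ K)) with
        mul_comm := fun a b => by
          induction a using QuotientGroup.induction_on with
          | _ a =>
            induction b using QuotientGroup.induction_on with
            | _ b =>
              rw [← QuotientGroup.mk_mul, ← QuotientGroup.mk_mul, QuotientGroup.eq]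
              have := hc b⁻¹ a⁻¹
              simpa [mul_assoc] using this }
    set r := Nat.card X / p ^ (Nat.card X).factorization p with hr
    have hrd : r * p ^ (Nat.card X).factorization p = Nat.card X :=
      Nat.div_mul_cancel (Nat.ordProj_dvd _ _)
    have hrp : p.Coprime r := Nat.coprime_ordCompl hp.out Nat.card_pos.ne'
    set f : X →* X ⧸ K := (powMonoidHom r).comp (QuotientGroup.mk' K) with hf
    haveI : f.ker.Normal := MonoidHom.normal_ker f
    refine H5.hasNormalPComplement_of_normal f.ker (fun hd => ?_) ?_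
    · obtain ⟨⟨x, hx⟩, hxo⟩ := exists_prime_orderOf_dvd_card' p hd
      rw [Subgroup.orderOf_mk] at hxo
      have h1 : x ^ r ∈ K := by
        rw [MonoidHom.mem_ker, hf] at hx
        simpa [← QuotientGroup.mk_pow, QuotientGroup.eq_one_iff] using hx
      have h2 : x ^ r = 1 := eq_one_of_not_dvd hK h1 (t := 1) (by
        rw [pow_one, ← pow_mul, mul_comm, pow_mul, ← hxo, pow_orderOf_eq_one, one_pow])
      have h3 := eq_one_of_pow_coprime (a := p) (hxo ▸ pow_orderOf_eq_one x) h2 hrp
      rw [h3, orderOf_one] at hxo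
      exact hp.out.one_lt.ne hxo
    · rw [Subgroup.index_ker]
      refine IsPGroup.iff_card.1 fun y => ⟨(Nat.card X).factorization p, ?_⟩
      obtain ⟨y, x, rfl⟩ := y
      apply Subtype.ext
      show (f x) ^ _ = 1
      rw [← map_pow, hf, MonoidHom.comp_apply, powMonoidHom_apply, ← map_pow, ← pow_mul,
        mul_comm, hrd, pow_card_eq_one', map_one]
  · obtain ⟨t, ht⟩ := P.isPGroup' (a * b * a⁻¹ * b⁻¹)
    have h := eq_one_of_not_dvd hK (hc a b) (t := t)
      (by simpa using congrArg Subtype.val ht)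
    have : (a : X) * b * (a : X)⁻¹ = b := mul_inv_eq_one.1 h
    exact mul_inv_eq_iff_eq_mul.1 this

theorem zmod3_sum_sq : ∀ y y' : ZMod 3, y * y + y' * y' = 0 → y = 0 ∧ y' = 0 := by decide

namespace LinData

/-- The cores for other primes act without fixed points. -/
theorem fpf (h : LinData p ρ) {q : ℕ} (hq : q.Prime) (hqp : q ≠ p) (f : Cfsg.pCore q X) (hf : f ≠ 1)
    (v : V) (hv : ρ f v = v) : v = 1 := by
  by_contra hv1
  obtain ⟨t, ht⟩ := h.fix f v hv1 hv
  obtain ⟨s, hs⟩ := H1.isPGroup_pCore q X f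
  exact hf (eq_one_of_pow_coprime (b := q ^ s) (Subtype.ext (by simpa using ht)) hs
    (Nat.Coprime.pow _ _ ((Nat.coprime_primes hp.out hq).2 (Ne.symm hqp))))

theorem cyclic_or_quaternion_pCore (h : LinData p ρ) {q : ℕ} (hq : q.Prime) :
    IsCyclic (Cfsg.pCore q X) ∨
      (q = 2 ∧ ∃ k : ℕ, Nonempty (Cfsg.pCore q X ≃* QuaternionGroup (2 ^ k))) := by
  by_cases hqp : q = p
  · subst hqp
    rw [h.core]
    exact Or.inl inferInstance
  haveI := h.nontriv
  haveI : Fact q.Prime := ⟨hq⟩
  letI : MulDistribMulAction (Cfsg.pCore q X) V :=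
    MulDistribMulAction.compHom V (ρ.comp (Cfsg.pCore q X).subtype)
  exact H2.cyclic_or_quaternion_of_unique (H1.isPGroup_pCore q X) fun S T hS hT =>
    H2.unique_subgroup_card_prime (M := V) (fun f hf v hv => h.fpf hq hqp f hf v hv)
      (H1.isPGroup_pCore q X) S T hS hT

theorem centralizer_le (hs : Group.IsSolvable X) {x : X}
    (hx : ∀ q : ℕ, q.Prime → ∀ s ∈ Cfsg.pCore q X, s * x = x * s) :
    x ∈ Cfsg.fittingSubgroup X := by
  refine H1.centralizer_fitting_le_of_isSolvable inferInstance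
    (Subgroup.mem_centralizer_iff.2 fun s hsF => ?_)
  have hle : Cfsg.fittingSubgroup X ≤ Subgroup.centralizer ({x} : Set X) := by
    rw [H1.fittingSubgroup_eq_iSup_pCore]
    exact iSup_le fun q s' hs' => Subgroup.mem_centralizer_singleton_iff.2 (hx q q.2 s' hs')
  exact Subgroup.mem_centralizer_singleton_iff.1 (hle hsF)

theorem not_dvd_fitting (h : LinData p ρ) : ¬ p ∣ Nat.card (Cfsg.fittingSubgroup X) := by
  intro hd
  set F := Cfsg.fittingSubgroup X with hF
  haveI := H1.fittingSubgroup_normal X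
  haveI : Group.IsNilpotent F := H1.isNilpotent_fittingSubgroup X
  let P : Sylow p F := Classical.arbitrary _
  have hPn : (P : Subgroup F).Normal := inferInstance
  haveI : Subsingleton (Sylow p F) := (Sylow.unique_of_normal P hPn).instSubsingleton
  haveI := Sylow.characteristic_of_subsingleton P
  have h1 : (P : Subgroup F).map F.subtype ≤ ⊥ := h.core ▸ H1.le_pCore (P.isPGroup'.map _)
  refine P.ne_bot_of_dvd_card hd ?_
  exact (Subgroup.map_eq_bot_iff_of_injective _ Subtype.coe_injective).1 (le_bot_iff.1 h1)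

/-- The case in which the `p`-elements centralise the `2`-core. -/
theorem complement_of_centralize (h : LinData p ρ) (hs : Group.IsSolvable X)
    (hT : ∀ x : X, ∀ t : ℕ, x ^ p ^ t = 1 → ∀ s ∈ Cfsg.pCore 2 X, s * x = x * s) :
    HasNormalPComplement p X ∧ ∀ P : Sylow p X, IsMulCommutative (P : Subgroup X) := by
  haveI : ∀ q : ℕ, (Cfsg.pCore q X).Normal := fun q => H1.pCore_normal' q X
  set K : Subgroup X := ⨅ q : {q : ℕ // q.Prime ∧ q ≠ 2},
    (MulAut.conjNormal (H := Cfsg.pCore q.1 X)).ker with hK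
  haveI : K.Normal := Subgroup.normal_iInf_normal fun _ => MonoidHom.normal_ker _
  refine complement_of_commutator K (fun hd => ?_) fun a b => ?_
  · obtain ⟨⟨x, hx⟩, hxo⟩ := exists_prime_orderOf_dvd_card' p hd
    rw [Subgroup.orderOf_mk] at hxo
    have hxp : x ^ p ^ 1 = 1 := by rw [pow_one, ← hxo, pow_orderOf_eq_one]
    have hxF : x ∈ Cfsg.fittingSubgroup X := centralizer_le hs fun q hq s hsq => by
      by_cases h2 : q = 2
      · subst h2
        exact hT x 1 hxp s hsq
      · rw [hK, Subgroup.mem_iInf] at hx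
        have h1 := hx ⟨q, hq, h2⟩
        rw [MonoidHom.mem_ker] at h1
        have h3 : x * s * x⁻¹ = s := by
          simpa using congrArg Subtype.val (DFunLike.congr_fun h1 ⟨s, hsq⟩)
        exact (mul_inv_eq_iff_eq_mul.1 h3).symm
    rw [eq_one_of_not_dvd h.not_dvd_fitting hxF hxp, orderOf_one] at hxo
    exact hp.out.one_lt.ne hxo
  · rw [hK, Subgroup.mem_iInf]
    intro q
    haveI : IsCyclic (Cfsg.pCore q.1 X) :=
      (h.cyclic_or_quaternion_pCore q.2.1).resolve_right fun hq => q.2.2 hq.1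
    rw [MonoidHom.mem_ker]
    simp only [map_mul, map_inv]
    rw [H58.Zass.mulAut_comm (MulAut.conjNormal a) (MulAut.conjNormal b)]
    group

/-- The case in which the `2`-core is a quaternion group moved by a `p`-element. -/
theorem complement_of_quaternion (h : LinData p ρ) [(Cfsg.pCore 2 X).Normal]
    (e : Cfsg.pCore 2 X ≃* QuaternionGroup 2) (x : X) {t : ℕ} (hx : x ^ p ^ t = 1)
    (hne : (MulAut.conjNormal x : MulAut (Cfsg.pCore 2 X)) ≠ 1) :
    HasNormalPComplement p X ∧ ∀ P : Sylow p X, IsMulCommutative (P : Subgroup X) := by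
  classical
  have hTcard : Nat.card (Cfsg.pCore 2 X) = 8 := by
    rw [Nat.card_congr e.toEquiv, Nat.card_eq_fintype_card, QuaternionGroup.card]
  have hp3 : p = 3 := by
    have h1 : (MulAut.congr e (MulAut.conjNormal x)) ^ p ^ t = 1 := by
      rw [← map_pow, ← map_pow, hx, map_one, map_one]
    have h12 := q8_aut_pow (MulAut.congr e (MulAut.conjNormal x))
    by_contra hp3
    have hp2 : p ≠ 2 := by
      intro h2
      subst h2
      rw [h.core, Subgroup.card_bot] at hTcard
      norm_num at hTcard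
    refine hne ((MulAut.congr e).injective ?_)
    rw [map_one]
    refine eq_one_of_pow_coprime h1 h12 ((hp.out.coprime_iff_not_dvd.2 fun hd => ?_).pow_left t)
    rcases (Nat.Prime.dvd_mul hp.out).1 (show p ∣ 2 ^ 2 * 3 from hd) with h' | h'
    · exact hp2 ((Nat.prime_dvd_prime_iff_eq hp.out Nat.prime_two).1 (hp.out.dvd_of_dvd_pow h'))
    · exact hp3 ((Nat.prime_dvd_prime_iff_eq hp.out Nat.prime_three).1 h')
  subst hp3
  -- the generators of the quaternion group
  obtain ⟨el, hel⟩ : ∃ el : QuaternionGroup 2 → X, ∀ g, el g = (e.symm g : X) := ⟨_, fun _ => rfl⟩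
  have helm : ∀ g k, el (g * k) = el g * el k := fun g k => by simp [hel]
  have helT : ∀ g, el g ∈ Cfsg.pCore 2 X := fun g => hel g ▸ (e.symm g).2
  set i := el (.a 1) with hi
  set j := el (.xa 0) with hj
  set z := el (.a 2) with hz
  have hii : i * i = z := by rw [hi, hz, ← helm]; congr 1
  have hjj : j * j = z := by
    rw [hj, hz, ← helm]
    congr 1
  have hji : j * i = z * (i * j) := by
    rw [hi, hj, hz, ← helm, ← helm, ← helm]
    congr 1
  have hel1 : el 1 = 1 := by simp [hel]
  have hzz : z * z = 1 := by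
    rw [hz, ← helm, show (QuaternionGroup.a 2 * QuaternionGroup.a 2 : QuaternionGroup 2) = 1 by decide,
      hel1]
  have hz1 : z ≠ 1 := by
    intro h0
    rw [hz, hel] at h0
    have h' : e.symm (QuaternionGroup.a 2) = 1 := Subtype.ext h0
    rw [MulEquiv.map_eq_one_iff] at h'
    exact absurd h' (by decide)
  have hzinv : ∀ v : V, ρ z v = v⁻¹ := by
    intro v
    refine eq_inv_of_mul_eq_one_right (of_not_not fun h0 => ?_)
    obtain ⟨s, hs⟩ := h.fix z (v * ρ z v) h0 (by
      rw [map_mul, ← MulAut.mul_apply, ← map_mul, hzz, map_one, MulAut.one_apply, mul_comm])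
    exact hz1 (eq_one_of_pow_coprime hs (b := 2) (by rw [pow_two, hzz])
      ((by norm_num : Nat.Coprime 3 2).pow_left s))
  let φ : X → (Additive V →+ Additive V) := fun y => MonoidHom.toAdditive (ρ y).toMonoidHom
  have hφ : ∀ y w, φ y w = Additive.ofMul (ρ y w.toMul) := fun _ _ => rfl
  have hφm : ∀ y y' w, φ (y * y') w = φ y (φ y' w) := fun y y' w => by
    simp [hφ, map_mul]
  have hφ1 : ∀ w, φ 1 w = w := fun w => by simp [hφ]
  have hφinj : ∀ y, Function.Injective (φ y) := fun y a b hab => by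
    have := congrArg (φ y⁻¹) hab
    rwa [← hφm, ← hφm, inv_mul_cancel, hφ1, hφ1] at this
  have hφz : ∀ w, φ z w = -w := fun w => by rw [hφ, hzinv]; rfl
  set I := φ i with hI
  set J := φ j with hJ
  have hII : ∀ w, I (I w) = -w := fun w => by rw [hI, ← hφm, hii, hφz]
  have hJJ : ∀ w, J (J w) = -w := fun w => by rw [hJ, ← hφm, hjj, hφz]
  have hJI : ∀ w, J (I w) = -I (J w) := fun w => by
    rw [hI, hJ, ← hφm, hji, hφm, hφz, hφm]
  have h3 : ∀ w : Additive V, (3 : ℤ) • w = 0 := fun w => by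
    show Additive.ofMul (w.toMul ^ (3 : ℤ)) = 0
    rw [show (3 : ℤ) = ((3 : ℕ) : ℤ) from rfl, zpow_natCast, h.expo]
    rfl
  have hindep : ∀ w : Additive V, w ≠ 0 → ∀ a b : ℤ, a • w + b • I w = 0 →
      (3 : ℤ) ∣ a ∧ (3 : ℤ) ∣ b := by
    intro w hw a b hab
    have hab' : a • I w + b • -w = 0 := by
      have := congrArg I hab
      rwa [map_add, map_zsmul, map_zsmul, hII, map_zero] at this
    have h0 : (a * a + b * b) • w = 0 :=
      calc (a * a + b * b) • w = a • (a • w + b • I w) - b • (a • I w + b • -w) := by module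
        _ = 0 := by rw [hab, hab', smul_zero, smul_zero, sub_zero]
    have ho : addOrderOf w = 3 := addOrderOf_eq_prime (by
      have := h3 w
      rwa [show (3 : ℤ) = ((3 : ℕ) : ℤ) from rfl, natCast_zsmul] at this) hw
    have hd := addOrderOf_dvd_iff_zsmul_eq_zero.2 h0
    rw [ho] at hd
    obtain ⟨c, hc⟩ := hd
    push_cast at hc
    have h5 := congrArg (Int.cast : ℤ → ZMod 3) hc
    push_cast at h5
    rw [show (3 : ZMod 3) = 0 from rfl, zero_mul] at h5
    obtain ⟨ha, hb⟩ := zmod3_sum_sq _ _ h5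
    exact ⟨(ZMod.intCast_zmod_eq_zero_iff_dvd a 3).1 ha, (ZMod.intCast_zmod_eq_zero_iff_dvd b 3).1 hb⟩
  have hred : ∀ (a : ℤ) (w : Additive V), a • w = (a % 3) • w := by
    intro a w
    conv_lhs => rw [← Int.emod_add_mul_ediv a 3, add_zsmul, mul_zsmul', h3, zsmul_zero, add_zero]
  let S : Additive V → AddSubgroup (Additive V) := fun w => AddSubgroup.closure {w, I w}
  have hScard : ∀ w, w ≠ 0 → Nat.card (S w) = 9 := by
    intro w hw
    have hb : Function.Bijective (fun ab : Fin 3 × Fin 3 =>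
        (⟨((ab.1 : ℕ) : ℤ) • w + ((ab.2 : ℕ) : ℤ) • I w,
          AddSubgroup.mem_closure_pair.2 ⟨_, _, rfl⟩⟩ : S w)) := by
      constructor
      · rintro ⟨a, b⟩ ⟨a', b'⟩ hab
        have h0 := congrArg Subtype.val hab
        obtain ⟨ha, hb⟩ := hindep w hw (((a : ℕ) : ℤ) - (a' : ℕ)) (((b : ℕ) : ℤ) - (b' : ℕ)) (by
          simp only at h0
          rw [sub_zsmul, sub_zsmul]
          linear_combination (norm := module) h0)
        have := a.2
        have := a'.2
        have := b.2
        have := b'.2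
        exact Prod.ext (Fin.ext (show (a : ℕ) = a' by omega)) (Fin.ext (show (b : ℕ) = b' by omega))
      · rintro ⟨v, hv⟩
        obtain ⟨m, n, rfl⟩ := AddSubgroup.mem_closure_pair.1 hv
        refine ⟨(⟨(m % 3).toNat, by omega⟩, ⟨(n % 3).toNat, by omega⟩), Subtype.ext ?_⟩
        show (((m % 3).toNat : ℕ) : ℤ) • w + (((n % 3).toNat : ℕ) : ℤ) • I w = m • w + n • I w
        rw [Int.toNat_of_nonneg (Int.emod_nonneg _ (by norm_num)),
          Int.toNat_of_nonneg (Int.emod_nonneg _ (by norm_num)), ← hred, ← hred]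
    rw [← Nat.card_congr (Equiv.ofBijective _ hb)]
    simp
  -- an eigenvector of `I + J`
  obtain ⟨w, hw0, hw⟩ : ∃ w : Additive V, w ≠ 0 ∧ J w = w - I w := by
    haveI := h.nontriv
    obtain ⟨u, hu⟩ := exists_ne (0 : Additive V)
    by_cases hc : u + (I u + J u) = 0
    · refine ⟨I (J u), fun h0 => hu (hφinj j (hφinj i (by
        show I (J u) = I (J 0); rw [h0, map_zero, map_zero]))), ?_⟩
      have e1 : J u = -u - I u := by linear_combination (norm := module) hc
      rw [hII, hJI, hJJ, e1]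
      simp only [map_sub, map_neg, hII]
      linear_combination (norm := module) h3 (I u)
    · refine ⟨u + (I u + J u), hc, ?_⟩
      simp only [map_add, hII, hJJ, hJI]
      have := h3 u
      linear_combination (norm := module) -this
  have hJS : J w ∈ S w := AddSubgroup.mem_closure_pair.2 ⟨1, -1, by rw [hw]; module⟩
  have hclosed : ∀ φ' : Additive V →+ Additive V, φ' w ∈ S w → φ' (I w) ∈ S w →
      ∀ s ∈ S w, φ' s ∈ S w := by
    intro φ' h1 h2 s hs
    exact (AddSubgroup.closure_le (K := (S w).comap φ')).2 (by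
      rintro _ (rfl | rfl) <;> assumption) hs
  have hIcl : ∀ s ∈ S w, I s ∈ S w := hclosed I (AddSubgroup.subset_closure (Or.inr rfl))
    (AddSubgroup.mem_closure_pair.2 ⟨-1, 0, by rw [hII]; module⟩)
  have hJcl : ∀ s ∈ S w, J s ∈ S w := hclosed J hJS
    (AddSubgroup.mem_closure_pair.2 ⟨-1, -1, by rw [hJI, hw, map_sub, hII]; module⟩)
  have hTcl : ∀ g ∈ Cfsg.pCore 2 X, ∀ s ∈ S w, φ g s ∈ S w := by
    intro g hg
    obtain ⟨a, b, hab⟩ := q8_mem_closure (e ⟨g, hg⟩)
    have hg' : g = j ^ (a : ℕ) * i ^ (b : ℕ) := by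
      have := congrArg (fun q => (e.symm q : X)) hab
      simp only [map_mul, map_pow, MulEquiv.symm_apply_apply, Subgroup.coe_mul, Subgroup.coe_pow] at this
      rw [hi, hj, hel, hel]
      exact this
    have hpow : ∀ y : X, (∀ s ∈ S w, φ y s ∈ S w) → ∀ k : ℕ, ∀ s ∈ S w, φ (y ^ k) s ∈ S w := by
      intro y hy k
      induction k with
      | zero => intro s hs; rwa [pow_zero, hφ1]
      | succ k ih => intro s hs; rw [pow_succ, hφm]; exact ih _ (hy s hs)
    intro s hs
    rw [hg', hφm]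
    exact hpow j hJcl a _ (hpow i hIcl b s hs)
  have hgen : ∀ v : Additive V, v ≠ 0 → ∃ a b : ℤ, J v = a • v + b • I v := by
    intro v hv
    obtain ⟨y, hy⟩ := h.trans w.toMul v.toMul hw0 hv
    have hyv : φ y w = v := by rw [hφ, hy]; rfl
    have hR : ∀ g ∈ Cfsg.pCore 2 X, φ g v ∈ (S w).map (φ y) := fun g hg => by
      refine ⟨φ (y⁻¹ * g * y) w, hTcl _ ?_ w (AddSubgroup.subset_closure (Or.inl rfl)), ?_⟩
      · simpa using ‹(Cfsg.pCore 2 X).Normal›.conj_mem g hg y⁻¹
      · rw [← hφm, ← hyv, ← hφm]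
        group
    have hle : S v ≤ (S w).map (φ y) := (AddSubgroup.closure_le _).2 (by
      rintro _ (rfl | rfl)
      · exact ⟨w, AddSubgroup.subset_closure (Or.inl rfl), hyv⟩
      · exact hR i (helT _))
    have heq : S v = (S w).map (φ y) := AddSubgroup.eq_of_le_of_card_ge hle (by
      rw [hScard v hv, AddSubgroup.card_map_of_injective (hφinj y), hScard w hw0])
    have hJv : J v ∈ S v := heq ▸ hR j (helT _)
    obtain ⟨a, b, hab⟩ := AddSubgroup.mem_closure_pair.1 hJv
    exact ⟨a, b, hab.symm⟩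
  have hM : Nat.card V = 9 := by
    have h1 := card_le_nine h3 I J hII hJJ hJI hgen
    have h2 := Nat.le_of_dvd Nat.card_pos (AddSubgroup.card_addSubgroup_dvd_card (S w))
    rw [hScard w hw0] at h2
    rw [Nat.card_congr (Additive.ofMul (α := V))]
    omega
  have hStop : S w = ⊤ := AddSubgroup.eq_top_of_card_eq _ (by
    rw [hScard w hw0, ← Nat.card_congr (Additive.ofMul (α := V)), hM])
  -- the stabiliser of `w`
  letI : MulAction X V := MulAction.compHom V ρ
  have hsmul : ∀ (y : X) (v : V), y • v = ρ y v := fun _ _ => rfl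
  set st := MulAction.stabilizer X w.toMul with hst
  have hw1 : w.toMul ≠ 1 := hw0
  have horb : MulAction.orbit X w.toMul = ({1} : Set V)ᶜ := by
    ext v
    rw [MulAction.mem_orbit_iff, Set.mem_compl_singleton_iff]
    constructor
    · rintro ⟨y, rfl⟩ h0
      exact hw1 ((MulEquiv.map_eq_one_iff (ρ y)).1 h0)
    · exact fun hv => h.trans _ _ hw1 hv
  have hind : st.index = 8 := by
    rw [hst, MulAction.index_stabilizer, horb, Set.ncard_compl, Set.ncard_singleton, hM]
  have hstp : IsPGroup 3 st := fun y => by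
    obtain ⟨s, hs⟩ := h.fix y.1 w.toMul hw1 y.2
    exact ⟨s, Subtype.ext (by simpa using hs)⟩
  refine ⟨H5.hasNormalPComplement_of_normal (Cfsg.pCore 2 X) (by rw [hTcard]; norm_num) ?_,
    fun P => ?_⟩
  · obtain ⟨k, hk⟩ := IsPGroup.iff_card.1 hstp
    refine ⟨k, ?_⟩
    have h1 := Subgroup.card_mul_index (Cfsg.pCore 2 X)
    rw [hTcard, ← Subgroup.card_mul_index st, hind, hk, mul_comm (3 ^ k)] at h1
    omega
  have hfix : ∀ y ∈ st, φ y w = w ∧ ∃ a : ℤ, φ y (I w) = a • w + I w := by
    intro y hy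
    have h1 : φ y w = w := by
      rw [hφ, ← hsmul, MulAction.mem_stabilizer_iff.1 hy]
      rfl
    obtain ⟨a, b, hab⟩ := AddSubgroup.mem_closure_pair.1
      (show φ y (I w) ∈ S w by rw [hStop]; trivial)
    have hk : ∀ k : ℕ, ∃ c : ℤ, φ (y ^ k) (I w) = c • w + (b ^ k) • I w := by
      intro k
      induction k with
      | zero => exact ⟨0, by rw [pow_zero, hφ1]; module⟩
      | succ k ih =>
        obtain ⟨c, hc⟩ := ih
        refine ⟨c + b ^ k * a, ?_⟩
        rw [pow_succ', hφm, hc, map_add, map_zsmul, map_zsmul, h1, ← hab, pow_succ]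
        module
    obtain ⟨s, hs⟩ := h.fix y w.toMul hw1 hy
    obtain ⟨c, hc⟩ := hk (3 ^ s)
    rw [hs, hφ1] at hc
    obtain ⟨-, hb⟩ := hindep w hw0 c (b ^ 3 ^ s - 1) (by
      linear_combination (norm := module) -hc)
    have hb' : (3 : ℤ) ∣ b - 1 := by
      refine (ZMod.intCast_zmod_eq_zero_iff_dvd (b - 1) 3).1 ?_
      have h2 := (ZMod.intCast_zmod_eq_zero_iff_dvd (b ^ 3 ^ s - 1) 3).2 hb
      push_cast at h2 ⊢
      rwa [ZMod.pow_card_pow] at h2
    obtain ⟨d, hd⟩ := hb'
    refine ⟨h1, a, ?_⟩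
    rw [← hab, show b = 1 + d * 3 by linarith, add_zsmul, one_zsmul, mul_zsmul, h3, zsmul_zero,
      add_zero]
  have hcomm : ∀ y ∈ st, ∀ y' ∈ st, y * y' = y' * y := by
    intro y hy y' hy'
    obtain ⟨h1, a, ha⟩ := hfix y hy
    obtain ⟨h1', a', ha'⟩ := hfix y' hy'
    have heq : φ (y * y') = φ (y' * y) := by
      refine AddMonoidHom.eq_of_eqOn_dense hStop ?_
      rintro _ (rfl | rfl)
      · rw [hφm, hφm, h1, h1', h1]
      · rw [hφm, hφm, ha, ha', map_add, map_add, map_zsmul, map_zsmul, h1, h1', ha, ha']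
        module
    refine h.inj (MulEquiv.ext fun v => ?_)
    exact congrArg Additive.toMul (DFunLike.congr_fun heq (Additive.ofMul v))
  let P0 : Sylow 3 X := hstp.toSylow (by rw [hind]; norm_num)
  refine ⟨⟨fun a b => (P.equiv P0).injective ?_⟩⟩
  rw [map_mul, map_mul]
  exact Subtype.ext (hcomm _ (P.equiv P0 a).2 _ (P.equiv P0 b).2)

/-- A solvable linear group, transitive on the non-trivial vectors and with `p`-groups as
stabilisers, has a normal `p`-complement and abelian Sylow `p`-subgroups. -/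
theorem complement (h : LinData p ρ) (hs : Group.IsSolvable X) :
    HasNormalPComplement p X ∧ ∀ P : Sylow p X, IsMulCommutative (P : Subgroup X) := by
  haveI : (Cfsg.pCore 2 X).Normal := H1.pCore_normal' 2 X
  by_cases hc : ∀ x : X, ∀ t : ℕ, x ^ p ^ t = 1 → (MulAut.conjNormal x : MulAut (Cfsg.pCore 2 X)) = 1
  · refine h.complement_of_centralize hs fun x t hxt s hsq => ?_
    have h3 : x * s * x⁻¹ = s := by
      simpa using congrArg Subtype.val (DFunLike.congr_fun (hc x t hxt) ⟨s, hsq⟩)
    exact (mul_inv_eq_iff_eq_mul.1 h3).symm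
  push Not at hc
  obtain ⟨x, t, hxt, hne⟩ := hc
  have hp2 : p ≠ 2 := by
    intro h2
    subst h2
    refine hne (MulEquiv.ext fun s => ?_)
    have hs1 : (s : X) = 1 := (Subgroup.mem_bot).1 (h.core ▸ s.2)
    exact Subtype.ext (by simp [hs1])
  have hodd : Odd (p ^ t) := (hp.out.odd_of_ne_two hp2).pow
  have hpow : (MulAut.conjNormal x : MulAut (Cfsg.pCore 2 X)) ^ p ^ t = 1 := by
    rw [← map_pow, hxt, map_one]
  have hcyc : ¬ IsCyclic (Cfsg.pCore 2 X) := by
    intro hcy
    haveI : Fact (Nat.Prime 2) := ⟨Nat.prime_two⟩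
    obtain ⟨k, hk⟩ := IsPGroup.iff_card.1 (H1.isPGroup_pCore 2 X)
    refine hne (eq_one_of_pow_coprime hpow (b := Nat.card (MulAut (Cfsg.pCore 2 X)))
      pow_card_eq_one' ?_)
    rw [IsCyclic.card_mulAut, hk]
    rcases Nat.eq_zero_or_pos k with h0 | hk0
    · simp [h0]
    · rw [Nat.totient_prime_pow Nat.prime_two hk0]
      simp only [Nat.add_one_sub_one, mul_one]
      exact Nat.Coprime.pow_right _ (Nat.coprime_two_right.2 hodd)
  obtain ⟨-, k, ⟨e⟩⟩ := (h.cyclic_or_quaternion_pCore Nat.prime_two).resolve_left hcyc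
  have hk : k = 1 := by
    rcases (by omega : k = 0 ∨ k = 1 ∨ 2 ≤ k) with h0 | h0 | h0
    · subst h0
      haveI := isCyclic_quaternion_one
      exact absurd (isCyclic_of_surjective e.symm.toMonoidHom e.symm.surjective) hcyc
    · exact h0
    · haveI : NeZero (2 ^ k) := ⟨by positivity⟩
      refine absurd ((MulAut.congr e).injective ?_) hne
      rw [map_one]
      exact quat_aut_trivial rfl h0 _ hodd (by rw [← map_pow, hpow, map_one])
  subst hk
  exact h.complement_of_quaternion e x hxt hne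

end LinData

end H24
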