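import Cfsg.Agent.H24.ClassTwoCriterion
import Cfsg.Agent.H33.NilpMaximal
import Cfsg.Agent.H1.FPF
import Cfsg.Agent.H79.GlaubermanThompson
import Cfsg.Agent.H16.OddOrder
import Mathlib.GroupTheory.SemidirectProduct

/-!
A finite group with a coprime operator group `A` and a maximal `A`-invariant proper subgroup that is
nilpotent with Sylow 2-subgroup of class at most two is solvable.
-/

set_option autoImplicit false
set_option linter.unusedSectionVars false
set_option linter.style.haveILetI false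

namespace H24.NilpInvMax

open Subgroup

universe u v

variable {G : Type u} [Group G] {A : Type v} [Group A] (φ : A →* MulAut G)

/-- `H` is invariant under the operators. -/
def Inv (H : Subgroup G) : Prop := ∀ a, ∀ h ∈ H, φ a h ∈ H

/-- The 2-elements of `M` generate a group of class at most two. -/
def ClassTwo (M : Subgroup G) : Prop :=
  ∀ a ∈ M, ∀ b ∈ M, ∀ c ∈ M, (∃ i : ℕ, a ^ 2 ^ i = 1) → (∃ i : ℕ, b ^ 2 ^ i = 1) →
    (∃ i : ℕ, c ^ 2 ^ i = 1) → c * (a * b * a⁻¹ * b⁻¹) = a * b * a⁻¹ * b⁻¹ * c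

/-- The hypothesis on `M`. -/
structure Data (M : Subgroup G) : Prop where
  ne_top : M ≠ ⊤
  inv : Inv φ M
  max : ∀ H : Subgroup G, M ≤ H → H ≠ ⊤ → Inv φ H → H = M
  nil : Group.IsNilpotent M
  cls : ClassTwo M

variable {φ}

theorem mem_sylow_of_normalizes [Finite G] {p : ℕ} [Fact p.Prime] (S : Sylow p G) {g : G}
    (hg : g ∈ normalizer ((S : Subgroup G) : Set G)) (hgp : ∃ j : ℕ, orderOf g = p ^ j) : g ∈ S := by
  obtain ⟨j, hj⟩ := hgp
  have hp2 : IsPGroup p (zpowers g) := IsPGroup.of_card (n := j) (by rw [Nat.card_zpowers, hj])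
  have h2 : IsPGroup p ((S : Subgroup G) ⊔ zpowers g : Subgroup G) :=
    IsPGroup.to_sup_of_normal_left' S.isPGroup' hp2 (zpowers_le.mpr hg)
  have h3 := le_sup_right (a := (S : Subgroup G)) (mem_zpowers g)
  rw [S.3 h2 le_sup_left] at h3
  exact h3

theorem normalizer_eq_of_coreFree [Finite G] {M U : Subgroup G} (hM : Data φ M)
    (hcore : M.normalCore = ⊥) (hUM : U ≤ M) (hU : U ≠ ⊥) (hUinv : Inv φ U)
    (hn : M ≤ normalizer (U : Set G)) : normalizer (U : Set G) = M := by
  by_contra hne
  have htop : normalizer (U : Set G) = ⊤ := by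
    by_contra h
    exact hne (hM.max _ hn h fun a => H1.normalizer_invariant (φ a) (hUinv a))
  haveI : U.Normal := normalizer_eq_top_iff.mp htop
  exact hU (le_bot_iff.mp (hcore ▸ normal_le_normalCore.mpr hUM))

theorem sylow_of_coreFree [Finite G] {M : Subgroup G} (hM : Data φ M)
    (hcore : M.normalCore = ⊥) {p : ℕ} [Fact p.Prime] (hp : p ∣ Nat.card M) :
    ∃ S : Sylow p G, (S : Subgroup G) ≤ M ∧ (S : Subgroup G) ≠ ⊥ ∧ Inv φ (S : Subgroup G) ∧
      normalizer ((S : Subgroup G) : Set G) = M := by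
  haveI := hM.nil
  obtain ⟨P⟩ : Nonempty (Sylow p M) := inferInstance
  haveI hPn : (P : Subgroup M).Normal := inferInstance
  haveI hPc : (P : Subgroup M).Characteristic := P.characteristic_of_normal hPn
  set Q : Subgroup G := (P : Subgroup M).map M.subtype with hQ
  have hQM : Q ≤ M := map_subtype_le _
  have hQne : Q ≠ ⊥ := by
    rw [hQ, Ne, map_eq_bot_iff_of_injective _ M.subtype_injective]
    exact P.ne_bot_of_dvd_card hp
  have hQinv : Inv φ Q := by
    rintro a _ ⟨x, hx, rfl⟩
    exact ⟨H1.restrictAut (φ a) M (hM.inv a) x, H1.invariant_of_characteristic _ hx, rfl⟩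
  have hn : M ≤ normalizer (Q : Set G) := by
    intro m hm
    refine mem_normalizer_fintype ?_
    rintro _ ⟨x, hx, rfl⟩
    exact ⟨⟨m, hm⟩ * x * ⟨m, hm⟩⁻¹, hPn.conj_mem x hx ⟨m, hm⟩, rfl⟩
  have hNQ := normalizer_eq_of_coreFree hM hcore hQM hQne hQinv hn
  obtain ⟨S, hS⟩ := (H33.isPGroup_map_sylow P).exists_le_sylow
  suffices h : (S : Subgroup G) = Q by exact ⟨S, h ▸ hQM, h ▸ hQne, h ▸ hQinv, h ▸ hNQ⟩
  by_contra hne
  have hlt : Q < (S : Subgroup G) := lt_of_le_of_ne hS (Ne.symm hne)
  have hnc : NormalizerCondition (S : Subgroup G) := by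
    haveI : Group.IsNilpotent (S : Subgroup G) := S.isPGroup'.isNilpotent
    exact Group.normalizerCondition_of_isNilpotent
  have hsub : (Q.subgroupOf (S : Subgroup G)) < ⊤ := by
    rw [lt_top_iff_ne_top]
    intro h
    exact hne (le_antisymm (subgroupOf_eq_top.mp h) hS)
  obtain ⟨x, hx, hxQ⟩ := SetLike.exists_of_lt (hnc _ hsub)
  have hxN : (x : G) ∈ normalizer (Q : Set G) := by
    rw [← subgroupOf_normalizer_eq hS] at hx
    exact hx
  rw [hNQ] at hxN
  have hPle : (P : Subgroup M) ≤ (S : Subgroup G).subgroupOf M := fun y hy =>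
    hS (mem_map_of_mem _ hy)
  have heq := P.is_maximal' (S.isPGroup'.comap_of_injective M.subtype M.subtype_injective) hPle
  exact hxQ ⟨⟨x, hxN⟩, heq.le (show (⟨x, hxN⟩ : M) ∈ (S : Subgroup G).subgroupOf M from x.2), rfl⟩

/-- Every prime divisor of a core-free `M` gives a normal complement. -/
theorem hasNormalPComplement_of_coreFree [Finite G] (hA : ∀ a, Odd (orderOf (φ a)))
    {M : Subgroup G} (hM : Data φ M) (hcore : M.normalCore = ⊥) {p : ℕ} [Fact p.Prime]
    (hp : p ∣ Nat.card M) : Cfsg.HasNormalPComplement p G := by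
  obtain ⟨S, hSM, hSne, hSinv, hNS⟩ := sylow_of_coreFree hM hcore hp
  by_cases hp2 : p = 2
  · subst hp2
    have h2el : ∀ x ∈ S, ∃ i : ℕ, x ^ 2 ^ i = 1 := fun x hx => by
      obtain ⟨i, hi⟩ := S.isPGroup' ⟨x, hx⟩
      exact ⟨i, congrArg Subtype.val hi⟩
    have hcl : ∀ a ∈ S, ∀ b ∈ S, ∀ c ∈ S, c * (a * b * a⁻¹ * b⁻¹) = a * b * a⁻¹ * b⁻¹ * c :=
      fun a ha b hb c hc => hM.cls a (hSM ha) b (hSM hb) c (hSM hc) (h2el a ha) (h2el b hb) (h2el c hc)
    have hcent : ∀ n ∈ M, Odd (orderOf n) → n ∈ centralizer ((S : Subgroup G) : Set G) := fun n hn hno =>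
      mem_centralizer_iff.mpr fun s hs => Cfsg.Agent.S3839.cent_of_npc
        (H1.hasNormalPComplement_of_nilpotent 2 hM.nil) S.isPGroup' hSM hn (hNS.symm ▸ hn)
        (Nat.coprime_two_right.mpr hno) s hs
    refine H24.ClassTwo.hasNormalPComplement S hcl φ hA hSinv fun Y hYS hYne hSY hYinv n hn hno => ?_
    have hMY : M ≤ normalizer (Y : Set G) := by
      intro m hm
      rw [← H20.pPart_mul_qPart (p := 2) m]
      refine mul_mem (hSY ?_) (centralizer_le_normalizer _ ?_)
      · exact mem_sylow_of_normalizes S (hNS.symm ▸ M.pow_mem hm _) (H20.exists_orderOf_pPart m)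
      · refine centralizer_le hYS (hcent _ (M.pow_mem hm _) ?_)
        rw [Nat.odd_iff, ← Nat.two_dvd_ne_zero]
        exact H20.not_dvd_orderOf_qPart m
    rw [normalizer_eq_of_coreFree hM hcore (hYS.trans hSM) hYne hYinv hMY] at hn
    exact hcent n hn hno
  · refine H79.hasNormalPComplement_of_ZJ hp2 true (Nat.card G) G le_rfl S (S : Subgroup G)
      ⟨le_rfl, fun _ _ _ hg => hg⟩ ?_
    have hZinv : Inv φ (H79.ZJ p true (S : Subgroup G)) := by
      intro a x hx
      have h := H79.ZJ_map (p := p) (b := true) (f := (φ a).toMonoidHom) (D := (S : Subgroup G))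
        (fun y _ hy => (φ a).injective (hy.trans (map_one _).symm))
      rw [show (S : Subgroup G).map (φ a).toMonoidHom = (S : Subgroup G) from
        H1.map_eq_of_invariant (φ a) (hSinv a)] at h
      exact h ▸ ⟨x, hx, rfl⟩
    rw [normalizer_eq_of_coreFree hM hcore ((H79.ZJ_le (S : Subgroup G)).trans hSM)
      (H79.ZJ_ne_bot S.isPGroup' hSne) hZinv (hNS ▸ H79.ZJ_normalizer_le (S : Subgroup G))]
    exact H1.hasNormalPComplement_of_nilpotent p hM.nil

/-- `M ⋊ A` inside `G ⋊ A`. -/
def mulOps (M : Subgroup G) (hM : Inv φ M) : Subgroup (G ⋊[φ] A) where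
  carrier := {x | x.left ∈ M}
  one_mem' := M.one_mem
  mul_mem' := by
    intro x y hx hy
    show (x * y).left ∈ M
    rw [SemidirectProduct.mul_left]
    exact M.mul_mem hx (hM _ _ hy)
  inv_mem' := by
    intro x hx
    show (x⁻¹).left ∈ M
    rw [SemidirectProduct.inv_left]
    exact hM _ _ (M.inv_mem hx)

/-- The core-free case. -/
theorem isSolvable_of_coreFree [Finite G] [Finite A] [Group.IsSolvable A]
    (hA : ∀ a, Odd (orderOf (φ a))) (hcop : (Nat.card A).Coprime (Nat.card G))
    {M : Subgroup G} (hM : Data φ M) (hcore : M.normalCore = ⊥) : Group.IsSolvable G := by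
  classical
  have key : ∀ s : Finset ℕ, (∀ p ∈ s, p.Prime ∧ p ∣ Nat.card M) →
      ∃ K : Subgroup G, ∃ _ : K.Normal, Inv φ K ∧ Group.IsSolvable (G ⧸ K) ∧
        ∀ p ∈ s, ¬ p ∣ Nat.card K := by
    intro s
    induction s using Finset.induction with
    | empty =>
      intro _
      haveI : Subsingleton (G ⧸ (⊤ : Subgroup G)) := QuotientGroup.subsingleton_quotient_top
      exact ⟨⊤, inferInstance, fun _ _ _ => trivial, inferInstance, by simp⟩
    | insert p s hps ih =>
      intro hs
      obtain ⟨K, hK, hKinv, hsolK, hcard⟩ := ih (fun q hq => hs q (Finset.mem_insert_of_mem hq))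
      obtain ⟨hp, hpM⟩ := hs p (Finset.mem_insert_self p s)
      haveI : Fact p.Prime := ⟨hp⟩
      have hsolp : Group.IsSolvable (G ⧸ Cfsg.pResidual p G) := by
        haveI : Group.IsNilpotent (G ⧸ Cfsg.pResidual p G) :=
          H5.isPGroup_quotient_pResidual.isNilpotent
        infer_instance
      refine ⟨K ⊓ Cfsg.pResidual p G, inferInstance,
        fun a x hx => ⟨hKinv a x hx.1, H5.pResidual_map_le (φ a).toMonoidHom ⟨x, hx.2, rfl⟩⟩,
        H33.isSolvable_quotient_inf _ _ hsolK hsolp, ?_⟩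
      intro q hq hd
      rcases Finset.mem_insert.mp hq with rfl | hq
      · exact H5.hasNormalPComplement_iff_not_dvd.mp (hasNormalPComplement_of_coreFree hA hM hcore hpM)
          (hd.trans (card_dvd_of_le inf_le_right))
      · exact hcard q hq (hd.trans (card_dvd_of_le inf_le_left))
  obtain ⟨K, hKn, hKinv, hsolK, hK⟩ := key (Nat.card M).primeFactors
    (fun p hp => ⟨Nat.prime_of_mem_primeFactors hp, Nat.dvd_of_mem_primeFactors hp⟩)
  haveI := hsolK
  suffices hKs : Group.IsSolvable K by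
    haveI := hKs
    exact Group.isSolvable_of_ker_le_range K.subtype (QuotientGroup.mk' K) (by simp)
  by_cases hKb : K = ⊥
  · haveI : Subsingleton K := by rw [hKb]; infer_instance
    infer_instance
  have hKcop : (Nat.card M).Coprime (Nat.card K) := by
    refine Nat.coprime_of_dvd fun q hq h1 h2 => hK q ?_ h2
    exact Nat.mem_primeFactors.mpr ⟨hq, h1, Nat.card_pos.ne'⟩
  obtain ⟨q, hq, hqK⟩ := Nat.exists_prime_and_dvd (n := Nat.card K)
    (fun hc => hKb (card_eq_one.mp hc))
  haveI : Fact q.Prime := ⟨hq⟩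
  haveI := hM.nil
  haveI : Finite (G ⋊[φ] A) := Finite.of_equiv _ SemidirectProduct.equivProd.symm
  set Kι : Subgroup (G ⋊[φ] A) := K.map SemidirectProduct.inl with hKι
  have hinj : Function.Injective (SemidirectProduct.inl : G →* G ⋊[φ] A) := SemidirectProduct.inl_injective
  set B := mulOps M hM.inv with hB
  have hBcard : Nat.card B = Nat.card M * Nat.card A := by
    rw [← Nat.card_prod]
    exact Nat.card_congr
      { toFun := fun x => (⟨x.1.left, x.2⟩, x.1.right)
        invFun := fun y => ⟨⟨y.1, y.2⟩, y.1.2⟩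
        left_inv := fun x => rfl
        right_inv := fun y => rfl }
  have hBsol : Group.IsSolvable B := by
    let f : M →* B :=
      { toFun := fun m => ⟨SemidirectProduct.inl (m : G), m.2⟩
        map_one' := Subtype.ext (map_one _)
        map_mul' := fun a b => Subtype.ext (map_mul _ _ _) }
    refine Group.isSolvable_of_ker_le_range f (SemidirectProduct.rightHom.comp B.subtype) ?_
    intro x hx
    refine ⟨⟨x.1.left, x.2⟩, Subtype.ext (SemidirectProduct.ext rfl ?_)⟩
    exact (show x.1.right = 1 from hx).symm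
  have hBK : B ≤ normalizer (Kι : Set (G ⋊[φ] A)) := by
    intro x _
    refine mem_normalizer_fintype ?_
    rintro _ ⟨k, hk, rfl⟩
    refine ⟨x.left * φ x.right k * x.left⁻¹, hKn.conj_mem _ (hKinv _ _ hk) _, ?_⟩
    refine SemidirectProduct.ext ?_ ?_ <;> simp
  have hKιcard : Nat.card Kι = Nat.card K := (Nat.card_congr (K.equivMapOfInjective _ hinj).toEquiv).symm
  obtain ⟨Q, hQ⟩ := H1.exists_invariant_sylow (A := B) (K := Kι) hBK
    (by
      rw [hBcard, hKιcard]
      exact hKcop.mul_left (hcop.coprime_dvd_right (card_subgroup_dvd_card K)))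
    (Or.inl hBsol) q
  set R : Subgroup G := ((Q : Subgroup Kι).map Kι.subtype).comap SemidirectProduct.inl with hR
  have hRmap : R.map SemidirectProduct.inl = (Q : Subgroup Kι).map Kι.subtype :=
    map_comap_eq_self ((map_subtype_le _).trans (map_le_range _ _))
  have hRK : R ≤ K := fun r hr => by
    obtain ⟨k, hk, he⟩ := map_subtype_le (Q : Subgroup Kι) hr
    rwa [← hinj he]
  have hRcard : Nat.card R = Nat.card (Q : Subgroup Kι) := by
    rw [Nat.card_congr (R.equivMapOfInjective _ hinj).toEquiv, hRmap, card_map_of_injective Kι.subtype_injective]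
  have hRne : R ≠ ⊥ := by
    intro h
    have := Q.dvd_card_of_dvd_card (hKιcard.symm ▸ hqK)
    rw [← hRcard, h, card_bot] at this
    exact hq.one_lt.ne' (Nat.dvd_one.mp this)
  have hRinv : Inv φ R := by
    intro a r hr
    have ha : (SemidirectProduct.inr a : G ⋊[φ] A) ∈ B := by
      show (SemidirectProduct.inr a : G ⋊[φ] A).left ∈ M
      rw [SemidirectProduct.left_inr]
      exact M.one_mem
    have h := (mem_normalizer_iff.mp (hQ ha) (SemidirectProduct.inl r)).mp hr
    show SemidirectProduct.inl (φ a r) ∈ (Q : Subgroup Kι).map Kι.subtype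
    rwa [SemidirectProduct.inl_aut, map_inv]
  have hMR : M ≤ normalizer (R : Set G) := by
    intro m hm
    refine mem_normalizer_fintype fun r hr => ?_
    have h := (mem_normalizer_iff.mp (hQ (show (SemidirectProduct.inl m : G ⋊[φ] A) ∈ B from hm))
      (SemidirectProduct.inl r)).mp hr
    show SemidirectProduct.inl (m * r * m⁻¹) ∈ (Q : Subgroup Kι).map Kι.subtype
    rwa [map_mul, map_mul, map_inv]
  have hKM : K ⊓ M = ⊥ := inf_eq_bot_of_coprime hKcop.symm
  have hRM : ¬ R ≤ M := fun h' => hRne (le_bot_iff.mp (hKM ▸ le_inf hRK h'))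
  have htop : R ⊔ M = ⊤ := by
    by_contra h
    refine hRM ((hM.max (R ⊔ M) le_sup_right h ?_) ▸ le_sup_left)
    intro a x hx
    suffices e : R ⊔ M ≤ (R ⊔ M).comap (φ a).toMonoidHom from e hx
    exact sup_le (fun r hr => mem_sup_left (hRinv a r hr)) (fun m hm => mem_sup_right (hM.inv a m hm))
  have hKR : K ≤ R := by
    intro x hx
    have hx' : x ∈ ((R ⊔ M : Subgroup G) : Set G) := by rw [htop]; trivial
    rw [coe_mul_of_right_le_normalizer_left R M hMR] at hx'
    obtain ⟨r, hr, m, hm, rfl⟩ := hx'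
    have hmK : m ∈ K := by
      have h := K.mul_mem (K.inv_mem (hRK hr)) hx
      rwa [inv_mul_cancel_left] at h
    have hm1 : m = 1 := mem_bot.mp (hKM ▸ mem_inf.mpr ⟨hmK, hm⟩)
    show r * m ∈ R
    rw [hm1, mul_one]
    exact hr
  obtain ⟨n, hn⟩ := IsPGroup.iff_card.mp Q.isPGroup'
  have hKp : IsPGroup q K := IsPGroup.of_card (n := n)
    (by rw [le_antisymm hKR hRK, hRcard, hn])
  haveI := hKp.isNilpotent
  infer_instance

/-- The main induction. -/
theorem isSolvable_aux [Finite A] [Group.IsSolvable A] (hA : Odd (Nat.card A)) :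
    ∀ (n : ℕ) (G : Type u) [Group G] [Finite G], Nat.card G ≤ n → ∀ (φ : A →* MulAut G),
      (Nat.card A).Coprime (Nat.card G) → ∀ M : Subgroup G, Data φ M → Group.IsSolvable G := by
  intro n
  induction n with
  | zero => intro G _ _ hn; exact absurd (Nat.card_pos (α := G)) (by omega)
  | succ n ih =>
  intro G _ _ hn φ hcop M hM
  have hodd : ∀ a, Odd (orderOf (φ a)) := fun a =>
    hA.of_dvd_nat ((orderOf_map_dvd φ a).trans (orderOf_dvd_natCard a))
  by_cases hcore : M.normalCore = ⊥
  · exact isSolvable_of_coreFree hodd hcop hM hcore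
  set N := M.normalCore with hN
  have hNM : N ≤ M := normalCore_le M
  have hNinv : ∀ a, N.map (φ a).toMonoidHom = N := by
    intro a
    refine H1.map_eq_of_invariant (φ a) fun x hx g => ?_
    have h := hM.inv a _ (hx ((φ a)⁻¹ g))
    rwa [map_mul, map_mul, map_inv, show φ a ((φ a)⁻¹ g) = g from (φ a).apply_symm_apply g] at h
  have hcard : Nat.card (G ⧸ N) ≤ n := by
    have h1 := card_eq_card_quotient_mul_card_subgroup N
    have h2 : 1 < Nat.card N := N.one_lt_card_iff_ne_bot.mpr hcore
    have h3 : 0 < Nat.card (G ⧸ N) := Nat.card_pos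
    nlinarith
  let φN : A →* MulAut (G ⧸ N) :=
    { toFun := fun a => QuotientGroup.congr N N (φ a) (hNinv a)
      map_one' := MulEquiv.ext fun x => by
        induction x using QuotientGroup.induction_on
        simp
      map_mul' := fun a b => MulEquiv.ext fun x => by
        induction x using QuotientGroup.induction_on
        simp only [map_mul, MulAut.mul_apply]
        rfl }
  set π := QuotientGroup.mk' N with hπ
  have hφN : ∀ a x, φN a (π x) = π (φ a x) := fun a x => rfl
  have hmapnil : Group.IsNilpotent (M.map π) := by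
    haveI := hM.nil
    exact Group.nilpotent_of_surjective _ (MonoidHom.subgroupMap_surjective π M)
  have hcomap : (M.map π).comap π = M := comap_map_eq_self (by rwa [QuotientGroup.ker_mk'])
  have hlift : ∀ y ∈ M.map π, (∃ i : ℕ, y ^ 2 ^ i = 1) →
      ∃ x ∈ M, π x = y ∧ ∃ i : ℕ, x ^ 2 ^ i = 1 := by
    rintro _ ⟨x, hx, rfl⟩ ⟨i, hi⟩
    obtain ⟨j, hj⟩ := H20.exists_orderOf_pPart (p := 2) x
    refine ⟨H20.pPart 2 x, M.pow_mem hx _, ?_, j, hj ▸ pow_orderOf_eq_one _⟩
    have hxy := congrArg π (H20.pPart_mul_qPart (p := 2) x)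
    rw [map_mul] at hxy
    obtain ⟨k, -, hk⟩ := (Nat.dvd_prime_pow Nat.prime_two).mp (orderOf_dvd_of_pow_eq_one hi)
    have hc : Commute (π (H20.pPart 2 x)) (π (H20.qPart 2 x)) :=
      (H20.commute_pPart_qPart x).map π
    have h1 : ∃ a : ℕ, orderOf (π (H20.pPart 2 x)) = 2 ^ a := by
      obtain ⟨a, -, ha⟩ := (Nat.dvd_prime_pow Nat.prime_two).mp (hj ▸ orderOf_map_dvd π (H20.pPart 2 x))
      exact ⟨a, ha⟩
    have h2 : ¬ 2 ∣ orderOf (π (H20.qPart 2 x)) := fun hd =>
      H20.not_dvd_orderOf_qPart x (hd.trans (orderOf_map_dvd π _))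
    rw [(H20.isPPart_unique' hxy hc h1 h2).1]
    exact H20.pPart_eq_self ⟨k, hk⟩
  haveI : Group.IsSolvable N := by
    haveI := hM.nil
    exact Group.isSolvable_of_isSolvable_injective (f := Subgroup.inclusion hNM)
      (Subgroup.inclusion_injective hNM)
  haveI : Group.IsSolvable (G ⧸ N) := by
    refine ih (G ⧸ N) hcard φN (hcop.coprime_dvd_right (card_quotient_dvd_card N)) (M.map π)
      ⟨?_, ?_, ?_, hmapnil, ?_⟩
    · intro e
      exact hM.ne_top (by rw [← hcomap, e, comap_top])
    · rintro a _ ⟨x, hx, rfl⟩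
      exact ⟨φ a x, hM.inv a x hx, (hφN a x).symm⟩
    · intro H hle hne hinv
      have h1 : H.comap π = M := by
        refine hM.max _ (le_trans hcomap.ge (comap_mono hle)) (fun e => hne ?_) fun a x hx => ?_
        · rw [← map_comap_eq_self_of_surjective (QuotientGroup.mk'_surjective N) H, e]
          exact map_top_of_surjective π (QuotientGroup.mk'_surjective N)
        · show π (φ a x) ∈ H
          rw [← hφN]
          exact hinv a _ hx
      rw [← map_comap_eq_self_of_surjective (QuotientGroup.mk'_surjective N) H, h1]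
    · intro a ha b hb c hc ha2 hb2 hc2
      obtain ⟨a', ha', rfl, ha''⟩ := hlift a ha ha2
      obtain ⟨b', hb', rfl, hb''⟩ := hlift b hb hb2
      obtain ⟨c', hc', rfl, hc''⟩ := hlift c hc hc2
      simp only [← map_inv, ← map_mul]
      rw [hM.cls a' ha' b' hb' c' hc' ha'' hb'' hc'']
  exact Group.isSolvable_of_ker_le_range N.subtype π
    (by rw [hπ, QuotientGroup.ker_mk', range_subtype])

end H24.NilpInvMax
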