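import Cfsg.Agent.H24.Arith
import Cfsg.Prelude.Def_Local

/-!
Defect zero characters in groups with `q'`-centralizers of `p`-elements.
-/

set_option autoImplicit false
set_option linter.unusedSectionVars false
set_option linter.style.haveILetI false

open Cfsg

namespace H24

universe u

variable {G : Type u} [Group G] [Fintype G] {p q : ℕ} [Fact p.Prime] [Fact q.Prime]

/-- A normal subgroup of order divisible by `p` but not by `q` gives `q`-defect zero. -/
theorem defect_zero_of_normal (N : Subgroup G) [N.Normal] (hp : p ∣ Nat.card N)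
    (hq : ¬ q ∣ Nat.card N)
    (hC : ∀ g : G, g ≠ 1 → (∃ k : ℕ, orderOf g = p ^ k) →
      ¬ q ∣ Nat.card ↥(Subgroup.centralizer ({g} : Set G))) :
    ∃ χ : IrrCharacter G, (charDegree (χ : G → ℂ)).factorization q = (Nat.card G).factorization q := by
  classical
  obtain ⟨⟨u, huN⟩, hu⟩ := exists_prime_orderOf_dvd_card' p hp
  rw [Subgroup.orderOf_mk] at hu
  have hu1 : u ≠ 1 := fun h => by
    rw [h, orderOf_one] at hu
    exact (Fact.out : p.Prime).one_lt.ne hu
  obtain ⟨P⟩ := (inferInstance : Nonempty (Sylow q G))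
  obtain ⟨χ, hχ⟩ := exists_pow_dvd_degree (Fact.out : q.Prime) u (P : Subgroup G)
    (Sylow.card_eq_multiplicity P)
    (Nat.factorization_eq_zero_of_not_dvd (hC u hu1 ⟨1, by rw [hu, pow_one]⟩))
    (show ∀ z ∈ (P : Subgroup G), z ≠ 1 → classMult u u⁻¹ z = 0 by
      intro z hz hz1
      rw [classMult, Nat.card_eq_zero]
      refine Or.inl ⟨fun ⟨ab, h1, h2, h3⟩ => ?_⟩
      have hzN : z ∈ N := by
        obtain ⟨c, hc⟩ := isConj_iff.1 h1
        obtain ⟨e, he⟩ := isConj_iff.1 h2
        rw [← h3, ← hc, ← he]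
        exact mul_mem (Subgroup.Normal.conj_mem inferInstance u huN c)
          (Subgroup.Normal.conj_mem inferInstance _ (inv_mem huN) e)
      obtain ⟨k, hk⟩ := IsPGroup.iff_orderOf.1 P.isPGroup' ⟨z, hz⟩
      rw [Subgroup.orderOf_mk] at hk
      have h4 := Subgroup.orderOf_dvd_natCard _ hzN
      rw [hk] at h4
      rcases Nat.eq_zero_or_pos k with h0 | h0
      · rw [h0, pow_zero] at hk
        exact hz1 (orderOf_eq_one_iff.1 hk)
      · exact hq ((dvd_pow_self q h0.ne').trans h4))
  exact ⟨χ, factorization_eq_of_card_sylow_dvd χ (by simpa using hχ)⟩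

theorem defect_zero_of_psolvable
    (hC : ∀ g : G, g ≠ 1 → (∃ k : ℕ, orderOf g = p ^ k) →
      ¬ q ∣ Nat.card ↥(Subgroup.centralizer ({g} : Set G)))
    (hpG : p ∣ Nat.card G) (hqG : q ∣ Nat.card G) (hpq : p ≠ q) (hs : IsPSolvable p G) :
    (∃ χ : IrrCharacter G, (charDegree (χ : G → ℂ)).factorization p = (Nat.card G).factorization p) ∨
      ∃ χ : IrrCharacter G, (charDegree (χ : G → ℂ)).factorization q = (Nat.card G).factorization q := by
  classical
  obtain ⟨n, H, h0, hlast, hmono, hnormal, hfac⟩ := hs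
  have hex : ∃ i : Fin (n + 1), p ∣ Nat.card (H i) ∨ q ∣ Nat.card (H i) := by
    refine ⟨Fin.last n, Or.inl ?_⟩
    rw [hlast, Subgroup.card_top]
    exact hpG
  obtain ⟨i, hi, hmin⟩ := WellFounded.has_min (wellFounded_lt (α := Fin (n + 1))) {i | p ∣ Nat.card (H i) ∨ q ∣ Nat.card (H i)} hex
  rcases Fin.eq_zero_or_eq_succ i with rfl | ⟨j, rfl⟩
  · exfalso
    rw [Set.mem_setOf_eq, h0, Subgroup.card_bot] at hi
    rcases hi with h | h
    · exact (Fact.out : p.Prime).not_dvd_one h
    · exact (Fact.out : q.Prime).not_dvd_one h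
  · haveI := hnormal j.succ
    have hlow := hmin j.castSucc
    simp only [Set.mem_setOf_eq] at hlow hi
    have hlow' : ¬ p ∣ Nat.card (H j.castSucc) ∧ ¬ q ∣ Nat.card (H j.castSucc) :=
      ⟨fun h => hlow (Or.inl h) Fin.castSucc_lt_succ, fun h => hlow (Or.inr h) Fin.castSucc_lt_succ⟩
    have hle : H j.castSucc ≤ H j.succ := hmono (Fin.castSucc_le_succ j)
    have hmul : Nat.card (H j.castSucc) * (H j.castSucc).relIndex (H j.succ) = Nat.card (H j.succ) := by
      rw [← Subgroup.relIndex_bot_left, ← Subgroup.relIndex_bot_left,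
        Subgroup.relIndex_mul_relIndex _ _ _ bot_le hle]
    rcases hfac j with ⟨m, hm⟩ | hcop
    · -- a `p`-factor: `q` does not divide
      have hq : ¬ q ∣ Nat.card (H j.succ) := by
        rw [← hmul, hm]
        intro h
        rcases (Fact.out : q.Prime).dvd_mul.1 h with h | h
        · exact hlow'.2 h
        · exact hpq ((Nat.prime_dvd_prime_iff_eq Fact.out Fact.out).1
            ((Fact.out : q.Prime).dvd_of_dvd_pow h)).symm
      exact Or.inr (defect_zero_of_normal (H j.succ) (hi.resolve_right hq) hq hC)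
    · have hp : ¬ p ∣ Nat.card (H j.succ) := by
        rw [← hmul]
        intro h
        rcases (Fact.out : p.Prime).dvd_mul.1 h with h | h
        · exact hlow'.1 h
        · exact ((Fact.out : p.Prime).coprime_iff_not_dvd.1 hcop.symm) h
      exact Or.inl (defect_zero_of_normal (p := q) (q := p) (H j.succ) (hi.resolve_left hp) hp
        fun g hg hk => not_dvd_card_centralizer_of_not_dvd hC hg hk)

end H24
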