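import Cfsg.Agent.H24.CharBasic
import Cfsg.Agent.H20.FirstMain
import Cfsg.Agent.H20.SecondMainApps
import Cfsg.Agent.H20.BlockNormal
import Cfsg.Agent.H12.Transport
import Cfsg.Agent.H82.SylowIn
import Cfsg.Agent.H82.Basic

/-!
Kernels of blocks and normal `π'`-subgroups along the Brauer correspondence.
-/

set_option autoImplicit false
set_option linter.unusedSectionVars false
set_option linter.style.haveILetI false

open Cfsg H20

namespace H24

universe u

variable {p : ℕ} {G : Type u} [Group G] [Fintype G] {M : Ideal AlgInt} [M.IsPrime]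

open Classical in
/-- The sum of the elements of a subgroup. -/
noncomputable def indS (M : Ideal AlgInt) [M.IsPrime] (K : Subgroup G) :
    MonoidAlgebra (k M) G :=
  ofFun fun g => if g ∈ K then 1 else 0

open Classical in
theorem coeff_indS (K : Subgroup G) (g : G) :
    (indS M K).coeff g = if g ∈ K then 1 else 0 := coeff_ofFun _ _

theorem isInv_indS {P K : Subgroup G} (h : P ≤ Subgroup.normalizer (K : Set G)) :
    IsInv P (indS M K) := by
  classical
  intro g n hn
  rw [coeff_indS, coeff_indS]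
  exact if_congr (Subgroup.mem_normalizer_iff.1 (h hn) g).symm rfl rfl

theorem isCl_indS (K : Subgroup G) [K.Normal] : IsCl (indS M K) := fun g c =>
  isInv_indS (P := ⊤) (by simp [Subgroup.normalizer_eq_top]) g c trivial

theorem br_indS (P K : Subgroup G) :
    br P (indS M K) = indS M (K ⊓ Subgroup.centralizer (P : Set G)) := by
  classical
  ext g
  by_cases hg : g ∈ Subgroup.centralizer (P : Set G)
  · rw [coeff_br_of_mem _ hg, coeff_indS, coeff_indS]
    simp [hg]
  · rw [coeff_br_of_notMem _ hg, coeff_indS]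
    simp [hg]

theorem resAlg_indS (H K : Subgroup G) [Fintype H] :
    resAlg H (indS M K) = indS M (K.subgroupOf H) := by
  classical
  ext g
  rw [coeff_resAlg, coeff_indS, coeff_indS]
  simp [Subgroup.mem_subgroupOf]

/-- The central character of a normal `p'`-subgroup sum detects the kernel. -/
theorem lam_indS_ne_zero_iff (hM : IsPModular p M) (K : Subgroup G) [K.Normal]
    (hK : ¬ p ∣ Nat.card K) (χ : IrrCharacter G) :
    lam M χ (indS M K) ≠ 0 ↔ ∀ x ∈ K, (χ : G → ℂ) x = (χ : G → ℂ) 1 := by
  classical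
  haveI := k_charP hM
  let a : MonoidAlgebra (O M) G := ofFun fun g => if g ∈ K then 1 else 0
  have ha : IsCl a := fun g c => by
    simp only [a, coeff_ofFun]
    exact if_congr ⟨fun h => by
      simpa [mul_assoc] using Subgroup.Normal.conj_mem (inferInstance : K.Normal) _ h c⁻¹,
      fun h => Subgroup.Normal.conj_mem (inferInstance : K.Normal) _ h c⟩ rfl rfl
  have hrd : rd a = indS M K := by
    ext g
    rw [coeff_rd, coeff_indS]
    simp [a, apply_ite (red M)]
  have hom : omega (χ : G → ℂ) (emb a) = (∑ x : K, (χ : G → ℂ) x) / (χ : G → ℂ) 1 := by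
    rw [omega]
    congr 1
    rw [show (∑ x : K, (χ : G → ℂ) x) = ∑ g ∈ Finset.univ.filter (· ∈ K), (χ : G → ℂ) g from
      (Finset.sum_subtype (Finset.univ.filter (· ∈ K)) (fun g => by simp) fun g => (χ : G → ℂ) g).symm,
      Finset.sum_filter]
    refine Finset.sum_congr rfl fun g _ => ?_
    rw [coeff_emb]
    simp only [a, coeff_ofFun]
    split_ifs <;> simp
  rw [← hrd, lam_rd χ ha, hom]
  by_cases hker : ∀ x ∈ K, (χ : G → ℂ) x = (χ : G → ℂ) 1
  · refine iff_of_true ?_ hker
    rw [Finset.sum_congr rfl (fun (x : K) _ => hker x x.2), Finset.sum_const, Finset.card_univ,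
      nsmul_eq_mul, mul_div_assoc, div_self (H12.irr_apply_one_ne_zero χ), mul_one,
      ← Nat.card_eq_fintype_card, redC_natCast, Ne, CharP.cast_eq_zero_iff (k M) p]
    exact hK
  · refine iff_of_false (not_not.2 ?_) hker
    rw [sum_normal_eq_zero χ K (fun h => hker fun x hx => mem_kerChar.1 (h hx)), zero_div,
      redC_zero]

/-- Every member of `b` is trivial on the elements of `H` lying in `L`. -/
def Kills (H : Subgroup G) (b : Set (IrrCharacter H)) (L : Subgroup G) : Prop :=
  ∀ χ ∈ b, ∀ x : H, (x : G) ∈ L → (χ : H → ℂ) x = (χ : H → ℂ) 1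

theorem Kills.mono {H : Subgroup G} {b : Set (IrrCharacter H)} {L L' : Subgroup G}
    (h : Kills H b L) (hle : L' ≤ L) : Kills H b L' := fun χ hχ x hx => h χ hχ x (hle hx)

theorem not_dvd_card_subgroupOf {H L : Subgroup G} (h : ¬ p ∣ Nat.card L) :
    ¬ p ∣ Nat.card (L.subgroupOf H) := fun hd => h (hd.trans (by
  rw [← Subgroup.inf_subgroupOf_right L H,
    Nat.card_congr (Subgroup.subgroupOfEquivOfLe (inf_le_right : L ⊓ H ≤ H)).toEquiv]
  exact Subgroup.card_dvd_of_le inf_le_left))

theorem normal_subgroupOf' {H L : Subgroup G} (h : H ≤ Subgroup.normalizer (L : Set G)) :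
    (L.subgroupOf H).Normal :=
  ⟨fun n hn g => by
    rw [Subgroup.mem_subgroupOf] at hn ⊢
    exact (Subgroup.mem_normalizer_iff.1 (h g.2) n).1 hn⟩

theorem kills_iff (hM : IsPModular p M) {H L : Subgroup G} [Fintype H]
    {b : Set (IrrCharacter H)} (hb : IsPBlock M b) {ξ : IrrCharacter H} (hξ : ξ ∈ b)
    (hn : H ≤ Subgroup.normalizer (L : Set G)) (hL : ¬ p ∣ Nat.card L) :
    Kills H b L ↔ lam M ξ (resAlg H (indS M L)) ≠ 0 := by
  haveI := normal_subgroupOf' hn
  rw [resAlg_indS, lam_indS_ne_zero_iff hM _ (not_dvd_card_subgroupOf hL)]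
  exact ⟨fun h x hx => h ξ hξ x hx, fun h χ hχ x hx =>
    kernel_of_sameBlock hM (L.subgroupOf H) (not_dvd_card_subgroupOf hL)
      (sameBlock_of_mem hb hξ hχ) h x hx⟩

theorem centralizer_le_normalizer' (P : Subgroup G) :
    Subgroup.centralizer (P : Set G) ≤ Subgroup.normalizer (P : Set G) := fun w hw =>
  Subgroup.mem_normalizer_iff.2 fun u => ⟨fun hu => by
    rw [← hw u hu, mul_inv_cancel_right]; exact hu, fun hu => by
      have h2 := hw _ hu
      rw [inv_mul_cancel_right] at h2
      rwa [mul_left_cancel h2]⟩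

/-- A multiplicative functional on the invariant elements supported on `C(P)` is given by a block
of `N(P)` inducing the block it belongs to. -/
theorem exists_push (hM : IsPModular p M) {P : Subgroup G} (hP : IsPGroup p P)
    [Fintype (Subgroup.normalizer (P : Set G))] {B : Set (IrrCharacter G)} (hB : IsPBlock M B)
    (Φ : MonoidAlgebra (k M) G → k M) (h1 : Φ 1 = 1) (h0 : Φ 0 = 0)
    (hmul : ∀ a b, (∀ g, g ∉ Subgroup.centralizer (P : Set G) → a.coeff g = 0) →
      (∀ g, g ∉ Subgroup.centralizer (P : Set G) → b.coeff g = 0) →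
      IsInv (Subgroup.normalizer (P : Set G)) a → IsInv (Subgroup.normalizer (P : Set G)) b →
      Φ (a * b) = Φ a * Φ b)
    (hlin : ∀ a c, Φ (a - c • 1) = Φ a - c)
    (hΦ : ∀ χ ∈ B, ∀ a, IsCl a → Φ (br P a) = lam M χ a) :
    ∃ ζ : IrrCharacter (Subgroup.normalizer (P : Set G)),
      IsInducedBlock M (Subgroup.normalizer (P : Set G))
          (blockOf M (ζ : Subgroup.normalizer (P : Set G) → ℂ)) B ∧
        ∀ x, (∀ g, g ∉ Subgroup.centralizer (P : Set G) → x.coeff g = 0) →
          IsInv (Subgroup.normalizer (P : Set G)) x →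
          Φ x = lam M ζ (resAlg (Subgroup.normalizer (P : Set G)) x) := by
  haveI := k_charP hM
  haveI : Fact p.Prime := ⟨hM.1⟩
  set N := Subgroup.normalizer (P : Set G) with hN
  have hPN : P ≤ N := Subgroup.le_normalizer
  have hsupp : ∀ a : MonoidAlgebra (k M) G, ∀ g, g ∉ Subgroup.centralizer (P : Set G) →
      (br P a).coeff g = 0 := fun a g hg => coeff_br_of_notMem a hg
  have hinv : ∀ z : MonoidAlgebra (k M) N, IsCl z → IsInv N (extAlg N z) := by
    intro z hz g n hn
    by_cases hg : g ∈ N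
    · have h := coeff_extAlg_coe N z (⟨n, hn⟩ * ⟨g, hg⟩ * ⟨n, hn⟩⁻¹)
      have h' := coeff_extAlg_coe N z ⟨g, hg⟩
      rw [hz] at h
      simpa only [Subgroup.coe_mul, Subgroup.coe_inv] using h.trans h'.symm
    · rw [coeff_extAlg_of_notMem N z hg, coeff_extAlg_of_notMem N z fun h => hg ?_]
      have := N.mul_mem (N.mul_mem (N.inv_mem hn) h) hn
      simpa [mul_assoc] using this
  obtain ⟨ζ, hζ⟩ := exists_lam_eq (fun z : MonoidAlgebra (k M) N => Φ (br P (extAlg N z)))
    (by simp [br_one, h1]) (by simp [br_zero, h0])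
    (fun a b ha hb => by
      simp only [map_mul]
      rw [br_mul hP (fun g n hn => hinv a ha g n (hPN hn))
        (fun g n hn => hinv b hb g n (hPN hn))]
      exact hmul _ _ (hsupp _) (hsupp _) (br_isInv le_rfl (hinv a ha))
        (br_isInv le_rfl (hinv b hb)))
    (fun a c _ => by
      simp only [map_sub]
      rw [br_sub]
      have : extAlg N (c • (1 : MonoidAlgebra (k M) N)) = c • (1 : MonoidAlgebra (k M) G) := by
        rw [show c • (1 : MonoidAlgebra (k M) N) = MonoidAlgebra.single 1 c by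
          simp [MonoidAlgebra.one_def], show c • (1 : MonoidAlgebra (k M) G) =
            MonoidAlgebra.single 1 c by simp [MonoidAlgebra.one_def]]
        simp [extAlg]
      rw [this, br_smul, br_one, hlin])
  have hkey : ∀ x, (∀ g, g ∉ Subgroup.centralizer (P : Set G) → x.coeff g = 0) →
      IsInv N x → Φ x = lam M ζ (resAlg N x) := by
    intro x hx hxi
    rw [← hζ _ (fun g c => by
      simpa only [coeff_resAlg, Subgroup.coe_mul, Subgroup.coe_inv] using hxi g c c.2)]
    congr 1
    ext g
    by_cases hg : g ∈ Subgroup.centralizer (P : Set G)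
    · rw [coeff_br_of_mem _ hg]
      have h := coeff_extAlg_coe N (resAlg N x) ⟨g, centralizer_le_normalizer' P hg⟩
      simpa [coeff_resAlg] using h.symm
    · rw [coeff_br_of_notMem _ hg, hx g hg]
  obtain ⟨B', hB'⟩ := exists_induced_block hM hP hPN (centralizer_le_normalizer' P) le_rfl
    (isPBlock_blockOf (M := M) ζ)
  obtain ⟨χ, hχ⟩ := block_nonempty hB'.2.1
  obtain ⟨χ₀, hχ₀⟩ := block_nonempty hB
  have heq : B' = B := by
    refine block_eq_of_mem hB'.2.1 hB hχ ?_
    rw [block_eq_blockOf hB hχ₀]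
    refine (sameBlock_iff χ₀ χ).2 fun g => ?_
    rw [← hΦ χ₀ hχ₀ _ (isCl_clSum _ g), hkey _ (hsupp _)
      (br_isInv le_rfl ((isCl_clSum _ g).isInv N)),
      lam_res_br_eq hM hP hB' (mem_blockOf_self ζ) hχ (isCl_clSum _ g)]
  exact ⟨ζ, heq ▸ hB', hkey⟩

/-- Pushing a block of `H`, `C(P) ≤ H ≤ N(P)`, to `N(P)` preserves kernels. -/
theorem exists_push_block (hM : IsPModular p M) {P H : Subgroup G} (hP : IsPGroup p P)
    (hPH : P ≤ H) (hCH : Subgroup.centralizer (P : Set G) ≤ H)
    (hHN : H ≤ Subgroup.normalizer (P : Set G)) [Fintype H]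
    [Fintype (Subgroup.normalizer (P : Set G))]
    {b : Set (IrrCharacter H)} {B : Set (IrrCharacter G)} (hind : IsInducedBlock M H b B) :
    ∃ f : Set (IrrCharacter (Subgroup.normalizer (P : Set G))),
      IsInducedBlock M (Subgroup.normalizer (P : Set G)) f B ∧
        ∀ L : Subgroup G, L ≤ Subgroup.centralizer (P : Set G) →
          Subgroup.normalizer (P : Set G) ≤ Subgroup.normalizer (L : Set G) →
          ¬ p ∣ Nat.card L → (Kills (Subgroup.normalizer (P : Set G)) f L ↔ Kills H b L) := by
  classical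
  obtain ⟨hb, hB, hlam⟩ := (inducedBlock_iff H).1 hind
  obtain ⟨ξ, hξ⟩ := block_nonempty hb
  obtain ⟨ζ, hζ, hkey⟩ := exists_push hM hP hB (fun a => lam M ξ (resAlg H a))
    (by simp [resAlg_one, lam_one]) (by simp [resAlg_zero, lam_zero])
    (fun a a' ha _ hai hai' => by
      rw [resAlg_mul H (fun g hg => ha g fun h => hg (hCH h)), lam_mul ξ
        (fun g c => by
          simpa only [coeff_resAlg, Subgroup.coe_mul, Subgroup.coe_inv] using hai g c (hHN c.2))
        (fun g c => by
          simpa only [coeff_resAlg, Subgroup.coe_mul, Subgroup.coe_inv] using hai' g c (hHN c.2))])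
    (fun a c => by simp [resAlg_sub, resAlg_smul, resAlg_one, lam_sub, lam_smul, lam_one])
    (fun χ hχ a ha => by
      rw [lam_res_br hM hP hPH hHN ξ ha]
      exact hlam ξ hξ χ hχ a ha)
  refine ⟨_, hζ, fun L hL hn hLp => ?_⟩
  rw [kills_iff hM hζ.1 (mem_blockOf_self ζ) hn hLp, kills_iff hM hb hξ (hHN.trans hn) hLp,
    ← hkey _ (fun g hg => by rw [coeff_indS, if_neg fun h => hg (hL h)]) (isInv_indS hn)]

/-- The step from a block `e` to the normaliser of its defect group. -/
theorem exists_step (hM : IsPModular p M) {B : Set (IrrCharacter G)} {N : Subgroup G} [Fintype N]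
    {e : Set (IrrCharacter N)} (hind : IsInducedBlock M N e B) {R : Subgroup N}
    (hR : Cfsg.IsDefectGroup p M e R)
    (hC : Subgroup.centralizer ((R.map N.subtype : Subgroup G) : Set G) ≤ N)
    [Fintype (Subgroup.normalizer ((R.map N.subtype : Subgroup G) : Set G))] :
    ∃ f : Set (IrrCharacter (Subgroup.normalizer ((R.map N.subtype : Subgroup G) : Set G))),
      IsInducedBlock M (Subgroup.normalizer ((R.map N.subtype : Subgroup G) : Set G)) f B ∧
        ∀ K L : Subgroup G, N ≤ Subgroup.normalizer (K : Set G) → ¬ p ∣ Nat.card K →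
          L ≤ Subgroup.centralizer ((R.map N.subtype : Subgroup G) : Set G) →
          Subgroup.normalizer ((R.map N.subtype : Subgroup G) : Set G) ≤
            Subgroup.normalizer (L : Set G) → ¬ p ∣ Nat.card L →
          (K ⊓ Subgroup.centralizer ((R.map N.subtype : Subgroup G) : Set G) ≤ L →
            Kills _ f L → Kills N e K) ∧
          (K ⊓ Subgroup.centralizer ((R.map N.subtype : Subgroup G) : Set G) = L →
            Kills N e K → Kills _ f L) := by
  classical
  haveI := k_charP hM
  haveI : Fact p.Prime := ⟨hM.1⟩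
  obtain ⟨he, hB, hlam⟩ := (inducedBlock_iff N).1 hind
  obtain ⟨ξ, hξ⟩ := block_nonempty he
  have hRp : IsPGroup p R := H20.IsDefectGroup.isPGroup hR
  set P : Subgroup G := R.map N.subtype with hPdef
  have hP : IsPGroup p P := hRp.map _
  have hPN : P ≤ N := Subgroup.map_subtype_le _
  have hPR : P.subgroupOf N = R := Subgroup.comap_map_eq_self_of_injective N.subtype_injective _
  set K' := Subgroup.normalizer (R : Set N) with hK'
  haveI : Fintype K' := Fintype.ofFinite _
  obtain ⟨e'', he'', -, hind''⟩ := first_main_exists hM hRp he hR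
  obtain ⟨-, -, hlam''⟩ := (inducedBlock_iff _).1 hind''
  obtain ⟨η, hη⟩ := block_nonempty he''
  have hK'G : ∀ n : N, n ∈ K' → (n : G) ∈ Subgroup.normalizer (P : Set G) := fun n hn =>
    Subgroup.le_normalizer_map (H := R) N.subtype (Subgroup.mem_map_of_mem _ hn)
  have hCK' : ∀ n : N, (n : G) ∈ Subgroup.centralizer (P : Set G) → n ∈ K' := fun n hn =>
    centralizer_le_normalizer' R fun u hu =>
      Subtype.ext (hn (u : G) (Subgroup.mem_map_of_mem _ hu))
  have hcl : ∀ x : MonoidAlgebra (k M) G, IsInv (Subgroup.normalizer (P : Set G)) x →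
      IsCl (resAlg K' (resAlg N x)) := fun x hx g c => by
    simpa only [coeff_resAlg, Subgroup.coe_mul, Subgroup.coe_inv]
      using hx ((g : N) : G) ((c : N) : G) (hK'G _ c.2)
  have hkey : ∀ a : MonoidAlgebra (k M) G, IsCl (resAlg N a) →
      lam M η (resAlg K' (resAlg N (br P a))) = lam M ξ (resAlg N a) := by
    intro a ha
    rw [← br_subgroupOf_resAlg hPN a, hPR, lam_res_br hM hRp Subgroup.le_normalizer le_rfl η ha]
    exact hlam'' η hη ξ hξ _ ha
  obtain ⟨ζ, hζ, hpush⟩ := exists_push hM hP hB (fun a => lam M η (resAlg K' (resAlg N a)))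
    (by simp [resAlg_one, lam_one]) (by simp [resAlg_zero, lam_zero])
    (fun a a' ha _ hai hai' => by
      rw [resAlg_mul N (fun g hg => ha g fun h => hg (hC h)),
        resAlg_mul K' (fun n hn => by rw [coeff_resAlg]; exact ha _ fun h => hn (hCK' n h)),
        lam_mul η (hcl _ hai) (hcl _ hai')])
    (fun a c => by simp [resAlg_sub, resAlg_smul, resAlg_one, lam_sub, lam_smul, lam_one])
    (fun χ hχ a ha => by
      rw [hkey a (ha.res N)]
      exact hlam ξ hξ χ hχ a ha)
  refine ⟨_, hζ, fun K L hKn hKp hLC hLn hLp => ?_⟩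
  set C := Subgroup.centralizer (P : Set G) with hCdef
  have hclK : IsCl (resAlg N (indS M K)) := fun g c => by
    simpa only [coeff_resAlg, Subgroup.coe_mul, Subgroup.coe_inv]
      using isInv_indS hKn (g : G) (c : G) c.2
  have h2 := hkey _ hclK
  rw [br_indS] at h2
  have h3 := hpush (indS M L) (fun g hg => by rw [coeff_indS, if_neg fun h => hg (hLC h)])
    (isInv_indS hLn)
  have hnorm : ∀ X : Subgroup G, (∀ n : N, n ∈ K' → (n : G) ∈ Subgroup.normalizer (X : Set G)) →
      ¬ p ∣ Nat.card X → (lam M η (resAlg K' (resAlg N (indS M X))) ≠ 0 ↔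
        ∀ x : K', ((x : N) : G) ∈ X → (η : K' → ℂ) x = (η : K' → ℂ) 1) := by
    intro X hX hXp
    haveI : ((X.subgroupOf N).subgroupOf K').Normal := normal_subgroupOf' fun n hn =>
      Subgroup.mem_normalizer_iff.2 fun u => by
        simpa [Subgroup.mem_subgroupOf] using Subgroup.mem_normalizer_iff.1 (hX n hn) (u : G)
    rw [resAlg_indS, resAlg_indS,
      lam_indS_ne_zero_iff hM _ (not_dvd_card_subgroupOf (not_dvd_card_subgroupOf hXp))]
    rfl
  have hnL := hnorm L (fun n hn => hLn (hK'G n hn)) hLp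
  have hnK := hnorm (K ⊓ C) (fun n hn => Subgroup.mem_normalizer_iff.2 fun u => by
    have h' : (n : G) ∈ Subgroup.normalizer (C : Set G) := by
      have := hK'G n hn
      rw [Subgroup.mem_normalizer_iff]
      intro w
      constructor
      · intro hw v hv
        have hv' := hw _ ((Subgroup.mem_normalizer_iff''.1 this v).1 hv)
        calc v * ((n : G) * w * (n : G)⁻¹)
            = (n : G) * (((n : G)⁻¹ * v * n) * w) * (n : G)⁻¹ := by group
          _ = (n : G) * w * (n : G)⁻¹ * v := by rw [hv']; group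
      · intro hw v hv
        have hv' := hw _ ((Subgroup.mem_normalizer_iff.1 this v).1 hv)
        calc v * w = (n : G)⁻¹ * (((n : G) * v * (n : G)⁻¹) * ((n : G) * w * (n : G)⁻¹)) * n := by
              group
          _ = w * v := by rw [hv']; group
    rw [Subgroup.mem_inf, Subgroup.mem_inf]
    exact and_congr (Subgroup.mem_normalizer_iff.1 (hKn n.2) u)
      (Subgroup.mem_normalizer_iff.1 h' u))
    (fun hd => hKp (hd.trans (Subgroup.card_dvd_of_le inf_le_left)))
  have hKiff := kills_iff hM he hξ hKn hKp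
  have hLiff := kills_iff hM hζ.1 (mem_blockOf_self ζ) hLn hLp
  refine ⟨fun hle hf => ?_, fun heq hk => ?_⟩
  · rw [hKiff, ← h2]
    refine hnK.2 fun x hx => hnL.1 ?_ x (hle hx)
    rw [h3]
    exact hLiff.1 hf
  · rw [hLiff, ← h3, ← heq, h2]
    exact hKiff.1 hk

end H24
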