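import Cfsg.Agent.H24.PiKernel
import Cfsg.Agent.H82.Tools

/-!
The induction along defect groups for kernels of blocks and normal `π'`-subgroups.
-/

set_option autoImplicit false
set_option linter.unusedSectionVars false
set_option linter.style.haveILetI false

open Cfsg H20

namespace H24

universe u

variable {p : ℕ} {G : Type u} [Group G] [Fintype G] {M : Ideal AlgInt} [M.IsPrime] {π : Set ℕ}

theorem conjSub_le_normalizer {X L : Subgroup G} (h : X ≤ Subgroup.normalizer (L : Set G))
    (x : G) : conjSub x X ≤ Subgroup.normalizer (conjSub x L : Set G) := by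
  rw [conjSub, conjSub, H82.normalizer_map_conj]
  exact Subgroup.map_mono h

theorem isPiSub_conjSub {σ : Set ℕ} {L : Subgroup G} (h : H82.IsPiSub σ L) (x : G) :
    H82.IsPiSub σ (conjSub x L) := fun q hq hd => h q hq (by rwa [card_conjSub] at hd)

/-- `O_σ(X)` is normalised by the normaliser of `X`. -/
theorem normalizer_le_normalizer_piCoreOf (σ : Set ℕ) (X : Subgroup G) :
    Subgroup.normalizer (X : Set G) ≤ Subgroup.normalizer (piCoreOf σ X : Set G) := by
  intro n hn
  have hX : conjSub n X = X := (H82.mem_normalizer_iff_map.1 hn)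
  refine H82.mem_normalizer_of_map_le ?_
  refine H82.le_piCoreOf ((conjSub_mono n (H82.piCoreOf_le σ X)).trans_eq hX) ?_
    (isPiSub_conjSub (H82.piCoreOf_isPiSub σ X) n)
  have := conjSub_le_normalizer (H82.le_normalizer_piCoreOf σ X) n
  rwa [hX] at this

theorem not_dvd_piCoreOf (hM : IsPModular p M) (hpπ : p ∈ π) (X : Subgroup G) :
    ¬ p ∣ Nat.card (piCoreOf {q | q ∉ π} X) :=
  fun hd => H82.piCoreOf_isPiSub {q | q ∉ π} X p hM.1 hd hpπ

theorem piElement_of_mem_piCoreOf {X : Subgroup G} {x : G} (hx : x ∈ piCoreOf {q | q ∉ π} X)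
    {q : ℕ} (hq : q.Prime) (hd : q ∣ orderOf x) : q ∉ π := by
  refine H82.piCoreOf_isPiSub {q | q ∉ π} X q hq (hd.trans ?_)
  rw [← Nat.card_zpowers]
  exact Subgroup.card_dvd_of_le (Subgroup.zpowers_le.2 hx)

/-- The condition on the kernel, read inside `G`. -/
theorem mem_piCoreOf_iff {X : Subgroup G} (x : X) :
    (x : G) ∈ piCoreOf {q | q ∉ π} X ↔ x ∈ piCore {q | q ∉ π} X := by
  refine ⟨fun h => ?_, fun h => Subgroup.mem_map_of_mem _ h⟩
  obtain ⟨y, hy, hxy⟩ := Subgroup.mem_map.1 h
  rwa [← X.subtype_injective hxy]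

/-- Induction of blocks is invariant under conjugation. -/
theorem exists_induced_conj {H H' : Subgroup G} [Fintype H] [Fintype H'] (x : G)
    (hx : ∀ g, g ∈ H' ↔ x * g * x⁻¹ ∈ H) {b : Set (IrrCharacter H)} {B : Set (IrrCharacter G)}
    (hind : IsInducedBlock M H b B) {ξ : IrrCharacter H} (hξ : ξ ∈ b) :
    ∃ ξ' : IrrCharacter H', IsInducedBlock M H' (blockOf M (ξ' : H' → ℂ)) B ∧
      ∀ (a : H') (c : H), (c : G) = x * a * x⁻¹ → (ξ' : H' → ℂ) a = (ξ : H → ℂ) c := by
  classical
  let φ : H' ≃* H :=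
    { toFun := fun a => ⟨x * a * x⁻¹, (hx a).1 a.2⟩
      invFun := fun c => ⟨x⁻¹ * c * x, (hx _).2 (by
        have : x * (x⁻¹ * (c : G) * x) * x⁻¹ = c := by group
        rw [this]; exact c.2)⟩
      left_inv := fun a => Subtype.ext (by simp [mul_assoc])
      right_inv := fun c => Subtype.ext (by simp [mul_assoc])
      map_mul' := fun a a' => Subtype.ext (by simp) }
  refine ⟨H12.irrCongr φ ξ, ?_, fun a c hc => ?_⟩
  · obtain ⟨-, hB, hlam⟩ := hind
    refine (inducedBlock_iff H').2 ⟨isPBlock_blockOf _, hB, fun η hη χ hχ a ha => ?_⟩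
    rw [lam_single_block_eq (isPBlock_blockOf _) (mem_blockOf_self (M := M) (H12.irrCongr φ ξ)) η hη]
    refine lam_res_ext H' _ χ (fun g => ?_) ha
    obtain ⟨h1, h2⟩ := redC_inducedCentralChar (M := M) H' (H12.irrCongr φ ξ) g
    have heq : inducedCentralChar H' (H12.irrCongr φ ξ : H' → ℂ) g
        = inducedCentralChar H (ξ : H → ℂ) g := by
      rw [inducedCentralChar, inducedCentralChar, finsum_mem_def, finsum_mem_def]
      refine finsum_eq_of_bijective φ φ.bijective fun h => ?_
      have hiff : IsConj g (h : G) ↔ IsConj g ((φ h : H) : G) :=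
        ⟨fun hh => hh.trans (isConj_iff.2 ⟨x, rfl⟩),
          fun hh => hh.trans (isConj_iff.2 ⟨x, rfl⟩ : IsConj (h : G) ((φ h : H) : G)).symm⟩
      simp only [Set.indicator_apply, Set.mem_setOf_eq, ← hiff, H12.irrCongr_apply, map_one]
    rw [← h2, lam_clSum, redC_eq_iff h1 (memRing_centralChar χ g), heq]
    exact hlam ξ hξ χ hχ g
  · rw [H12.irrCongr_apply, show φ a = c from Subtype.ext hc.symm]

/-- The Brauer correspondent seen from a conjugate of the defect group. -/
theorem brauer_conj (hM : IsPModular p M) {B : Set (IrrCharacter G)} {D : Subgroup G}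
    (hBD : Cfsg.IsDefectGroup p M B D) [Fintype (Subgroup.normalizer (D : Set G))]
    {B₁ : Set (IrrCharacter (Subgroup.normalizer (D : Set G)))}
    (hB₁ : IsInducedBlock M (Subgroup.normalizer (D : Set G)) B₁ B)
    (hB₁D : Cfsg.IsDefectGroup p M B₁ (D.subgroupOf (Subgroup.normalizer (D : Set G))))
    {Q : Subgroup G} (hQ : IsPGroup p Q) [Fintype (Subgroup.normalizer (Q : Set G))]
    {e : Set (IrrCharacter (Subgroup.normalizer (Q : Set G)))}
    (hind : IsInducedBlock M (Subgroup.normalizer (Q : Set G)) e B)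
    (heQ : Cfsg.IsDefectGroup p M e (Q.subgroupOf (Subgroup.normalizer (Q : Set G)))) :
    ∃ x : G, conjSub x D = Q ∧ ∀ ξ ∈ e, ∃ ξ' ∈ B₁, ∀ (a : Subgroup.normalizer (D : Set G))
      (c : Subgroup.normalizer (Q : Set G)), (c : G) = x * a * x⁻¹ →
        (ξ' : Subgroup.normalizer (D : Set G) → ℂ) a =
          (ξ : Subgroup.normalizer (Q : Set G) → ℂ) c := by
  obtain ⟨B', hB', hB'Q, hind'⟩ := first_main_left hM hQ hind.1 heQ
  have hBB : B' = B := inducedBlock_unique _ hind' hind
  subst hBB
  obtain ⟨x, hx⟩ := defectGroup_conj hM hB' hBD hB'Q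
  refine ⟨x, hx, fun ξ hξ => ?_⟩
  have hN : ∀ g, g ∈ Subgroup.normalizer (D : Set G) ↔
      x * g * x⁻¹ ∈ Subgroup.normalizer (Q : Set G) := fun g => by
    rw [← hx, conjSub, H82.normalizer_map_conj, H82.mem_map_conj_iff]
    rw [show x⁻¹ * (x * g * x⁻¹) * x = g by group]
  obtain ⟨ξ', hξ', hval⟩ := exists_induced_conj x hN hind hξ
  have hDp : IsPGroup p D := H20.IsDefectGroup.isPGroup hBD
  have := first_main_unique hM hDp hB₁D hB₁ hξ'
  exact ⟨ξ', this ▸ mem_blockOf_self ξ', hval⟩

theorem card_lt_of_le_ne {Q R : Subgroup G} (h : Q ≤ R) (hne : R ≠ Q) :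
    Nat.card G - Nat.card R < Nat.card G - Nat.card Q := by
  have h1 : Nat.card Q ≤ Nat.card R := Subgroup.card_le_of_le h
  have h2 : Nat.card Q ≠ Nat.card R := fun he => hne (Subgroup.eq_of_le_of_card_ge h he.ge).symm
  have h3 : Nat.card R ≤ Nat.card G := Subgroup.card_le_card_group R
  omega

/-- A defect group of a block of `N(Q)` contains `Q`. -/
theorem le_defect (hM : IsPModular p M) {Q : Subgroup G} (hQ : IsPGroup p Q)
    [Fintype (Subgroup.normalizer (Q : Set G))]
    {e : Set (IrrCharacter (Subgroup.normalizer (Q : Set G)))} (he : IsPBlock M e)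
    {R : Subgroup (Subgroup.normalizer (Q : Set G))} (hR : Cfsg.IsDefectGroup p M e R) :
    Q ≤ R.map (Subgroup.normalizer (Q : Set G)).subtype := by
  haveI : (Q.subgroupOf (Subgroup.normalizer (Q : Set G))).Normal :=
    (Subgroup.normal_subgroupOf_iff_le_normalizer Subgroup.le_normalizer).2 le_rfl
  have := Subgroup.map_mono (f := (Subgroup.normalizer (Q : Set G)).subtype)
    (normal_le_defectGroup (Q := Q.subgroupOf (Subgroup.normalizer (Q : Set G))) hM he
      hQ.comap_subtype hR)
  rwa [Subgroup.map_subgroupOf_eq_of_le Subgroup.le_normalizer] at this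

/-- If the Brauer correspondent kills `O_π'(N(D))`, every block of a local normaliser inducing `B`
kills the `π'`-core of the centraliser. -/
theorem kills_local (hM : IsPModular p M) (hpπ : p ∈ π) {B : Set (IrrCharacter G)}
    {D : Subgroup G} (hBD : Cfsg.IsDefectGroup p M B D)
    [Fintype (Subgroup.normalizer (D : Set G))]
    {B₁ : Set (IrrCharacter (Subgroup.normalizer (D : Set G)))}
    (hB₁ : IsInducedBlock M (Subgroup.normalizer (D : Set G)) B₁ B)
    (hB₁D : Cfsg.IsDefectGroup p M B₁ (D.subgroupOf (Subgroup.normalizer (D : Set G))))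
    (hker : ∀ n : Subgroup.normalizer (D : Set G),
      n ∈ piCore {q | q ∉ π} (Subgroup.normalizer (D : Set G)) → n ∈ blockKer B₁)
    (Q : Subgroup G) (hQ : IsPGroup p Q) [Fintype (Subgroup.normalizer (Q : Set G))]
    {e : Set (IrrCharacter (Subgroup.normalizer (Q : Set G)))}
    (hind : IsInducedBlock M (Subgroup.normalizer (Q : Set G)) e B) :
    Kills (Subgroup.normalizer (Q : Set G)) e
      (piCoreOf {q | q ∉ π} (Subgroup.centralizer (Q : Set G))) := by
  classical
  induction hn : Nat.card G - Nat.card Q using Nat.strong_induction_on generalizing Q with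
  | _ n ih => ?_
  subst hn
  haveI : Fact p.Prime := ⟨hM.1⟩
  obtain ⟨R, hR⟩ := exists_defectGroup hM hind.1
  have hQR := le_defect hM hQ hind.1 hR
  set C := Subgroup.centralizer (Q : Set G) with hC
  set K := piCoreOf {q | q ∉ π} C with hK
  have hNK : Subgroup.normalizer (Q : Set G) ≤ Subgroup.normalizer (K : Set G) :=
    (H82.le_normalizer_centralizer le_rfl).trans (normalizer_le_normalizer_piCoreOf _ C)
  by_cases hcase : R.map (Subgroup.normalizer (Q : Set G)).subtype = Q
  · have hRQ : Q.subgroupOf (Subgroup.normalizer (Q : Set G)) = R := by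
      simp only [← hcase]
      exact Subgroup.comap_map_eq_self_of_injective
        (Subgroup.normalizer (Q : Set G)).subtype_injective R
    obtain ⟨x, hx, hval⟩ := brauer_conj hM hBD hB₁ hB₁D hQ hind (hRQ ▸ hR)
    have hKN : K ≤ Subgroup.normalizer (Q : Set G) :=
      (H82.piCoreOf_le _ _).trans (centralizer_le_normalizer' Q)
    have hND : Subgroup.normalizer (D : Set G) = conjSub x⁻¹ (Subgroup.normalizer (Q : Set G)) := by
      rw [← hx]
      simp only [conjSub]
      rw [H82.normalizer_map_conj, H82.map_conj_inv_cancel]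
    have hK'le : conjSub x⁻¹ K ≤ piCoreOf {q | q ∉ π} (Subgroup.normalizer (D : Set G)) := by
      refine H82.le_piCoreOf (hND ▸ conjSub_mono _ hKN) ?_
        (isPiSub_conjSub (H82.piCoreOf_isPiSub _ C) _)
      rw [hND]
      exact conjSub_le_normalizer hNK _
    intro ξ hξ c hc
    obtain ⟨ξ', hξ', hv⟩ := hval ξ hξ
    have hmem : x⁻¹ * (c : G) * x ∈ piCoreOf {q | q ∉ π} (Subgroup.normalizer (D : Set G)) :=
      hK'le (mem_conjSub_iff.2 (by simpa [mul_assoc] using hc))
    let a : Subgroup.normalizer (D : Set G) := ⟨_, H82.piCoreOf_le _ _ hmem⟩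
    rw [← hv a c (by show (c : G) = x * (x⁻¹ * c * x) * x⁻¹; group),
      hker a ((mem_piCoreOf_iff a).1 hmem) ξ' hξ', ← hv 1 1 (by simp)]
  · set P := R.map (Subgroup.normalizer (Q : Set G)).subtype with hP
    have hPp : IsPGroup p P := (H20.IsDefectGroup.isPGroup hR).map _
    have hCPQ : Subgroup.centralizer (P : Set G) ≤ C := Subgroup.centralizer_le hQR
    have hCP : Subgroup.centralizer (P : Set G) ≤ Subgroup.normalizer (Q : Set G) :=
      hCPQ.trans (centralizer_le_normalizer' Q)
    haveI : Fintype (Subgroup.normalizer (P : Set G)) := Fintype.ofFinite _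
    obtain ⟨f, hf, hstep⟩ := exists_step hM hind hR hCP
    have hIH := ih _ (card_lt_of_le_ne hQR hcase) P hPp hf rfl
    refine (hstep K _ hNK (not_dvd_piCoreOf hM hpπ _) (H82.piCoreOf_le _ _)
      ((H82.le_normalizer_centralizer le_rfl).trans (normalizer_le_normalizer_piCoreOf _ _))
      (not_dvd_piCoreOf hM hpπ _)).1 ?_ hIH
    refine H82.le_piCoreOf inf_le_right (H82.le_normalizer_inf ?_ (H82.le_normalizer_of_le le_rfl))
      ((H82.piCoreOf_isPiSub _ C).mono inf_le_left)
    exact hCP.trans hNK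

/-- The converse climb: a kernel and a normal Hall `π'`-subgroup reach the Brauer correspondent. -/
theorem kills_climb (hM : IsPModular p M) (hpπ : p ∈ π) {B : Set (IrrCharacter G)}
    {D : Subgroup G} (hBD : Cfsg.IsDefectGroup p M B D)
    [Fintype (Subgroup.normalizer (D : Set G))]
    {B₁ : Set (IrrCharacter (Subgroup.normalizer (D : Set G)))}
    (hB₁ : IsInducedBlock M (Subgroup.normalizer (D : Set G)) B₁ B)
    (hB₁D : Cfsg.IsDefectGroup p M B₁ (D.subgroupOf (Subgroup.normalizer (D : Set G))))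
    (Q : Subgroup G) (hQ : IsPGroup p Q) [Fintype (Subgroup.normalizer (Q : Set G))]
    {e : Set (IrrCharacter (Subgroup.normalizer (Q : Set G)))}
    (hind : IsInducedBlock M (Subgroup.normalizer (Q : Set G)) e B)
    (hHall : ∀ x ∈ Subgroup.centralizer (Q : Set G),
      (∀ q : ℕ, q.Prime → q ∣ orderOf x → q ∉ π) →
        x ∈ piCoreOf {q | q ∉ π} (Subgroup.centralizer (Q : Set G)))
    (hkill : Kills (Subgroup.normalizer (Q : Set G)) e
      (piCoreOf {q | q ∉ π} (Subgroup.centralizer (Q : Set G)))) :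
    ∀ n : Subgroup.normalizer (D : Set G),
      n ∈ piCore {q | q ∉ π} (Subgroup.normalizer (D : Set G)) → n ∈ blockKer B₁ := by
  classical
  induction hn : Nat.card G - Nat.card Q using Nat.strong_induction_on generalizing Q with
  | _ n ih => ?_
  subst hn
  haveI : Fact p.Prime := ⟨hM.1⟩
  obtain ⟨R, hR⟩ := exists_defectGroup hM hind.1
  have hQR := le_defect hM hQ hind.1 hR
  set C := Subgroup.centralizer (Q : Set G) with hC
  set K := piCoreOf {q | q ∉ π} C with hK
  have hNK : Subgroup.normalizer (Q : Set G) ≤ Subgroup.normalizer (K : Set G) :=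
    (H82.le_normalizer_centralizer le_rfl).trans (normalizer_le_normalizer_piCoreOf _ C)
  by_cases hcase : R.map (Subgroup.normalizer (Q : Set G)).subtype = Q
  · have hRQ : Q.subgroupOf (Subgroup.normalizer (Q : Set G)) = R := by
      simp only [← hcase]
      exact Subgroup.comap_map_eq_self_of_injective
        (Subgroup.normalizer (Q : Set G)).subtype_injective R
    obtain ⟨x, hx, hval⟩ := brauer_conj hM hBD hB₁ hB₁D hQ hind (hRQ ▸ hR)
    obtain ⟨ξ, hξ⟩ := block_nonempty hind.1
    obtain ⟨ξ', hξ', hv⟩ := hval ξ hξ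
    set O₁ := piCore {q | q ∉ π} (Subgroup.normalizer (D : Set G)) with hO₁
    have hO₁p : ¬ p ∣ Nat.card O₁ := fun hd =>
      H82.piCore_isPiSub {q | q ∉ π} p hM.1 hd hpπ
    suffices ∀ n ∈ O₁, (ξ' : Subgroup.normalizer (D : Set G) → ℂ) n =
        (ξ' : Subgroup.normalizer (D : Set G) → ℂ) 1 from
      fun n hn χ hχ => kernel_of_sameBlock hM O₁ hO₁p (sameBlock_of_mem hB₁.1 hξ' hχ) this n hn
    intro n hn
    have hcomm : ∀ d ∈ D, d * (n : G) = n * d := by
      intro d hd
      have hdN : d ∈ Subgroup.normalizer (D : Set G) := Subgroup.le_normalizer hd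
      set c : Subgroup.normalizer (D : Set G) := n * ⟨d, hdN⟩ * n⁻¹ * ⟨d, hdN⟩⁻¹ with hc
      have hcO : c ∈ O₁ := by
        rw [hc, mul_assoc, mul_assoc, ← mul_assoc (⟨d, hdN⟩ : Subgroup.normalizer (D : Set G))]
        exact O₁.mul_mem hn ((inferInstance : O₁.Normal).conj_mem _ (O₁.inv_mem hn) _)
      have hcD : (c : G) ∈ D := by
        rw [hc]
        simp only [Subgroup.coe_mul, Subgroup.coe_inv]
        exact D.mul_mem ((Subgroup.mem_normalizer_iff.1 n.2 d).1 hd) (D.inv_mem hd)
      obtain ⟨j, hj⟩ := IsPGroup.iff_orderOf.1 (H20.IsDefectGroup.isPGroup hBD) ⟨c, hcD⟩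
      rw [Subgroup.orderOf_mk, Subgroup.orderOf_coe] at hj
      have hdvd : orderOf c ∣ Nat.card O₁ := by
        rw [← Nat.card_zpowers]
        exact Subgroup.card_dvd_of_le (Subgroup.zpowers_le.2 hcO)
      rcases Nat.eq_zero_or_pos j with rfl | hjpos
      · have h1 : (c : G) = 1 := by
          rw [pow_zero, orderOf_eq_one_iff] at hj
          rw [hj, Subgroup.coe_one]
        simp only [hc, Subgroup.coe_mul, Subgroup.coe_inv] at h1
        rw [mul_inv_eq_one, mul_inv_eq_iff_eq_mul] at h1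
        exact h1.symm
      · exact absurd ((dvd_pow_self p hjpos.ne').trans (hj ▸ hdvd)) hO₁p
    have hxC : x * (n : G) * x⁻¹ ∈ C := by
      rw [hC, ← hx, conjSub, H82.centralizer_map_conj, H82.mem_map_conj_iff,
        show x⁻¹ * (x * (n : G) * x⁻¹) * x = n by group]
      exact hcomm
    have hxK : x * (n : G) * x⁻¹ ∈ K := hHall _ hxC fun q hq hd =>
      piElement_of_mem_piCoreOf ((mem_piCoreOf_iff n).2 hn) hq (by
        rwa [show x * (n : G) * x⁻¹ = MulAut.conj x (n : G) from rfl, MulEquiv.orderOf_eq] at hd)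
    rw [hv n ⟨_, centralizer_le_normalizer' Q hxC⟩ rfl, hkill ξ hξ _ hxK, ← hv 1 1 (by simp)]
  · set P := R.map (Subgroup.normalizer (Q : Set G)).subtype with hP
    have hPp : IsPGroup p P := (H20.IsDefectGroup.isPGroup hR).map _
    have hCPQ : Subgroup.centralizer (P : Set G) ≤ C := Subgroup.centralizer_le hQR
    have hCP : Subgroup.centralizer (P : Set G) ≤ Subgroup.normalizer (Q : Set G) :=
      hCPQ.trans (centralizer_le_normalizer' Q)
    haveI : Fintype (Subgroup.normalizer (P : Set G)) := Fintype.ofFinite _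
    obtain ⟨f, hf, hstep⟩ := exists_step hM hind hR hCP
    have hle : K ⊓ Subgroup.centralizer (P : Set G) ≤
        piCoreOf {q | q ∉ π} (Subgroup.centralizer (P : Set G)) :=
      H82.le_piCoreOf inf_le_right
        (H82.le_normalizer_inf (hCP.trans hNK) (H82.le_normalizer_of_le le_rfl))
        ((H82.piCoreOf_isPiSub _ C).mono inf_le_left)
    have heq : K ⊓ Subgroup.centralizer (P : Set G) =
        piCoreOf {q | q ∉ π} (Subgroup.centralizer (P : Set G)) :=
      le_antisymm hle fun z hz => ⟨hHall z (hCPQ (H82.piCoreOf_le _ _ hz))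
        fun q hq hd => piElement_of_mem_piCoreOf hz hq hd, H82.piCoreOf_le _ _ hz⟩
    have hk := (hstep K _ hNK (not_dvd_piCoreOf hM hpπ _) (H82.piCoreOf_le _ _)
      ((H82.le_normalizer_centralizer le_rfl).trans (normalizer_le_normalizer_piCoreOf _ _))
      (not_dvd_piCoreOf hM hpπ _)).2 heq hkill
    exact ih _ (card_lt_of_le_ne hQR hcase) P hPp hf
      (fun z hz hz' => hle ⟨hHall z (hCPQ hz) hz', hz⟩) hk rfl

end H24
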