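import Cfsg.Agent.H24.Arith
import Cfsg.Agent.H20.DefectApps

/-!
Classes with a common Sylow subgroup of the centraliser whose quotient products avoid `p`-elements
give as many blocks with that defect group.
-/

set_option autoImplicit false
set_option linter.unusedSectionVars false
set_option linter.style.haveILetI false

open Cfsg Module
open scoped ComplexConjugate

namespace H24

universe u

variable {G : Type u} [Group G] [Fintype G] {p : ℕ} {M : Ideal AlgInt} [M.IsPrime]

/-- Factorisation of a value through the central character, when the class size and the degree have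
the same `p`-part `p ^ r`. -/
theorem irr_apply_eq_omega_mul (hM : IsPModular p M) (χ : IrrCharacter G) (g : G)
    (h : (Subgroup.centralizer ({g} : Set G)).index.factorization p ≤
      (charDegree (χ : G → ℂ)).factorization p) :
    ∃ a b : ℕ, ¬ p ∣ b ∧
      ((charDegree (χ : G → ℂ)).factorization p =
        (Subgroup.centralizer ({g} : Set G)).index.factorization p → ¬ p ∣ a) ∧
      ((Subgroup.centralizer ({g} : Set G)).index.factorization p <
        (charDegree (χ : G → ℂ)).factorization p → p ∣ a) ∧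
      (χ : G → ℂ) g = centralChar (χ : G → ℂ) g * ((a : ℂ) * (b : ℂ)⁻¹) := by
  set K := (Subgroup.centralizer ({g} : Set G)).index with hK
  set r := K.factorization p
  set d := charDegree (χ : G → ℂ) with hd
  have hd0 : d ≠ 0 := (irr_pos χ).ne'
  have hK0 : K ≠ 0 := Subgroup.index_ne_zero_of_finite
  obtain ⟨a, ha⟩ : p ^ r ∣ d := (hM.1.pow_dvd_iff_le_factorization hd0).2 h
  have hb : K = p ^ r * (K / p ^ r) := (Nat.ordProj_mul_ordCompl_eq_self K p).symm
  refine ⟨a, K / p ^ r, Nat.not_dvd_ordCompl hM.1 hK0, fun he hp => ?_, fun hlt => ?_, ?_⟩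
  · obtain ⟨a', rfl⟩ := hp
    have : p ^ (r + 1) ∣ d := ⟨a', by rw [ha, pow_succ, mul_assoc]⟩
    rw [hM.1.pow_dvd_iff_le_factorization hd0] at this
    omega
  · have : p ^ (r + 1) ∣ d := (hM.1.pow_dvd_iff_le_factorization hd0).2 hlt
    rw [ha, pow_succ] at this
    exact Nat.dvd_of_mul_dvd_mul_left (pow_pos hM.1.pos _) this
  · rw [centralChar, irr_one, ← hd, ← hK]
    conv_rhs => rw [ha, hb]
    have h1 : ((K / p ^ r : ℕ) : ℂ) ≠ 0 := Nat.cast_ne_zero.2 (Nat.ordCompl_pos p hK0).ne'
    have h2 : (p : ℂ) ≠ 0 := Nat.cast_ne_zero.2 hM.1.ne_zero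
    have h3 : (a : ℂ) ≠ 0 := Nat.cast_ne_zero.2 fun h0 => hd0 (by rw [ha, h0, mul_zero])
    rw [← hb]
    push_cast
    rw [show (K : ℂ) = (p : ℂ) ^ r * ((K / p ^ r : ℕ) : ℂ) by exact_mod_cast hb]
    field_simp

theorem separated_classes [Fact p.Prime] (hM : IsPModular p M) (D : Subgroup G) {r : ℕ}
    (x : Fin r → G) (hx : ∀ i j, IsConj (x i) (x j) → i = j) (hD : ∀ i, H20.IsSylC p (x i) D)
    (hsep : ∀ i j : Fin r, ∀ g h : G, IsConj (x i) g → IsConj (x j) h →
      ∀ k : ℕ, 0 < k → orderOf (g * h⁻¹) ≠ p ^ k) :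
    ∃ B : Fin r → Set (IrrCharacter G), Function.Injective B ∧
      (∀ i, IsPBlock M (B i) ∧ IsDefectGroup p M (B i) D) ∧
      ∀ χ : Fin r → IrrCharacter G, (∀ i, χ i ∈ B i ∧ blockHeight p (B i) (χ i : G → ℂ) = 0) →
        ¬ MemLocalIdeal M (Matrix.det (Matrix.of fun i j => (χ i : G → ℂ) (x j))) := by
  classical
  haveI := H20.k_charP hM
  obtain ⟨P⟩ := (inferInstance : Nonempty (Sylow p G))
  haveI : Fintype (P : Subgroup G) := Fintype.ofFinite _
  choose m hm using fun χ : IrrCharacter G => sum_subgroup_eq (H12.isCharacter_irr χ) (P : Subgroup G)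
  have hidx : ∀ g : G, (Subgroup.centralizer ({g⁻¹} : Set G)).index =
      (Subgroup.centralizer ({g} : Set G)).index := by
    intro g
    congr 1
    ext y
    simp only [Subgroup.mem_centralizer_singleton_iff]
    exact ⟨fun h => by simpa using (show Commute y g⁻¹ from h).inv_right.eq,
      fun h => ((show Commute y g from h).inv_right).eq⟩
  have hcount : ∀ (i j : Fin r) (z : G), z ∈ (P : Subgroup G) →
      classMult (x i)⁻¹ (x j) z = if i = j ∧ z = 1 then (Subgroup.centralizer ({x i} : Set G)).index else 0 := by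
    intro i j z hz
    have hkey : ∀ a b : G, IsConj (x i)⁻¹ a → IsConj (x j) b → a * b = z →
        (i = j ∧ z = 1) ∧ b = a⁻¹ := by
      intro a b ha hb hab
      have ha' : IsConj (x i) a⁻¹ := by
        obtain ⟨c, hc⟩ := isConj_iff.1 ha
        exact isConj_iff.2 ⟨c, by rw [← hc]; group⟩
      obtain ⟨k, hk⟩ := IsPGroup.iff_orderOf.1 P.isPGroup' ⟨z, hz⟩
      rw [Subgroup.orderOf_mk] at hk
      have hz1 : z = 1 := by
        by_contra h1
        refine hsep j i b a⁻¹ hb ha' k (Nat.pos_of_ne_zero fun h0 => h1 ?_) ?_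
        · rw [h0, pow_zero] at hk
          exact orderOf_eq_one_iff.1 hk
        · rw [inv_inv, ← hk, ← hab, ← MulEquiv.orderOf_eq (MulAut.conj a) (b * a), MulAut.conj_apply]
          congr 1
          group
      have hba : b = a⁻¹ := eq_inv_of_mul_eq_one_right (hab.trans hz1)
      exact ⟨⟨hx i j (ha'.trans ((hba ▸ hb).symm)), hz1⟩, hba⟩
    split_ifs with h
    · obtain ⟨rfl, rfl⟩ := h
      rw [← hidx, index_centralizer_eq_card, classMult, ← Nat.card_eq_finsetCard]
      refine Nat.card_congr
        { toFun := fun ab => ⟨ab.1.1, by simpa using ab.2.1⟩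
          invFun := fun a => ⟨(a.1, a.1⁻¹), by simpa using a.2, ?_, by simp⟩
          left_inv := fun ab => Subtype.ext (Prod.ext rfl (hkey _ _ ab.2.1 ab.2.2.1 ab.2.2.2).2.symm)
          right_inv := fun a => rfl }
      have hc : IsConj (x i)⁻¹ a.1 := by simpa using a.2
      obtain ⟨c, hc⟩ := isConj_iff.1 hc
      exact isConj_iff.2 ⟨c, by rw [← hc]; group⟩
    · rw [classMult, Nat.card_eq_zero]
      exact Or.inl ⟨fun ⟨ab, h1, h2, h3⟩ => h (hkey _ _ h1 h2 h3).1⟩
  have hid : ∀ i j : Fin r, ∑ χ : IrrCharacter G,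
      ((m χ : ℂ) * (χ : G → ℂ) (x i)⁻¹) * centralChar (χ : G → ℂ) (x j) =
      if i = j then ((P : Subgroup G).index : ℂ) else 0 := by
    intro i j
    have h1 : ∑ z : (P : Subgroup G), (classMult (x i)⁻¹ (x j) z : ℂ) * (Nat.card G : ℂ) =
        ((Subgroup.centralizer ({x i} : Set G)).index : ℂ) * (Nat.card (P : Subgroup G) : ℂ) *
          ∑ χ : IrrCharacter G,
            ((m χ : ℂ) * (χ : G → ℂ) (x i)⁻¹) * centralChar (χ : G → ℂ) (x j) := by
      simp only [classMult_eq, hidx, ← Finset.mul_sum]
      rw [Finset.sum_comm, Finset.mul_sum, Finset.mul_sum]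
      refine Finset.sum_congr rfl fun χ _ => ?_
      rw [← Finset.sum_div, ← Finset.mul_sum, ← map_sum, hm, map_mul, Complex.conj_natCast,
        Complex.conj_natCast, centralChar]
      ring
    have h2 : ∑ z : (P : Subgroup G), (classMult (x i)⁻¹ (x j) z : ℂ) * (Nat.card G : ℂ) =
        if i = j then ((Subgroup.centralizer ({x i} : Set G)).index : ℂ) * (Nat.card G : ℂ) else 0 := by
      rw [Finset.sum_eq_single (1 : (P : Subgroup G)) (fun z _ hz => by
        rw [hcount i j z z.2, if_neg fun h => hz (Subtype.ext h.2)]; simp) (by simp),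
        hcount i j _ (1 : (P : Subgroup G)).2]
      by_cases h : i = j <;> simp [h]
    rw [h1] at h2
    have hne : ((Subgroup.centralizer ({x i} : Set G)).index : ℂ) * (Nat.card (P : Subgroup G) : ℂ) ≠ 0 :=
      mul_ne_zero (index_ne_zero_cast _) H12.card_ne_zero'
    refine mul_left_cancel₀ hne (h2.trans ?_)
    split_ifs
    · rw [← (P : Subgroup G).card_mul_index]; push_cast; ring
    · rw [mul_zero]
  let c : IrrCharacter G → Fin r → H20.k M := fun χ i =>
    H20.redC M ((m χ : ℂ) * (χ : G → ℂ) (x i)⁻¹)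
  let L : IrrCharacter G → Fin r → H20.k M := fun χ j => H20.redC M (centralChar (χ : G → ℂ) (x j))
  have hmem : ∀ (χ : IrrCharacter G) (i : Fin r),
      MemLocalRing M ((m χ : ℂ) * (χ : G → ℂ) (x i)⁻¹) := fun χ i =>
    H20.memRing_mul (H20.memRing_natCast _) (H20.memRing_irr χ _)
  have hred : ∀ i j : Fin r, ∑ χ : IrrCharacter G, c χ i * L χ j =
      if i = j then ((P : Subgroup G).index : H20.k M) else 0 := by
    intro i j
    have h1 := congrArg (H20.redC M) (hid i j)
    rw [H20.redC_sum _ _ fun χ _ => H20.memRing_mul (hmem χ i) (H20.memRing_centralChar χ _)] at h1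
    simp only [H20.redC_mul (hmem _ i) (H20.memRing_centralChar _ _)] at h1
    rw [h1]
    split_ifs
    · exact H20.redC_natCast _
    · exact H20.redC_zero
  have hu : ((P : Subgroup G).index : H20.k M) ≠ 0 := fun h =>
    P.not_dvd_index ((CharP.cast_eq_zero_iff (H20.k M) p _).1 h)
  have hspan : Submodule.span (H20.k M) (L '' {χ | ∃ i, c χ i ≠ 0}) = ⊤ := by
    rw [eq_top_iff, ← (Pi.basisFun (H20.k M) (Fin r)).span_eq, Submodule.span_le]
    rintro _ ⟨i, rfl⟩
    have he : Pi.basisFun (H20.k M) (Fin r) i =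
        ((P : Subgroup G).index : H20.k M)⁻¹ • ∑ χ : IrrCharacter G, c χ i • L χ := by
      funext j
      simp only [Pi.smul_apply, Finset.sum_apply, smul_eq_mul, hred, Pi.basisFun_apply,
        Pi.single_apply]
      by_cases hij : i = j
      · rw [if_pos hij, if_pos hij.symm, inv_mul_cancel₀ hu]
      · rw [if_neg hij, if_neg (Ne.symm hij), mul_zero]
    rw [SetLike.mem_coe, he]
    refine Submodule.smul_mem _ _ (Submodule.sum_mem _ fun χ _ => ?_)
    by_cases hc : c χ i = 0
    · rw [hc, zero_smul]; exact Submodule.zero_mem _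
    · exact Submodule.smul_mem _ _ (Submodule.subset_span ⟨χ, ⟨i, hc⟩, rfl⟩)
  obtain ⟨b, hb, hbspan, hbli⟩ := exists_linearIndependent (H20.k M) (L '' {χ | ∃ i, c χ i ≠ 0})
  haveI : Finite b := (((Set.toFinite _).image L).subset hb).to_subtype
  let bb : Basis b (H20.k M) (Fin r → H20.k M) := Basis.mk hbli (by
    rw [Subtype.range_coe_subtype, Set.setOf_mem_eq, hbspan, hspan])
  haveI : Fintype b := Fintype.ofFinite b
  have hcardb : Fintype.card b = r := by
    rw [← Module.finrank_eq_card_basis bb, Module.finrank_fin_fun]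
  let e : Fin r ≃ b := ((Fintype.equivFinOfCardEq hcardb)).symm
  choose θ hθ using fun i : Fin r => hb (e i).2
  have hLθ : ∀ i, L (θ i) = ((e i : b) : Fin r → H20.k M) := fun i => (hθ i).2
  have hli : LinearIndependent (H20.k M) fun i => L (θ i) := by
    simp only [hLθ]
    exact hbli.comp e e.injective
  have hblock : ∀ i, IsDefectGroup p M (blockOf M (θ i : G → ℂ)) D ∧
      sInf ((fun φ : IrrCharacter G => (charDegree (φ : G → ℂ)).factorization p) ''
        blockOf M (θ i : G → ℂ)) + (Nat.card D).factorization p = (Nat.card G).factorization p := by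
    intro i
    have hB := H20.isPBlock_blockOf (M := M) (θ i)
    have hmemθ := H20.mem_blockOf_self (M := M) (θ i)
    obtain ⟨i', hi'⟩ := (hθ i).1
    obtain ⟨j, hj⟩ : ∃ j, L (θ i) j ≠ 0 := by
      by_contra! h
      exact hli.ne_zero i (funext h)
    obtain ⟨E, hE⟩ := H20.exists_defectGroup hM hB
    obtain ⟨h', hh', hh'E⟩ := H20.defectGroup_le_sylC hM hB hE hmemθ (h := x j)
      (by rw [H20.lam_clSum]; exact hj)
    obtain ⟨w, hw⟩ := H20.exists_conjSub_ge (hD j) (H20.IsDefectGroup.isPGroup hE) hh' hh'E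
    have hcardD : ∀ l : Fin r, Nat.card D =
        p ^ (Nat.card (Subgroup.centralizer ({x l} : Set G))).factorization p := fun l => (hD l).card
    have hle : (Nat.card (Subgroup.centralizer ({x i'} : Set G))).factorization p ≤
        blockDefect p (blockOf M (θ i : G → ℂ)) := by
      by_contra hlt
      have hdeg : (Subgroup.centralizer ({(x i')⁻¹} : Set G)).index.factorization p <
          (charDegree (θ i : G → ℂ)).factorization p := by
        rw [hidx]
        have h3 := H20.factorization_index (p := p) (x i')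
        have h4 : sInf ((fun φ : IrrCharacter G => (charDegree (φ : G → ℂ)).factorization p) ''
            blockOf M (θ i : G → ℂ)) ≤ (charDegree (θ i : G → ℂ)).factorization p :=
          Nat.sInf_le ⟨θ i, hmemθ, rfl⟩
        have hbd : blockDefect p (blockOf M (θ i : G → ℂ)) = (Nat.card G).factorization p -
          sInf ((fun φ : IrrCharacter G => (charDegree (φ : G → ℂ)).factorization p) ''
            blockOf M (θ i : G → ℂ)) := rfl
        omega
      obtain ⟨a, b', hb', -, ha, hval⟩ := irr_apply_eq_omega_mul hM (θ i) (x i')⁻¹ hdeg.le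
      apply hi'
      simp only [c]
      rw [hval, H20.redC_eq_zero_iff (hval ▸ hmem (θ i) i')]
      have h5 := H20.memIdeal_mul (H20.memRing_mul (H20.memRing_mul (H20.memRing_natCast (M := M) (m (θ i)))
        (H20.memRing_centralChar (θ i) (x i')⁻¹)) (H20.inv_natCast_memRing hM hb'))
        ((H20.natCast_memIdeal_iff hM a).2 (ha hdeg))
      convert h5 using 1
      ring
    have hEcard := H20.card_defectGroup hM hB hE
    have hEle : Nat.card E ≤ Nat.card D := (Subgroup.card_le_of_le hw).trans (H20.card_conjSub w D).le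
    have hle' : Nat.card D ≤ Nat.card E := by
      rw [hcardD i', hEcard]
      exact Nat.pow_le_pow_right hM.1.pos hle
    have heq : E = H20.conjSub w D :=
      Subgroup.eq_of_le_of_card_ge hw ((H20.card_conjSub w D).le.trans hle')
    refine ⟨?_, ?_⟩
    · have h6 := H20.isDefectGroup_conj hM hB hE w⁻¹
      rwa [heq, H20.conjSub_conjSub, inv_mul_cancel, H20.conjSub_one] at h6
    · have h7 : (Nat.card D).factorization p = blockDefect p (blockOf M (θ i : G → ℂ)) := by
        rw [le_antisymm hle' hEle, hEcard, Nat.factorization_pow, Finsupp.smul_apply,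
          hM.1.factorization_self, smul_eq_mul, mul_one]
      rw [h7, blockDefect]
      have h4 : sInf ((fun φ : IrrCharacter G => (charDegree (φ : G → ℂ)).factorization p) ''
          blockOf M (θ i : G → ℂ)) ≤ (Nat.card G).factorization p :=
        (Nat.sInf_le (Set.mem_image_of_mem _ hmemθ)).trans
          ((Nat.factorization_le_iff_dvd (irr_pos _).ne' Nat.card_pos.ne').2 (charDegree_dvd_card _) p)
      omega
  refine ⟨fun i => blockOf M (θ i : G → ℂ), ?_, fun i => ⟨H20.isPBlock_blockOf _, (hblock i).1⟩, ?_⟩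
  · intro i i' h
    simp only at h
    refine hli.injective (funext fun j => ?_)
    have hs : SameBlock M (θ i : G → ℂ) (θ i' : G → ℂ) :=
      (h ▸ H20.mem_blockOf_self (θ i') : θ i' ∈ blockOf M (θ i : G → ℂ))
    have h2 := H20.lam_eq_of_sameBlock hs (H20.clSum (H20.k M) (x j))
    rwa [H20.lam_clSum, H20.lam_clSum] at h2
  intro χ hχ
  have hdegχ : ∀ i j, (charDegree (χ i : G → ℂ)).factorization p =
      (Subgroup.centralizer ({x j} : Set G)).index.factorization p := by
    intro i j
    obtain ⟨hmemχ, h0⟩ := hχ i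
    have h1 := (hblock i).2
    have h2 := H20.factorization_index (p := p) (x j)
    have h3 : (Nat.card D).factorization p =
        (Nat.card (Subgroup.centralizer ({x j} : Set G))).factorization p := by
      rw [(hD j).card, Nat.factorization_pow, Finsupp.smul_apply, hM.1.factorization_self,
        smul_eq_mul, mul_one]
    have h4 : sInf ((fun φ : IrrCharacter G => (charDegree (φ : G → ℂ)).factorization p) ''
        blockOf M (θ i : G → ℂ)) ≤ (charDegree (χ i : G → ℂ)).factorization p :=
      Nat.sInf_le ⟨χ i, hmemχ, rfl⟩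
    simp only [blockHeight] at h0
    omega
  let A : Matrix (Fin r) (Fin r) (H20.O M) :=
    Matrix.of fun i j => ⟨(χ i : G → ℂ) (x j), H20.memRing_irr (χ i) (x j)⟩
  have hA : Matrix.det (Matrix.of fun i j => (χ i : G → ℂ) (x j)) = ((A.det : H20.O M) : ℂ) := by
    rw [show ((A.det : H20.O M) : ℂ) = (H20.O M).subtype A.det from rfl, RingHom.map_det]
    rfl
  rw [hA, ← H20.red_eq_zero_iff, RingHom.map_det]
  -- the reduction factors as diagonal, central characters, diagonal
  let α : Fin r → H20.k M := fun i =>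
    ((charDegree (χ i : G → ℂ) / p ^ (charDegree (χ i : G → ℂ)).factorization p : ℕ) : H20.k M)
  let β : Fin r → H20.k M := fun j =>
    (((Subgroup.centralizer ({x j} : Set G)).index /
      p ^ (Subgroup.centralizer ({x j} : Set G)).index.factorization p : ℕ) : H20.k M)⁻¹
  have hval : (H20.red M).mapMatrix A =
      Matrix.diagonal α * (Matrix.of fun i j => L (θ i) j) * Matrix.diagonal β := by
    ext i j
    rw [Matrix.mul_diagonal, Matrix.diagonal_mul, RingHom.mapMatrix_apply, Matrix.map_apply]
    have hs : SameBlock M (θ i : G → ℂ) (χ i : G → ℂ) := (hχ i).1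
    have hL : L (θ i) j = H20.redC M (centralChar (χ i : G → ℂ) (x j)) := by
      have h2 := H20.lam_eq_of_sameBlock hs (H20.clSum (H20.k M) (x j))
      rwa [H20.lam_clSum, H20.lam_clSum] at h2
    simp only [Matrix.of_apply, hL, A]
    rw [← H20.redC_of_mem (H20.memRing_irr (χ i) (x j))]
    set K := (Subgroup.centralizer ({x j} : Set G)).index with hK
    set d := charDegree (χ i : G → ℂ) with hd
    have hb' : ¬ p ∣ K / p ^ K.factorization p := Nat.not_dvd_ordCompl hM.1 Subgroup.index_ne_zero_of_finite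
    have hbinv : H20.redC M ((K / p ^ K.factorization p : ℕ) : ℂ)⁻¹ = β j := by
      refine eq_inv_of_mul_eq_one_left ?_
      rw [← H20.redC_natCast, ← H20.redC_mul (H20.inv_natCast_memRing hM hb') (H20.memRing_natCast _),
        inv_mul_cancel₀ (Nat.cast_ne_zero.2 fun h => hb' (by rw [h]; exact dvd_zero p)), H20.redC_one]
    have e : (χ i : G → ℂ) (x j) = (((d / p ^ d.factorization p : ℕ) : ℂ) *
        centralChar (χ i : G → ℂ) (x j)) * ((K / p ^ K.factorization p : ℕ) : ℂ)⁻¹ := by
      rw [centralChar, irr_one, ← hd, ← hK]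
      have hdd : (d : ℂ) = ((d / p ^ d.factorization p : ℕ) : ℂ) * (p : ℂ) ^ d.factorization p := by
        exact_mod_cast ((mul_comm _ _).trans (Nat.ordProj_mul_ordCompl_eq_self d p)).symm
      have hKK : (K : ℂ) = ((K / p ^ K.factorization p : ℕ) : ℂ) * (p : ℂ) ^ K.factorization p := by
        exact_mod_cast ((mul_comm _ _).trans (Nat.ordProj_mul_ordCompl_eq_self K p)).symm
      have h1 : ((K / p ^ K.factorization p : ℕ) : ℂ) ≠ 0 :=
        Nat.cast_ne_zero.2 fun h => hb' (h ▸ dvd_zero p)
      have h2 : (p : ℂ) ≠ 0 := Nat.cast_ne_zero.2 hM.1.ne_zero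
      have h3 : ((d / p ^ d.factorization p : ℕ) : ℂ) ≠ 0 :=
        Nat.cast_ne_zero.2 (Nat.ordCompl_pos p (irr_pos (χ i)).ne').ne'
      have hdk : d.factorization p = K.factorization p := hdegχ i j
      rw [hdk] at h3 hdd ⊢
      rw [hdd, hKK]
      field_simp
    rw [e, H20.redC_mul (H20.memRing_mul (H20.memRing_natCast _) (H20.memRing_centralChar _ _))
      (H20.inv_natCast_memRing hM hb'), H20.redC_mul (H20.memRing_natCast _)
      (H20.memRing_centralChar _ _), H20.redC_natCast, hbinv]
  rw [hval, Matrix.det_mul, Matrix.det_mul, Matrix.det_diagonal, Matrix.det_diagonal]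
  refine mul_ne_zero (mul_ne_zero (Finset.prod_ne_zero_iff.2 fun i _ h => ?_) ?_)
    (Finset.prod_ne_zero_iff.2 fun j _ h => ?_)
  · exact Nat.not_dvd_ordCompl hM.1 (irr_pos (χ i)).ne' ((CharP.cast_eq_zero_iff (H20.k M) p _).1 h)
  · have hrows : LinearIndependent (H20.k M) (Matrix.of fun i j => L (θ i) j).row := hli
    exact ((Matrix.isUnit_iff_isUnit_det _).1 (Matrix.linearIndependent_rows_iff_isUnit.1 hrows)).ne_zero
  · exact Nat.not_dvd_ordCompl hM.1 Subgroup.index_ne_zero_of_finite
      ((CharP.cast_eq_zero_iff (H20.k M) p _).1 (inv_eq_zero.1 h))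

end H24
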