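import Cfsg.Agent.H24.Constituent
import Cfsg.Agent.H12.Induction
import Mathlib.RingTheory.Valuation.LocalSubring
import Mathlib.RingTheory.Nakayama

/-!
A nonprincipal irreducible representation with a vector fixed by the normalizer of a TI Sylow
subgroup `P` has degree at least the order of `P`.
-/

set_option autoImplicit false
set_option linter.unusedSectionVars false
set_option linter.style.haveILetI false

open Cfsg Module
open scoped ComplexConjugate Pointwise

namespace H24

universe u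

theorem exists_valuationSubring_prime (p : ℕ) [hp : Fact p.Prime] :
    ∃ B : ValuationSubring ℂ, (p : B) ∈ IsLocalRing.maximalIdeal B := by
  let A : Subring ℂ := (Int.castRingHom ℂ).range
  let I : Ideal A := Ideal.span {(p : A)}
  have hI : I ≠ ⊤ := by
    rw [Ne, Ideal.eq_top_iff_one, Ideal.mem_span_singleton']
    rintro ⟨⟨a, z, rfl⟩, ha⟩
    have h : ((z * (p : ℤ) : ℤ) : ℂ) = ((1 : ℤ) : ℂ) := by
      push_cast
      simpa using congrArg Subtype.val ha
    have h' : z * (p : ℤ) = 1 := Int.cast_injective h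
    exact hp.out.not_dvd_one (Int.natCast_dvd_natCast.1 (Dvd.intro_left z (by simpa using h') : (p : ℤ) ∣ ((1 : ℕ) : ℤ)))
  obtain ⟨B, -, hB⟩ := Ideal.image_subset_nonunits_valuationSubring I hI
  refine ⟨B, ValuationSubring.coe_mem_nonunits_iff.1 ?_⟩
  simpa using hB ⟨(p : A), Ideal.subset_span rfl, rfl⟩

/-- In a module over a local ring with residue characteristic `p`, a dependence between the translates
of `y` by a `p`-group puts the trace of `y` in every invariant submodule containing it. -/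
theorem trace_mem_of_dependence {B : Type*} [CommRing B] [IsLocalRing B] {p : ℕ} [hp : Fact p.Prime]
    (hpm : (p : B) ∈ IsLocalRing.maximalIdeal B) {P : Type*} [Group P] [Fintype P]
    (hP : IsPGroup p P) {V : Type*} [AddCommGroup V] [Module B V] (f : P →* Module.End B V)
    (y : V) (W : Submodule B V) (hW : ∀ u : P, ∀ w ∈ W, f u w ∈ W)
    (hy : ∀ u : P, ∀ m ∈ IsLocalRing.maximalIdeal B, m • f u y ∈ W)
    (c : P → B) (u₀ : P) (hc : IsUnit (c u₀)) (h : ∑ u, c u • f u y ∈ W) :
    ∑ u, f u y ∈ W := by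
  classical
  let res : B →+* (IsLocalRing.ResidueField B) := IsLocalRing.residue B
  have hres : ∀ b : B, res b = 0 ↔ b ∈ IsLocalRing.maximalIdeal B :=
    fun b => IsLocalRing.residue_eq_zero_iff b
  have hpk : ∀ a : P → (IsLocalRing.ResidueField B), p • a = 0 := by
    intro a
    funext u
    rw [Pi.smul_apply, nsmul_eq_mul, ← map_natCast res, (hres _).2 hpm, zero_mul]
    rfl
  haveI : CharP (IsLocalRing.ResidueField B) p := (CharP.charP_iff_prime_eq_zero hp.out).2 (by
    rw [← map_natCast res]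
    exact (hres _).2 hpm)
  letI : Algebra (ZMod p) (IsLocalRing.ResidueField B) := ZMod.algebra _ p
  let t : P → (P → (IsLocalRing.ResidueField B)) := fun w u => res (c (w⁻¹ * u))
  let S : Submodule (ZMod p) (P → (IsLocalRing.ResidueField B)) := Submodule.span (ZMod p) (Set.range t)
  haveI : Module.Finite (ZMod p) ↥S := Module.Finite.span_of_finite (ZMod p) (Set.finite_range t)
  haveI : Finite S := Module.finite_of_finite (ZMod p)
  have htr : ∀ (w : P) (a : P → (IsLocalRing.ResidueField B)), a ∈ S → (fun u => a (w⁻¹ * u)) ∈ S := by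
    intro w a ha
    induction ha using Submodule.span_induction with
    | mem x hx =>
      obtain ⟨w', rfl⟩ := hx
      exact Submodule.subset_span ⟨w * w', by funext u; simp [t, mul_assoc]⟩
    | zero => exact S.zero_mem
    | add x z _ _ hx hz => exact S.add_mem hx hz
    | smul r x _ hx =>
      rw [← ZMod.natCast_zmod_val r]
      simp only [Nat.cast_smul_eq_nsmul]
      exact S.toAddSubmonoid.nsmul_mem hx _
  have hgood : ∀ a ∈ S, ∃ α : P → B, (∀ u, res (α u) = a u) ∧ ∑ u, α u • f u y ∈ W := by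
    intro a ha
    induction ha using Submodule.span_induction with
    | mem x hx =>
      obtain ⟨w, rfl⟩ := hx
      refine ⟨fun u => c (w⁻¹ * u), fun u => rfl, ?_⟩
      have h2 := hW w _ h
      rw [map_sum] at h2
      convert h2 using 1
      refine Fintype.sum_equiv (Equiv.mulLeft w⁻¹) _ _ fun u => ?_
      rw [Equiv.coe_mulLeft, map_smul, ← Module.End.mul_apply, ← map_mul, mul_inv_cancel_left]
    | zero => exact ⟨0, fun u => map_zero res, by simp⟩
    | add x z _ _ hx hz =>
      obtain ⟨α, hα, hαW⟩ := hx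
      obtain ⟨β, hβ, hβW⟩ := hz
      refine ⟨α + β, fun u => by rw [Pi.add_apply, map_add, hα, hβ]; rfl, ?_⟩
      simp only [Pi.add_apply, add_smul, Finset.sum_add_distrib]
      exact add_mem hαW hβW
    | smul r x _ hx =>
      obtain ⟨α, hα, hαW⟩ := hx
      refine ⟨r.val • α, fun u => ?_, ?_⟩
      · conv_rhs => rw [← ZMod.natCast_zmod_val r, Nat.cast_smul_eq_nsmul, Pi.smul_apply]
        rw [Pi.smul_apply, map_nsmul, hα]
      · simp only [Pi.smul_apply, smul_assoc, ← Finset.smul_sum]
        exact W.toAddSubmonoid.nsmul_mem hαW _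
  letI : MulAction P S :=
    { smul := fun w a => ⟨fun u => a.1 (w⁻¹ * u), htr w a.1 a.2⟩
      one_smul := fun a => Subtype.ext (funext fun u => by
        show a.1 (1⁻¹ * u) = a.1 u
        rw [inv_one, one_mul])
      mul_smul := fun w w' a => Subtype.ext (funext fun u => by
        show a.1 ((w * w')⁻¹ * u) = a.1 (w'⁻¹ * (w⁻¹ * u))
        rw [mul_inv_rev, mul_assoc]) }
  have hne : (⟨t 1, Submodule.subset_span ⟨1, rfl⟩⟩ : S) ≠ 0 := by
    intro h0
    have h1 := congrFun (congrArg Subtype.val h0) u₀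
    simp only [t, inv_one, one_mul] at h1
    exact (IsLocalRing.mem_maximalIdeal _).1 ((hres _).1 h1) hc
  have hdvd : p ∣ Nat.card S := by
    have hd := addOrderOf_dvd_natCard (⟨t 1, Submodule.subset_span ⟨1, rfl⟩⟩ : S)
    rwa [addOrderOf_eq_prime (Subtype.ext (hpk _)) hne] at hd
  obtain ⟨b, hb, hb0⟩ := hP.exists_fixed_point_of_prime_dvd_card_of_fixed_point S hdvd
    (a := (0 : S)) fun w => Subtype.ext (funext fun u => rfl)
  have hconst : ∀ u : P, b.1 u = b.1 1 := by
    intro u
    have h1 := congrFun (congrArg Subtype.val (hb u⁻¹)) 1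
    change b.1 (u⁻¹⁻¹ * 1) = b.1 1 at h1
    simpa using h1
  obtain ⟨α, hα, hαW⟩ := hgood b.1 b.2
  have hb1 : res (α 1) ≠ 0 := by
    intro h0
    exact hb0 (Subtype.ext (funext fun u => by
      show (0 : (IsLocalRing.ResidueField B)) = b.1 u
      rw [hconst, ← hα, h0]))
  have hu : IsUnit (α 1) := by
    by_contra hnu
    exact hb1 ((hres _).2 ((IsLocalRing.mem_maximalIdeal _).2 hnu))
  have hdiff : ∑ u, (α u - α 1) • f u y ∈ W :=
    Submodule.sum_mem _ fun u _ => hy u _ ((hres _).1 (by rw [map_sub, hα, hα, hconst, sub_self]))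
  have h2 := W.sub_mem hαW hdiff
  rw [← Finset.sum_sub_distrib] at h2
  simp only [← sub_smul, sub_sub_cancel, ← Finset.smul_sum] at h2
  exact (Submodule.smul_mem_iff_of_isUnit W hu).1 h2

/-- A `p`-element of `N(P)` lies in `P`; for TI Sylow subgroups `P` acts freely outside the base coset. -/
theorem smul_eq_self_of_TI {G : Type u} [Group G] [Finite G] {p : ℕ} [Fact p.Prime] (P : Sylow p G)
    (hTI : ∀ g : G, g ∉ Subgroup.normalizer ((P : Subgroup G) : Set G) →
      (P : Subgroup G) ⊓ (MulAut.conj g • (P : Subgroup G)) = ⊥)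
    {u : G} (hu : u ∈ (P : Subgroup G)) {x : G}
    (hx : x ∉ Subgroup.normalizer ((P : Subgroup G) : Set G))
    (h : x⁻¹ * u * x ∈ Subgroup.normalizer ((P : Subgroup G) : Set G)) : u = 1 := by
  have hp : IsPGroup p ((P : Subgroup G).map (MulAut.conj x⁻¹).toMonoidHom) := P.isPGroup'.map _
  have hmem : x⁻¹ * u * x ∈ (P : Subgroup G).map (MulAut.conj x⁻¹).toMonoidHom ⊓
      Subgroup.normalizer ((P : Subgroup G) : Set G) := ⟨⟨u, hu, by simp⟩, h⟩
  have hmem' : x⁻¹ * u * x ∈ (P : Subgroup G).map (MulAut.conj x⁻¹).toMonoidHom ⊓ (P : Subgroup G) :=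
    hp.inf_normalizer_sylow P ▸ (by simpa using hmem)
  have h2 : u ∈ (P : Subgroup G) ⊓ (MulAut.conj x • (P : Subgroup G)) := by
    refine ⟨hu, Subgroup.mem_pointwise_smul_iff_inv_smul_mem.2 ?_⟩
    have h3 := hmem'.2
    simp [MulAut.smul_def] at h3 ⊢
    exact h3
  rw [hTI x hx] at h2
  exact Subgroup.mem_bot.1 h2

open scoped Classical in
theorem card_le_degree_of_fixed {G : Type u} [Group G] [Fintype G] {p : ℕ} [Fact p.Prime]
    (P : Sylow p G)
    (hTI : ∀ g : G, g ∉ Subgroup.normalizer ((P : Subgroup G) : Set G) →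
      (P : Subgroup G) ⊓ (MulAut.conj g • (P : Subgroup G)) = ⊥)
    {d : ℕ} (ρ : Representation ℂ G (Fin d → ℂ)) [ρ.IsIrreducible]
    (h1 : ∑ g, ρ.character g = 0) (v : Fin d → ℂ) (hv0 : v ≠ 0)
    (hv : ∀ g ∈ Subgroup.normalizer ((P : Subgroup G) : Set G), ρ g v = v) :
    Nat.card (P : Subgroup G) ≤ d := by
  set N := Subgroup.normalizer ((P : Subgroup G) : Set G) with hN
  haveI := Fintype.ofFinite (G ⧸ N)
  haveI := Fintype.ofFinite (P : Subgroup G)
  let σ : G ⧸ N → (Fin d → ℂ) := fun x => ρ x.out v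
  have hσ : ∀ g : G, σ (QuotientGroup.mk g) = ρ g v := by
    intro g
    obtain ⟨m, hm⟩ := QuotientGroup.mk_out_eq_mul N g
    show ρ (QuotientGroup.mk g : G ⧸ N).out v = ρ g v
    rw [hm, map_mul, Module.End.mul_apply, hv m m.2]
  have hsm : ∀ (g : G) (x : G ⧸ N), σ (g • x) = ρ g (σ x) := by
    intro g x
    obtain ⟨x, rfl⟩ := QuotientGroup.mk_surjective x
    rw [MulAction.Quotient.smul_mk, hσ, hσ, smul_eq_mul, map_mul, Module.End.mul_apply]
  have htot : ∑ x, σ x = 0 := by
    have hfix : ∀ g : G, ρ g (∑ x, σ x) = ∑ x, σ x := by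
      intro g
      rw [map_sum]
      exact Fintype.sum_equiv (MulAction.toPerm g) _ _ fun x => (hsm g x).symm
    have h2 := sum_rep_eq_smul ρ (Finset.univ : Finset G) fun g _ c => Finset.mem_univ _
    rw [h1, zero_div, zero_smul] at h2
    have h3 := LinearMap.congr_fun h2 (∑ x, σ x)
    rw [LinearMap.sum_apply, Finset.sum_congr rfl fun g _ => hfix g, Finset.sum_const,
      Finset.card_univ, LinearMap.zero_apply, ← Nat.cast_smul_eq_nsmul ℂ] at h3
    exact (smul_eq_zero.1 h3).resolve_left (Nat.cast_ne_zero.2 Fintype.card_ne_zero)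
  let rep : G ⧸ N → G ⧸ N := fun x =>
    (Quotient.mk'' x : MulAction.orbitRel.Quotient (P : Subgroup G) (G ⧸ N)).out
  let base : G ⧸ N := QuotientGroup.mk 1
  let X : Finset (G ⧸ N) := Finset.univ.filter fun x => x ≠ base ∧ rep x = x
  have hbase : ∀ (u : (P : Subgroup G)) (x : G ⧸ N), x ≠ base → u • x ≠ base := by
    intro u x hx he
    apply hx
    rw [eq_inv_smul_iff.2 he]
    show QuotientGroup.mk ((u⁻¹ : (P : Subgroup G)) * (1 : G)) = base
    rw [QuotientGroup.eq]
    simpa [hN] using Subgroup.le_normalizer u.2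
  have hfree : ∀ (u : (P : Subgroup G)) (x : G ⧸ N), x ≠ base → u • x = x → u = 1 := by
    intro u x hx he
    obtain ⟨x, rfl⟩ := QuotientGroup.mk_surjective x
    have hxN : x ∉ N := fun h => hx (QuotientGroup.eq.2 (by simpa using N.inv_mem h))
    have he' : (u : G) • (QuotientGroup.mk x : G ⧸ N) = QuotientGroup.mk x := he
    rw [MulAction.Quotient.smul_mk, QuotientGroup.eq, smul_eq_mul] at he'
    refine Subtype.ext (smul_eq_self_of_TI P hTI u.2 hxN ?_)
    simpa [hN, mul_assoc] using N.inv_mem he'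
  have hrep : ∀ x : G ⧸ N, ∃ u : (P : Subgroup G), u • rep x = x := by
    intro x
    have h2 : rep x ∈ MulAction.orbit (P : Subgroup G) x :=
      MulAction.orbitRel_apply.1 (Quotient.mk_out (s := MulAction.orbitRel (P : Subgroup G) (G ⧸ N)) x)
    obtain ⟨u, hu⟩ := h2
    exact ⟨u⁻¹, by rw [← hu]; exact inv_smul_smul u x⟩
  have hrep2 : ∀ (u : (P : Subgroup G)) (x : G ⧸ N), rep (u • x) = rep x := by
    intro u x
    show Quotient.out _ = Quotient.out _
    rw [Quotient.sound' (MulAction.orbitRel_apply.2 ⟨u, rfl⟩)]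
  let y : Fin d → ℂ := ∑ x ∈ X, σ x
  have hTr : v + ∑ u : (P : Subgroup G), ρ u y = 0 := by
    rw [← htot, ← Finset.add_sum_erase _ _ (Finset.mem_univ base)]
    congr 1
    · rw [hσ, map_one, Module.End.one_apply]
    simp only [y, map_sum]
    rw [← Finset.sum_product']
    refine Finset.sum_bij (fun ux _ => ux.1 • ux.2) ?_ ?_ ?_ ?_
    · rintro ⟨u, x⟩ hux
      exact Finset.mem_erase.2
        ⟨hbase u x (Finset.mem_filter.1 (Finset.mem_product.1 hux).2).2.1, Finset.mem_univ _⟩
    · rintro ⟨u, x⟩ hux ⟨u', x'⟩ hux' he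
      obtain ⟨-, hx, hxr⟩ := Finset.mem_filter.1 (Finset.mem_product.1 hux).2
      obtain ⟨-, hx', hxr'⟩ := Finset.mem_filter.1 (Finset.mem_product.1 hux').2
      simp only at he hxr hxr' hx
      have hxx : x = x' := by rw [← hxr, ← hrep2 u x, he, hrep2, hxr']
      subst hxx
      have h3 := hfree (u'⁻¹ * u) x hx (by rw [mul_smul, he, inv_smul_smul])
      rw [inv_mul_eq_one] at h3
      rw [h3]
    · intro x hx
      obtain ⟨u, hu⟩ := hrep x
      refine ⟨(u, rep x), Finset.mem_product.2 ⟨Finset.mem_univ _, Finset.mem_filter.2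
        ⟨Finset.mem_univ _, ?_, ?_⟩⟩, hu⟩
      · intro he
        refine hbase u⁻¹ x (Finset.ne_of_mem_erase hx) ?_
        rw [inv_smul_eq_iff, ← he]
        exact hu.symm
      · conv_rhs => rw [← hu, hrep2]
    · rintro ⟨u, x⟩ _
      exact (hsm (u : G) x).symm
  by_contra hlt
  obtain ⟨B, hB⟩ := exists_valuationSubring_prime p
  have hdep : ¬ LinearIndependent ℂ fun u : (P : Subgroup G) => ρ u y := by
    intro hli
    have h3 := hli.fintype_card_le_finrank
    rw [Module.finrank_fin_fun, ← Nat.card_eq_fintype_card] at h3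
    exact hlt h3
  obtain ⟨c, hc, u₁, hu₁⟩ := Fintype.not_linearIndependent_iff.1 hdep
  obtain ⟨u₀, -, hmax⟩ := Finset.exists_max_image Finset.univ (fun u => B.valuation (c u))
    ⟨u₁, Finset.mem_univ u₁⟩
  have hc0 : c u₀ ≠ 0 := by
    intro h0
    have h3 := hmax u₁ (Finset.mem_univ u₁)
    simp only [h0, map_zero, le_zero_iff, Valuation.zero_iff] at h3
    exact hu₁ h3
  have hmem : ∀ u, c u / c u₀ ∈ B := fun u => by
    rw [← B.valuation_le_one_iff, map_div₀]
    exact div_le_one_of_le₀ (hmax u (Finset.mem_univ u)) zero_le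
  let f : (P : Subgroup G) →* Module.End B (Fin d → ℂ) :=
    { toFun := fun u => (ρ (u : G)).restrictScalars B
      map_one' := by
        apply LinearMap.ext
        intro w
        simp
      map_mul' := fun a b => by
        apply LinearMap.ext
        intro w
        simp }
  let L : Submodule B (Fin d → ℂ) := Submodule.span B (Set.range fun g : G => ρ g v)
  have hL : ∀ (g : G), L.map ((ρ g).restrictScalars B) ≤ L := by
    intro g
    rw [Submodule.map_span, Submodule.span_le]
    rintro _ ⟨_, ⟨g', rfl⟩, rfl⟩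
    exact Submodule.subset_span ⟨g * g', by simp⟩
  have hW : ∀ (g : G), (IsLocalRing.maximalIdeal B • L).map ((ρ g).restrictScalars B) ≤
      IsLocalRing.maximalIdeal B • L := by
    intro g
    rw [Submodule.map_smul'']
    exact Submodule.smul_mono le_rfl (hL g)
  have hyL : y ∈ L := Submodule.sum_mem _ fun x _ => Submodule.subset_span ⟨x.out, rfl⟩
  have hsum : ∑ u, f u y ∈ IsLocalRing.maximalIdeal B • L := by
    refine trace_mem_of_dependence hB P.isPGroup' f y _ (fun u w hw => hW (u : G) ⟨w, hw, rfl⟩)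
      (fun u m hm => Submodule.smul_mem_smul hm (hL (u : G) ⟨y, hyL, rfl⟩))
      (fun u => ⟨c u / c u₀, hmem u⟩) u₀ ?_ ?_
    · have h3 : (⟨c u₀ / c u₀, hmem u₀⟩ : B) = 1 := Subtype.ext (div_self hc0)
      rw [h3]
      exact isUnit_one
    · have h3 : ∑ u : (P : Subgroup G), (⟨c u / c u₀, hmem u⟩ : B) • f u y = 0 := by
        have h4 : ∀ u : (P : Subgroup G), (⟨c u / c u₀, hmem u⟩ : B) • f u y =
            (c u₀)⁻¹ • (c u • ρ u y) := by
          intro u
          rw [smul_smul, mul_comm, ← div_eq_mul_inv]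
          rfl
        simp only [h4, ← Finset.smul_sum, hc, smul_zero]
      rw [h3]
      exact Submodule.zero_mem _
  have hsum' : (∑ u : (P : Subgroup G), ρ u y) ∈ IsLocalRing.maximalIdeal B • L := hsum
  have hvW : v ∈ IsLocalRing.maximalIdeal B • L := by
    rw [eq_neg_of_add_eq_zero_left hTr]
    exact Submodule.neg_mem _ hsum'
  have hbot : L = ⊥ := by
    refine Submodule.eq_bot_of_le_smul_of_le_jacobson_bot (IsLocalRing.maximalIdeal B) L
      (Submodule.fg_span (Set.finite_range _)) ?_ (IsLocalRing.maximalIdeal_le_jacobson ⊥)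
    rw [Submodule.span_le]
    rintro _ ⟨g, rfl⟩
    exact hW g ⟨v, hvW, rfl⟩
  refine hv0 ((Submodule.mem_bot B).1 (hbot ▸ Submodule.subset_span ⟨1, ?_⟩))
  simp

end H24
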