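import Cfsg.Agent.H24.Arith
import Cfsg.Agent.H13.Clifford
import Cfsg.Prelude.Def_Transfer

/-!
Irreducible characters which are nonzero on exactly two classes.
-/

set_option autoImplicit false
set_option linter.unusedSectionVars false
set_option linter.style.haveILetI false

open Cfsg Module
open scoped ComplexConjugate

namespace H24

universe u

variable {G : Type u} [Group G] [Fintype G]

/-- The numerical data of a character which is nonzero on exactly two classes. -/
structure TwoData (χ : IrrCharacter G) (g : G) (b n : ℕ) : Prop where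
  ne_one : g ≠ 1
  supp : ∀ x, (χ : G → ℂ) x ≠ 0 ↔ x = 1 ∨ IsConj g x
  value : (χ : G → ℂ) g = -(b : ℂ)
  index_eq : (Subgroup.centralizer ({g} : Set G)).index = n
  degree : charDegree (χ : G → ℂ) = n * b
  card : Nat.card G = b * b * n * (n + 1)
  bpos : 0 < b
  npos : 0 < n

open scoped Classical in
theorem exists_twoData (hG : 2 < Nat.card G) (χ : IrrCharacter G)
    (hχ : Nat.card {C : ConjClasses G // ∃ g ∈ C.carrier, (χ : G → ℂ) g ≠ 0} = 2) :
    ∃ g b n, TwoData χ g b n := by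
  have hcl := H12.irr_isClassFunction χ
  let C1 : {C : ConjClasses G // ∃ g ∈ C.carrier, (χ : G → ℂ) g ≠ 0} :=
    ⟨ConjClasses.mk 1, 1, ConjClasses.mem_carrier_mk, H12.irr_apply_one_ne_zero χ⟩
  obtain ⟨D, hD, hD2⟩ := (Nat.card_eq_two_iff' C1).1 hχ
  obtain ⟨g, hgD, hg0⟩ := D.2
  have hDg : D.1 = ConjClasses.mk g := (ConjClasses.mem_carrier_iff_mk_eq.1 hgD).symm
  have hg1 : g ≠ 1 := fun h => hD (Subtype.ext (by rw [hDg, h]))
  have hsupp : ∀ x, (χ : G → ℂ) x ≠ 0 ↔ x = 1 ∨ IsConj g x := by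
    intro x
    constructor
    · intro hx
      by_cases hx1 : x = 1
      · exact Or.inl hx1
      · refine Or.inr (ConjClasses.mk_eq_mk_iff_isConj.1 ?_)
        have := hD2 ⟨ConjClasses.mk x, x, ConjClasses.mem_carrier_mk, hx⟩ (fun h => hx1 (by
          have h' := congrArg Subtype.val h
          exact isConj_one_left.1 (ConjClasses.mk_eq_mk_iff_isConj.1 h')))
        rw [← hDg, ← this]
    · rintro (rfl | h)
      · exact H12.irr_apply_one_ne_zero χ
      · rw [← H12.IsClassFunction.of_isConj hcl h]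
        exact hg0
  obtain ⟨S, hS⟩ : ∃ S : Finset G, S = ({x : G | IsConj g x} : Finset G) := ⟨_, rfl⟩
  obtain ⟨n, hn⟩ : ∃ n, n = (Subgroup.centralizer ({g} : Set G)).index := ⟨_, rfl⟩
  have hScard : S.card = n := by rw [hS, hn, index_centralizer_eq_card]
  have hn0 : 0 < n := hn ▸ Nat.pos_of_ne_zero Subgroup.index_ne_zero_of_finite
  have h1S : (1 : G) ∉ S := by
    intro h
    rw [hS, Finset.mem_filter] at h
    exact hg1 (isConj_one_left.1 h.2)
  have hsum : ∀ f : G → ℂ, (∀ x, (χ : G → ℂ) x = 0 → f x = 0) →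
      ∀ v : ℂ, (∀ x ∈ S, f x = v) → ∑ x, f x = f 1 + (n : ℂ) * v := by
    intro f hf v hv
    rw [← Finset.sum_subset (Finset.subset_univ (insert 1 S)) fun x _ hx => hf x ?_,
      Finset.sum_insert h1S, Finset.sum_congr rfl hv, Finset.sum_const, hScard, nsmul_eq_mul]
    by_contra hne
    rcases (hsupp x).1 hne with h | h
    · exact hx (Finset.mem_insert.2 (Or.inl h))
    · refine hx (Finset.mem_insert.2 (Or.inr ?_))
      rw [hS, Finset.mem_filter]
      exact ⟨Finset.mem_univ x, h⟩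
  have hconst : ∀ x ∈ S, (χ : G → ℂ) x = (χ : G → ℂ) g := by
    intro x hx
    rw [hS, Finset.mem_filter] at hx
    exact (H12.IsClassFunction.of_isConj hcl hx.2).symm
  have hχ1 : χ ≠ H12.oneIrr G := by
    intro h
    have hall : ∀ x, x ∈ insert 1 S := by
      intro x
      rcases (hsupp x).1 (by rw [h, H12.oneIrr_apply]; exact one_ne_zero) with h' | h'
      · exact Finset.mem_insert.2 (Or.inl h')
      · refine Finset.mem_insert.2 (Or.inr ?_)
        rw [hS, Finset.mem_filter]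
        exact ⟨Finset.mem_univ x, h'⟩
    have hc : Nat.card G = n + 1 := by
      rw [Nat.card_eq_fintype_card, ← Finset.card_univ, ← Finset.eq_univ_of_forall hall,
        Finset.card_insert_of_notMem h1S, hScard]
    have hd : n ∣ Nat.card G := hn ▸ Subgroup.index_dvd_card _
    rw [hc, Nat.dvd_add_right (dvd_refl n), Nat.dvd_one] at hd
    omega
  have horth : (charDegree (χ : G → ℂ) : ℂ) + (n : ℂ) * (χ : G → ℂ) g = 0 := by
    have h1 := H12.sum_mul_conj_eq_card_mul (χ : G → ℂ) (H12.oneIrr G : G → ℂ)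
    rw [H12.classInner_irr_ne hχ1, mul_zero] at h1
    simp only [H12.oneIrr_apply, map_one, mul_one] at h1
    rw [hsum _ (fun x h => h) _ hconst, irr_one] at h1
    exact h1
  obtain ⟨b, hb⟩ : n ∣ charDegree (χ : G → ℂ) := by
    refine nat_dvd_of_eq_mul (H12.IsCharacter.isIntegral (H12.isCharacter_irr χ) g).neg ?_
    linear_combination horth
  have hval : (χ : G → ℂ) g = -(b : ℂ) := by
    rw [hb, Nat.cast_mul, ← mul_add, mul_eq_zero] at horth
    exact eq_neg_of_add_eq_zero_right (horth.resolve_left (Nat.cast_ne_zero.2 hn0.ne'))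
  have hb0 : 0 < b := by
    rcases Nat.eq_zero_or_pos b with h | h
    · rw [h, mul_zero] at hb
      exact absurd hb (irr_pos χ).ne'
    · exact h
  refine ⟨g, b, n, hg1, hsupp, hval, hn.symm, hb, ?_, hb0, hn0⟩
  have h2 := H12.sum_mul_conj_eq_card_mul (χ : G → ℂ) χ
  rw [H12.classInner_irr_self, mul_one, hsum _ (fun x h => by rw [h, zero_mul]) ((b : ℂ) * b)
    (fun x hx => by rw [hconst x hx, hval]; simp), irr_one, hb] at h2
  simp only [Complex.conj_natCast] at h2
  have h3 : (n * b * (n * b) + n * (b * b) : ℕ) = Nat.card G := by exact_mod_cast h2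
  rw [← h3]
  ring

namespace TwoData

variable {χ : IrrCharacter G} {g : G} {b n : ℕ}

theorem card_centralizer (h : TwoData χ g b n) :
    Nat.card ↥(Subgroup.centralizer ({g} : Set G)) = b * b * (n + 1) := by
  have h1 := Subgroup.card_mul_index (Subgroup.centralizer ({g} : Set G))
  rw [h.index_eq, h.card] at h1
  refine Nat.eq_of_mul_eq_mul_right h.npos (h1.trans ?_)
  ring

theorem value_of_isConj (h : TwoData χ g b n) {x : G} (hx : IsConj g x) :
    (χ : G → ℂ) x = -(b : ℂ) := by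
  rw [← H12.IsClassFunction.of_isConj (H12.irr_isClassFunction χ) hx, h.value]

theorem faithful (h : TwoData χ g b n) (x : G) (hx : (χ : G → ℂ) x = (χ : G → ℂ) 1) : x = 1 := by
  by_contra h1
  rcases (h.supp x).1 (by rw [hx]; exact H12.irr_apply_one_ne_zero χ) with h2 | h2
  · exact h1 h2
  · rw [h.value_of_isConj h2, irr_one, h.degree] at hx
    have h3 : ((n * b + b : ℕ) : ℂ) = ((0 : ℕ) : ℂ) := by
      push_cast at hx ⊢
      linear_combination -hx
    have := Nat.cast_injective h3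
    have := h.bpos
    omega

open scoped Classical in
theorem sum_erase_degree_sq (h : TwoData χ g b n) :
    ∑ ψ ∈ Finset.univ.erase χ, charDegree (ψ : G → ℂ) ^ 2 = n * b * b := by
  have h1 := H12.column_orthogonality (1 : G) 1
  rw [if_pos (IsConj.refl _)] at h1
  simp only [irr_one, Complex.conj_natCast] at h1
  have h2 : Nat.card ↥(Subgroup.centralizer ({1} : Set G)) = Nat.card G := by
    rw [show Subgroup.centralizer ({1} : Set G) = ⊤ from
      eq_top_iff.2 fun x _ => Subgroup.mem_centralizer_singleton_iff.2 (by simp)]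
    exact Subgroup.card_top
  rw [h2, ← Finset.add_sum_erase _ _ (Finset.mem_univ χ), h.degree, h.card] at h1
  have h3 : n * b * (n * b) + ∑ ψ ∈ Finset.univ.erase χ, charDegree (ψ : G → ℂ) *
      charDegree (ψ : G → ℂ) = b * b * n * (n + 1) := by exact_mod_cast h1
  simp only [sq]
  nlinarith [h3]

open scoped Classical in
/-- All other irreducible characters are trivial on the class. -/
theorem mem_ker_other (h : TwoData χ g b n) (ψ : IrrCharacter G) (hψ : ψ ≠ χ) :
    g ∈ kerChar ψ := by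
  have h1 := H12.column_orthogonality g 1
  rw [if_neg fun hc => h.ne_one (isConj_one_left.1 hc)] at h1
  simp only [irr_one, Complex.conj_natCast] at h1
  rw [← Finset.add_sum_erase _ _ (Finset.mem_univ χ), h.value, h.degree] at h1
  have h2 := congrArg Complex.re h1
  simp only [Complex.add_re, Complex.re_sum, Complex.mul_re, Complex.natCast_re,
    Complex.natCast_im, mul_zero, sub_zero, Complex.neg_re, Complex.zero_re] at h2
  have h3 : ((n * b * b : ℕ) : ℝ) = ∑ ψ ∈ Finset.univ.erase χ,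
      (charDegree (ψ : G → ℂ) : ℝ) ^ 2 := by
    rw [← h.sum_erase_degree_sq]
    push_cast
    rfl
  push_cast at h2 h3
  have hle : ∀ φ ∈ Finset.univ.erase χ, ((φ : G → ℂ) g).re * (charDegree (φ : G → ℂ) : ℝ) ≤
      (charDegree (φ : G → ℂ) : ℝ) ^ 2 := by
    intro φ _
    rw [sq]
    exact mul_le_mul_of_nonneg_right ((Complex.re_le_norm _).trans
      (H12.IsCharacter.norm_le (H12.isCharacter_irr φ) g)) (Nat.cast_nonneg _)
  have h4 := (Finset.sum_eq_sum_iff_of_le hle).1 (by linarith) ψ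
    (Finset.mem_erase.2 ⟨hψ, Finset.mem_univ ψ⟩)
  have hd0 : (0 : ℝ) < (charDegree (ψ : G → ℂ) : ℝ) := Nat.cast_pos.2 (irr_pos ψ)
  rw [sq] at h4
  have h5 := mul_right_cancel₀ hd0.ne' h4
  have h6 := pow_le_pow_left₀ (norm_nonneg _) (H12.IsCharacter.norm_le (H12.isCharacter_irr ψ) g) 2
  change ‖(ψ : G → ℂ) g‖ ^ 2 ≤ (charDegree (ψ : G → ℂ) : ℝ) ^ 2 at h6
  rw [Complex.sq_norm, Complex.normSq_apply, h5] at h6
  rw [mem_kerChar, irr_one]
  apply Complex.ext
  · simpa using h5
  · simp only [Complex.natCast_im]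
    nlinarith

/-- The normal subgroup on which the character is supported. -/
noncomputable def suppSubgroup (χ : IrrCharacter G) : Subgroup G := ⨅ ψ : {ψ : IrrCharacter G // ψ ≠ χ}, kerChar ψ.1

instance suppSubgroup_normal (χ : IrrCharacter G) : (suppSubgroup χ).Normal :=
  Subgroup.normal_iInf_normal fun _ => kerChar_normal _

open scoped Classical in
theorem mem_suppSubgroup (h : TwoData χ g b n) (x : G) :
    x ∈ suppSubgroup χ ↔ (χ : G → ℂ) x ≠ 0 := by
  simp only [suppSubgroup, Subgroup.mem_iInf]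
  constructor
  · intro hx
    by_cases hx1 : x = 1
    · rw [hx1]
      exact H12.irr_apply_one_ne_zero χ
    intro h0
    have h1 := H12.column_orthogonality x 1
    rw [if_neg fun hc => hx1 (isConj_one_left.1 hc)] at h1
    simp only [irr_one, Complex.conj_natCast] at h1
    rw [← Finset.add_sum_erase _ _ (Finset.mem_univ χ), h0, zero_mul, zero_add,
      Finset.sum_congr rfl (g := fun ψ : IrrCharacter G => ((charDegree (ψ : G → ℂ) ^ 2 : ℕ) : ℂ)) fun ψ hψ => by
        rw [mem_kerChar.1 (hx ⟨ψ, Finset.ne_of_mem_erase hψ⟩), irr_one]; push_cast; ring,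
      ← Nat.cast_sum, h.sum_erase_degree_sq, Nat.cast_eq_zero] at h1
    have := h.bpos
    have := h.npos
    simp only [mul_eq_zero] at h1
    omega
  · rintro hx ⟨ψ, hψ⟩
    rcases (h.supp x).1 hx with rfl | hc
    · exact one_mem _
    · obtain ⟨c, rfl⟩ := isConj_iff.1 hc
      exact (kerChar_normal ψ).conj_mem g (h.mem_ker_other ψ hψ) c

theorem normal_inf_eq (h : TwoData χ g b n) (N : Subgroup G) (hN : ∀ x, x ∈ N ↔ (χ : G → ℂ) x ≠ 0)
    (K : Subgroup G) [K.Normal] (hK : K ≠ ⊥) : N ≤ K := by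
  classical
  by_cases hgK : g ∈ K
  · intro x hx
    rcases (h.supp x).1 ((hN x).1 hx) with rfl | hc
    · exact one_mem _
    · obtain ⟨c, rfl⟩ := isConj_iff.1 hc
      exact Subgroup.Normal.conj_mem inferInstance g hgK c
  · exfalso
    haveI := Fintype.ofFinite K
    have hz : ¬ K ≤ kerChar χ := by
      rw [kerChar_eq_bot h.faithful, le_bot_iff]
      exact hK
    have h1 := sum_normal_eq_zero χ K hz
    rw [Finset.sum_eq_single (1 : K) (fun k _ hk => ?_) (by simp)] at h1
    · exact H12.irr_apply_one_ne_zero χ h1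
    · by_contra hne
      rcases (h.supp k).1 hne with h2 | h2
      · exact hk (Subtype.ext h2)
      · obtain ⟨c, hc⟩ := isConj_iff.1 h2
        have h3 := Subgroup.Normal.conj_mem inferInstance (k : G) k.2 c⁻¹
        rw [← hc] at h3
        exact hgK (by simpa [mul_assoc] using h3)

theorem card_supp (h : TwoData χ g b n) (N : Subgroup G) (hN : ∀ x, x ∈ N ↔ (χ : G → ℂ) x ≠ 0) :
    Nat.card N = n + 1 := by
  classical
  have h1 : Nat.card N = (insert 1 ({x : G | IsConj g x} : Finset G)).card := by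
    rw [← Nat.card_eq_finsetCard]
    exact Nat.card_congr (Equiv.subtypeEquivRight fun x => by
      rw [hN, h.supp, Finset.mem_insert, Finset.mem_filter]
      simp)
  rw [h1, Finset.card_insert_of_notMem, ← index_centralizer_eq_card, h.index_eq]
  intro hc
  rw [Finset.mem_filter] at hc
  exact h.ne_one (isConj_one_left.1 hc.2)

theorem isConj_of_mem (h : TwoData χ g b n) (N : Subgroup G) (hN : ∀ x, x ∈ N ↔ (χ : G → ℂ) x ≠ 0)
    {x : G} (hx : x ∈ N) (hx1 : x ≠ 1) : IsConj g x :=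
  ((h.supp x).1 ((hN x).1 hx)).resolve_left hx1

theorem mem_g (h : TwoData χ g b n) (N : Subgroup G) (hN : ∀ x, x ∈ N ↔ (χ : G → ℂ) x ≠ 0) :
    g ∈ N :=
  (hN g).2 ((h.supp g).2 (Or.inr (IsConj.refl g)))

theorem elementaryAbelian (h : TwoData χ g b n) (N : Subgroup G) [hNn : N.Normal]
    (hN : ∀ x, x ∈ N ↔ (χ : G → ℂ) x ≠ 0) : ∃ p : ℕ, p.Prime ∧ IsElementaryAbelian p N := by
  have hcard := h.card_supp N hN
  obtain ⟨p, hp, hdvd⟩ := Nat.exists_prime_and_dvd (n := Nat.card N) (by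
    have := h.npos; omega)
  haveI : Fact p.Prime := ⟨hp⟩
  obtain ⟨⟨u, huN⟩, hu⟩ := exists_prime_orderOf_dvd_card' p hdvd
  rw [Subgroup.orderOf_mk] at hu
  have hu1 : u ≠ 1 := fun h0 => by
    rw [h0, orderOf_one] at hu
    exact hp.one_lt.ne hu
  have hpow : ∀ a ∈ N, a ^ p = 1 := by
    intro a ha
    rcases eq_or_ne a 1 with rfl | ha1
    · exact one_pow p
    obtain ⟨c, hc⟩ := isConj_iff.1 ((h.isConj_of_mem N hN huN hu1).symm.trans (h.isConj_of_mem N hN ha ha1))
    rw [← hc, conj_pow, ← hu, pow_orderOf_eq_one]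
    simp
  have hNp : IsPGroup p N := fun a => ⟨1, by
    rw [pow_one]
    exact Subtype.ext (by simpa using hpow a a.2)⟩
  haveI : Nontrivial N := ⟨⟨u, huN⟩, 1, fun h0 => hu1 (congrArg Subtype.val h0)⟩
  haveI := hNp.center_nontrivial
  obtain ⟨z, hz⟩ := exists_ne (1 : Subgroup.center N)
  refine ⟨p, hp, ⟨⟨fun a c => ?_⟩⟩, hpow⟩
  apply Subtype.ext
  show (a : G) * c = c * a
  rcases eq_or_ne (a : G) 1 with ha1 | ha1
  · simp [ha1]
  have hzG : ((z : N) : G) ≠ 1 := fun h0 => hz (Subtype.ext (Subtype.ext h0))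
  obtain ⟨d, hd⟩ := isConj_iff.1 ((h.isConj_of_mem N hN (z : N).2 hzG).symm.trans
    (h.isConj_of_mem N hN a.2 ha1))
  have hc' : d⁻¹ * (c : G) * d ∈ N := by simpa using hNn.conj_mem (c : G) c.2 d⁻¹
  have h1 : ((z : N) : G) * (d⁻¹ * (c : G) * d) = d⁻¹ * (c : G) * d * ((z : N) : G) :=
    congrArg Subtype.val (Subgroup.mem_center_iff.1 z.2 ⟨_, hc'⟩).symm
  have h2 := congrArg (fun t => d * t * d⁻¹) h1
  simp only [← hd]
  simpa [mul_assoc] using h2

variable {p : ℕ} [Fact p.Prime] (N : Subgroup G)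

theorem exists_card_eq_pow (h : TwoData χ g b n) (hN : ∀ x, x ∈ N ↔ (χ : G → ℂ) x ≠ 0)
    (hNp : IsPGroup p N) : ∃ k, 0 < k ∧ n + 1 = p ^ k := by
  obtain ⟨k, hk⟩ := IsPGroup.iff_card.1 hNp
  rw [h.card_supp N hN] at hk
  refine ⟨k, Nat.pos_of_ne_zero fun h0 => ?_, hk⟩
  rw [h0, pow_zero] at hk
  have := h.npos
  omega

theorem eq_of_prime_dvd_b (h : TwoData χ g b n) (hN : ∀ x, x ∈ N ↔ (χ : G → ℂ) x ≠ 0)
    (hNp : IsPGroup p N) {q : ℕ} (hq : q.Prime) (hqb : q ∣ b) : q = p := by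
  classical
  by_contra hne
  haveI : Fact q.Prime := ⟨hq⟩
  obtain ⟨Q⟩ := (inferInstance : Nonempty (Sylow q G))
  haveI : Fintype (Q : Subgroup G) := Fintype.ofFinite _
  obtain ⟨m, hm⟩ := sum_subgroup_eq (H12.isCharacter_irr χ) (Q : Subgroup G)
  rw [Finset.sum_eq_single (1 : (Q : Subgroup G)) (fun x _ hx => ?_) (by simp),
    OneMemClass.coe_one, irr_one, h.degree] at hm
  · have hm' : n * b = Nat.card (Q : Subgroup G) * m := by exact_mod_cast hm
    obtain ⟨k, -, hk⟩ := h.exists_card_eq_pow N hN hNp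
    have hb0 := h.bpos.ne'
    have hn0 := h.npos.ne'
    have hd : q ^ (Nat.card G).factorization q ∣ n * b := by
      rw [← Sylow.card_eq_multiplicity Q, hm']
      exact dvd_mul_right _ _
    rw [hq.pow_dvd_iff_le_factorization (mul_ne_zero hn0 hb0), Nat.factorization_mul hn0 hb0,
      h.card, Nat.factorization_mul (mul_ne_zero (mul_ne_zero hb0 hb0) hn0) (by omega),
      Nat.factorization_mul (mul_ne_zero hb0 hb0) hn0, Nat.factorization_mul hb0 hb0] at hd
    simp only [Finsupp.coe_add, Pi.add_apply] at hd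
    have := hq.factorization_pos_of_dvd hb0 hqb
    omega
  · by_contra h0
    have hxN := (hN (x : G)).2 h0
    obtain ⟨i, hi⟩ := IsPGroup.iff_orderOf.1 Q.isPGroup' x
    obtain ⟨j, hj⟩ := IsPGroup.iff_orderOf.1 hNp ⟨x, hxN⟩
    rw [Subgroup.orderOf_mk] at hj
    rw [← Subgroup.orderOf_coe] at hi
    refine hx (orderOf_eq_one_iff.1 ?_)
    rw [← Subgroup.orderOf_coe, hi]
    rcases Nat.eq_zero_or_pos i with h1 | h1
    · rw [h1, pow_zero]
    · exact absurd ((Nat.prime_dvd_prime_iff_eq hq Fact.out).1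
        (hq.dvd_of_dvd_pow (hj ▸ hi.symm ▸ dvd_pow_self q h1.ne'))) hne

/-- A subgroup of order `b * b * (n + 1)` is a Sylow subgroup. -/
theorem exists_sylow_of_card (h : TwoData χ g b n) (hN : ∀ x, x ∈ N ↔ (χ : G → ℂ) x ≠ 0)
    (hNp : IsPGroup p N) (H : Subgroup G) (hH : Nat.card H = b * b * (n + 1)) :
    ∃ P : Sylow p G, (P : Subgroup G) = H := by
  obtain ⟨k, hk0, hk⟩ := h.exists_card_eq_pow N hN hNp
  have hb : b = p ^ b.primeFactorsList.length :=
    Nat.eq_prime_pow_of_unique_prime_dvd h.bpos.ne' fun hq hqb => h.eq_of_prime_dvd_b N hN hNp hq hqb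
  have hHp : IsPGroup p H := IsPGroup.of_card (n := b.primeFactorsList.length +
    b.primeFactorsList.length + k) (by rw [hH, pow_add, pow_add, ← hb, ← hk])
  refine ⟨hHp.toSylow ?_, rfl⟩
  intro hdvd
  have h1 := Subgroup.card_mul_index H
  rw [hH, h.card] at h1
  have h2 : H.index = n := by
    have := h.bpos
    refine Nat.eq_of_mul_eq_mul_left (show 0 < b * b * (n + 1) by positivity) (h1.trans ?_)
    ring
  rw [h2] at hdvd
  have h3 : p ∣ n + 1 := hk ▸ dvd_pow_self p hk0.ne'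
  exact (Fact.out : p.Prime).not_dvd_one ((Nat.dvd_add_right hdvd).1 h3)

theorem card_centralizer_mem (h : TwoData χ g b n) (hN : ∀ x, x ∈ N ↔ (χ : G → ℂ) x ≠ 0)
    {x : G} (hx : x ∈ N) (hx1 : x ≠ 1) :
    Nat.card ↥(Subgroup.centralizer ({x} : Set G)) = b * b * (n + 1) := by
  classical
  rw [← h.card_centralizer]
  have hc := h.isConj_of_mem N hN hx hx1
  have h1 : ({y : G | IsConj x y} : Finset G) = ({y : G | IsConj g y} : Finset G) :=
    Finset.filter_congr fun y _ => ⟨fun e => hc.trans e, fun e => hc.symm.trans e⟩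
  have h2 := H12.card_conjClass_mul_card_centralizer x
  rw [h1, ← H12.card_conjClass_mul_card_centralizer g] at h2
  exact Nat.eq_of_mul_eq_mul_left
    (Finset.card_pos.2 ⟨g, Finset.mem_filter.2 ⟨Finset.mem_univ g, IsConj.refl g⟩⟩) h2

theorem card_inertia (h : TwoData χ g b n) [N.Normal] (hN : ∀ x, x ∈ N ↔ (χ : G → ℂ) x ≠ 0)
    (μ : IrrCharacter N) (hμ : (μ : N → ℂ) ≠ fun _ => 1) :
    Nat.card ↥(H13.inertia N (μ : N → ℂ)) = b * b * (n + 1) := by
  classical
  haveI : Fintype N := Fintype.ofFinite N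
  obtain ⟨q, -, hea⟩ := h.elementaryAbelian N hN
  have hμ1 : (μ : N → ℂ) 1 = 1 := by
    rw [irr_one, charDegree_eq_one_of_comm (fun a c => hea.1.is_comm.comm a c), Nat.cast_one]
  have hsum0 : ∀ ν : IrrCharacter N, ν ≠ H12.oneIrr N → ∑ x : N, (ν : N → ℂ) x = 0 := by
    intro ν hν
    have := H12.sum_mul_conj_eq_card_mul (ν : N → ℂ) (H12.oneIrr N : N → ℂ)
    rw [H12.classInner_irr_ne hν, mul_zero] at this
    simpa [H12.oneIrr_apply] using this
  obtain ⟨F, hF⟩ : ∃ F : N → ℂ, F = fun x => ∑ y : G, H13.twist N y (μ : N → ℂ) x := ⟨_, rfl⟩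
  have hne : ∀ y : G, H13.twistIrr N y μ ≠ H12.oneIrr N := by
    intro y hy
    refine hμ (funext fun x => ?_)
    have h1 := congrFun (congrArg Subtype.val hy)
      ⟨y⁻¹ * x * y, by simpa using (‹N.Normal›).conj_mem (x : G) x.2 y⁻¹⟩
    rw [H13.twistIrr_apply, H13.twist_apply] at h1
    simpa [mul_assoc, H12.oneIrr_apply] using h1
  let g' : N := ⟨g, h.mem_g N hN⟩
  have hF1 : F 1 = (Nat.card G : ℂ) := by
    simp only [hF]
    rw [Finset.sum_congr rfl (g := fun _ => (1 : ℂ)) fun y _ => ?_, Finset.sum_const,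
      Finset.card_univ, nsmul_eq_mul, mul_one, Nat.card_eq_fintype_card]
    rw [← hμ1, H13.twist_apply]
    exact congrArg (μ : N → ℂ) (Subtype.ext (by simp))
  have hFc : ∀ x : N, x ≠ 1 → F x = F g' := by
    intro x hx
    obtain ⟨c, hc⟩ := isConj_iff.1 (h.isConj_of_mem N hN x.2 fun e => hx (Subtype.ext e))
    simp only [hF, H13.twist_apply]
    refine Fintype.sum_equiv (Equiv.mulRight c) _ _ fun y => congrArg (μ : N → ℂ) (Subtype.ext ?_)
    simp [g', ← hc, mul_assoc]
  have hcN := h.card_supp N hN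
  have hsumF : ∑ x : N, F x = 0 := by
    simp only [hF]
    rw [Finset.sum_comm]
    exact Finset.sum_eq_zero fun y _ => hsum0 (H13.twistIrr N y μ) (hne y)
  have hsplit : ∀ f : N → ℂ, ∑ x, f x = f 1 + ∑ x ∈ Finset.univ.erase (1 : N), f x :=
    fun f => (Finset.add_sum_erase _ _ (Finset.mem_univ _)).symm
  have herase : ((Finset.univ.erase (1 : N)).card : ℂ) = (n : ℂ) := by
    rw [Finset.card_erase_of_mem (Finset.mem_univ _), Finset.card_univ, ← Nat.card_eq_fintype_card,
      hcN]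
    simp
  rw [hsplit, hF1, Finset.sum_congr rfl fun x hx => hFc x (Finset.ne_of_mem_erase hx),
    Finset.sum_const, nsmul_eq_mul, herase, h.card] at hsumF
  have hval : F g' = -((b * b * (n + 1) : ℕ) : ℂ) := by
    have hn0 : (n : ℂ) ≠ 0 := Nat.cast_ne_zero.2 h.npos.ne'
    refine mul_left_cancel₀ hn0 ?_
    push_cast at hsumF ⊢
    linear_combination hsumF
  have hμ0 : ∑ x : N, conj ((μ : N → ℂ) x) = 0 := by
    rw [← map_sum, hsum0 μ fun e => hμ (by rw [e]; rfl), map_zero]
  rw [hsplit, hμ1, map_one] at hμ0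
  have hinner : ∑ x : N, F x * conj ((μ : N → ℂ) x) =
      (Nat.card N : ℂ) * (Nat.card ↥(H13.inertia N (μ : N → ℂ)) : ℂ) := by
    simp only [hF, Finset.sum_mul]
    rw [Finset.sum_comm]
    simp only [H12.sum_mul_conj_eq_card_mul]
    rw [← Finset.mul_sum]
    congr 1
    have h1 : ∀ y : G, classInner (H13.twist N y (μ : N → ℂ)) (μ : N → ℂ) =
        if y ∈ H13.inertia N (μ : N → ℂ) then 1 else 0 := by
      intro y
      rw [← H13.twistIrr_apply, H12.classInner_irr]
      refine if_congr ?_ rfl rfl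
      rw [H13.mem_inertia]
      exact ⟨fun e => congrArg Subtype.val e, fun e => Subtype.ext e⟩
    simp only [h1, Finset.sum_boole, Nat.card_eq_fintype_card, Fintype.card_subtype]
  rw [hsplit, hF1, hμ1, map_one, mul_one, Finset.sum_congr rfl fun x hx => by
    rw [hFc x (Finset.ne_of_mem_erase hx)], ← Finset.mul_sum,
    eq_neg_of_add_eq_zero_right hμ0, hval, hcN, h.card] at hinner
  have h3 : (((n + 1) * Nat.card ↥(H13.inertia N (μ : N → ℂ)) : ℕ) : ℂ) =
      (((n + 1) * (b * b * (n + 1)) : ℕ) : ℂ) := by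
    push_cast at hinner ⊢
    linear_combination -hinner
  exact Nat.eq_of_mul_eq_mul_left (Nat.succ_pos n) (Nat.cast_injective h3)

open scoped Classical in
theorem card_centralizer_notMem (h : TwoData χ g b n) [N.Normal]
    (hN : ∀ x, x ∈ N ↔ (χ : G → ℂ) x ≠ 0) {x : G} (hx : x ∉ N) :
    Nat.card ↥(Subgroup.centralizer ({x} : Set G)) =
      Nat.card ↥(Subgroup.centralizer ({(x : G ⧸ N)} : Set (G ⧸ N))) := by
  haveI := Fintype.ofFinite (G ⧸ N)
  have h0 : (χ : G → ℂ) x = 0 := not_not.1 fun e => hx ((hN x).2 e)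
  have h1 := sum_norm_sq x
  have h2 := sum_norm_sq (x : G ⧸ N)
  rw [← Finset.add_sum_erase _ _ (Finset.mem_univ χ), h0, zero_mul, zero_add] at h1
  have hle : ∀ ψ : IrrCharacter G, ψ ≠ χ → N ≤ kerChar ψ := by
    intro ψ hψ y hy
    rcases eq_or_ne y 1 with rfl | hy1
    · exact one_mem _
    · obtain ⟨c, rfl⟩ := isConj_iff.1 (h.isConj_of_mem N hN hy hy1)
      exact (kerChar_normal ψ).conj_mem g (h.mem_ker_other ψ hψ) c
  have key : ∑ ψ ∈ Finset.univ.erase χ, (ψ : G → ℂ) x * (ψ : G → ℂ) x⁻¹ =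
      ∑ φ : IrrCharacter (G ⧸ N), (φ : G ⧸ N → ℂ) x * (φ : G ⧸ N → ℂ) (x : G ⧸ N)⁻¹ := by
    symm
    refine Finset.sum_bij (fun φ _ => inflate N φ) ?_ (fun a _ c _ e => inflate_injective N e) ?_ ?_
    · intro φ _
      refine Finset.mem_erase.2 ⟨fun e => ?_, Finset.mem_univ _⟩
      have h3 := le_kerChar_inflate N φ (h.mem_g N hN)
      rw [e, kerChar_eq_bot h.faithful, Subgroup.mem_bot] at h3
      exact h.ne_one h3
    · intro ψ hψ
      obtain ⟨φ, hφ⟩ := exists_deflate N ψ (hle ψ (Finset.ne_of_mem_erase hψ))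
      exact ⟨φ, Finset.mem_univ _, hφ⟩
    · intro φ _
      rfl
  rw [key, h2] at h1
  exact_mod_cast h1.symm

variable {N}

theorem not_dvd_centralizer_quot (h : TwoData χ g b n) [N.Normal]
    (hN : ∀ x, x ∈ N ↔ (χ : G → ℂ) x ≠ 0) (hNp : IsPGroup p N) {x : G} (hx : x ∉ N) (e : ℕ)
    (he : p ^ e ∣ Nat.card ↥(Subgroup.centralizer ({x} : Set G))) :
    ∃ k, 0 < k ∧ n + 1 = p ^ k ∧ e + k ≤ (Nat.card G).factorization p := by
  obtain ⟨k, hk0, hk⟩ := h.exists_card_eq_pow N hN hNp
  refine ⟨k, hk0, hk, ?_⟩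
  rw [h.card_centralizer_notMem N hN hx] at he
  have h1 : p ^ (e + k) ∣ Nat.card G := by
    rw [Subgroup.card_eq_card_quotient_mul_card_subgroup N, h.card_supp N hN, hk, pow_add]
    exact Nat.mul_dvd_mul (he.trans (Subgroup.card_subgroup_dvd_card _)) dvd_rfl
  exact ((Fact.out : p.Prime).pow_dvd_iff_le_factorization Nat.card_pos.ne').1 h1

end TwoData

end H24
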