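import Cfsg.Agent.H24.TwoClasses
import Cfsg.Agent.H24.LinearTransitive

/-!
The quotient by the `p`-core of a solvable group with a character nonzero on two classes.
-/

set_option autoImplicit false
set_option linter.unusedSectionVars false
set_option linter.style.haveILetI false

open Cfsg

namespace H24

universe u

variable {G : Type u} [Group G] [Fintype G]

theorem TwoData.quotient_pCore {χ : IrrCharacter G} {g : G} {b n : ℕ} (h : TwoData χ g b n)
    (hs : Group.IsSolvable G) :
    ∃ p : ℕ, p.Prime ∧ (∀ q : ℕ, q.Prime → (Cfsg.pCore q G ≠ ⊥ ↔ q = p)) ∧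
      Cfsg.HasNormalPComplement p (G ⧸ Cfsg.pCore p G) ∧
      ∀ Q : Sylow p (G ⧸ Cfsg.pCore p G), IsMulCommutative (Q : Subgroup (G ⧸ Cfsg.pCore p G)) := by
  classical
  set N := TwoData.suppSubgroup χ with hNdef
  have hN := h.mem_suppSubgroup
  obtain ⟨p, hp, hea⟩ := h.elementaryAbelian N hN
  haveI : Fact p.Prime := ⟨hp⟩
  have hNp : IsPGroup p N := fun a => ⟨1, by
    rw [pow_one]
    exact Subtype.ext (by simpa using hea.2 a a.2)⟩
  have hmin : ∀ K : Subgroup G, K.Normal → K ≠ ⊥ → N ≤ K := fun K hK hKb => h.normal_inf_eq N hN K hKb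
  have hgN : g ∈ N := h.mem_g N hN
  set K := Cfsg.pCore p G with hKdef
  haveI hKn : K.Normal := H1.pCore_normal' p G
  have hNK : N ≤ K := H1.le_pCore hNp
  have hKbot : K ≠ ⊥ := fun h0 => h.ne_one ((Subgroup.mem_bot).1 (h0 ▸ hNK hgN))
  refine ⟨p, hp, fun q hq => ⟨fun hne => ?_, fun he => he ▸ hKbot⟩, ?_⟩
  · by_contra hqp
    haveI : Fact q.Prime := ⟨hq⟩
    obtain ⟨s, hs'⟩ := H1.isPGroup_pCore q G ⟨g, hmin _ (H1.pCore_normal' q G) hne hgN⟩
    refine h.ne_one (eq_one_of_pow_coprime (a := q ^ s) (b := p) ?_ (hea.2 g hgN)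
      (((Nat.coprime_primes hq hp).2 hqp).pow_left s))
    simpa using congrArg Subtype.val hs'
  -- the centraliser of `N` is `K`
  have hcent : ∀ x ∈ N, x ≠ 1 → IsPGroup p (Subgroup.centralizer ({x} : Set G)) := by
    intro x hx hx1
    obtain ⟨P, hP⟩ := h.exists_sylow_of_card N hN hNp _ (h.card_centralizer_mem N hN hx hx1)
    exact hP ▸ P.isPGroup'
  have hC : Subgroup.centralizer (N : Set G) = K := by
    haveI : N.Normal := TwoData.suppSubgroup_normal χ
    haveI : (Subgroup.centralizer (N : Set G)).Normal := Subgroup.normal_centralizer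
    refine le_antisymm (H1.le_pCore ((hcent g hgN h.ne_one).to_le
      (Subgroup.centralizer_le (Set.singleton_subset_iff.2 hgN)))) ?_
    haveI : Nontrivial K := K.nontrivial_iff_ne_bot.2 hKbot
    haveI := (H1.isPGroup_pCore p G).center_nontrivial
    have hZn : ((Subgroup.center K).map K.subtype).Normal := inferInstance
    have hZb : (Subgroup.center K).map K.subtype ≠ ⊥ := by
      rw [Ne, Subgroup.map_eq_bot_iff_of_injective _ K.subtype_injective, ← Ne,
        ← Subgroup.nontrivial_iff_ne_bot]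
      infer_instance
    intro x hx
    refine Subgroup.mem_centralizer_iff.2 fun s hs' => ?_
    obtain ⟨z, hz, rfl⟩ := hmin _ hZn hZb hs'
    exact congrArg Subtype.val (Subgroup.mem_center_iff.1 hz ⟨x, hx⟩).symm
  haveI : N.Normal := TwoData.suppSubgroup_normal χ
  letI : CommGroup N :=
    { (inferInstance : Group N) with mul_comm := fun a c => hea.1.is_comm.comm a c }
  have hker : ∀ x : G, x ∈ K ↔ (MulAut.conjNormal x : MulAut N) = 1 := by
    intro x
    rw [← hC, Subgroup.mem_centralizer_iff]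
    constructor
    · intro hx
      refine MulEquiv.ext fun s => Subtype.ext ?_
      rw [MulAut.conjNormal_apply, ← hx s s.2]
      simp
    · intro hx s hs'
      have h1 : x * s * x⁻¹ = s := by
        simpa using congrArg Subtype.val (DFunLike.congr_fun hx ⟨s, hs'⟩)
      exact (mul_inv_eq_iff_eq_mul.1 h1).symm
  let ρ : G ⧸ K →* MulAut N := QuotientGroup.lift K MulAut.conjNormal fun x hx => (hker x).1 hx
  have hρ : ∀ x : G, ρ (x : G ⧸ K) = MulAut.conjNormal x := fun x => rfl
  haveI hsX : Group.IsSolvable (G ⧸ K) :=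
    Group.isSolvable_of_surjective (f := QuotientGroup.mk' K) (QuotientGroup.mk'_surjective K)
  refine LinData.complement (ρ := ρ) ⟨?_, ?_, ?_, ?_, ?_, H1.pCore_quotient_pCore p G⟩ hsX
  · refine (injective_iff_map_eq_one ρ).2 fun a ha => ?_
    induction a using QuotientGroup.induction_on with
    | _ x => exact (QuotientGroup.eq_one_iff x).2 ((hker x).2 ha)
  · exact N.nontrivial_iff_ne_bot.2 fun h0 => h.ne_one ((Subgroup.mem_bot).1 (h0 ▸ hgN))
  · exact fun v => Subtype.ext (by simpa using hea.2 v v.2)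
  · intro a v hv hfix
    induction a using QuotientGroup.induction_on with
    | _ x =>
      have h1 : x * v * x⁻¹ = v := by simpa [hρ] using congrArg Subtype.val hfix
      obtain ⟨s, hs'⟩ := hcent v v.2 (fun h0 => hv (Subtype.ext h0))
        ⟨x, Subgroup.mem_centralizer_singleton_iff.2 (mul_inv_eq_iff_eq_mul.1 h1)⟩
      refine ⟨s, ?_⟩
      rw [← QuotientGroup.mk_pow,
        show x ^ p ^ s = 1 by simpa using congrArg Subtype.val hs', QuotientGroup.mk_one]
  · intro v w hv hw
    obtain ⟨c, hc⟩ := isConj_iff.1 ((h.isConj_of_mem N hN v.2 fun h0 => hv (Subtype.ext h0)).symm.trans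
      (h.isConj_of_mem N hN w.2 fun h0 => hw (Subtype.ext h0)))
    exact ⟨(c : G ⧸ K), Subtype.ext (by rw [hρ, MulAut.conjNormal_apply, hc])⟩

end H24
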